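import Cfsg.Agent.MinSimple.VModule
import Mathlib
import Cfsg.Agent.Mrg.Omega.S5.Def

section


/-!
# #14261 (2.4): the passage `c ∈ O ∩ F^L ⟹ c ∈ O₂(N)` (helper439; without `O²`-theory: `oddGen`)

`O ⊴ C ⊴ N`, `F ⊆ N` centralises `C` modulo `O₂(N)`, `L ≤ ⟨F, N_G(O)⟩`. A 2-element `c = f ^ l` of `O` is in `O₂(N)`.
-/

set_option autoImplicit false

namespace Cfsg.Agent.Omega.TTn.DiCoreAbs

open Subgroup Cfsg Cfsg.Agent.ZN Cfsg.Agent.MinSimple.VModule

variable {G : Type*} [Group G]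

/-- `P = O²(P) S`. -/
theorem oddGen_sup [Finite G] {P S : Subgroup G} (hSP : S ≤ P) (hSyl : ¬ 2 ∣ S.relIndex P) :
    oddGen P ⊔ S = P := by
  have : Fact (Nat.Prime 2) := ⟨Nat.prime_two⟩
  apply le_antisymm (sup_le (oddGen_le P) hSP)
  have hN : ((oddGen P).subgroupOf P).Normal := normal_subgroupOf_of_le_normalizer (le_normalizer_oddGen P)
  have h1 : IsPGroup 2 (P ⧸ (oddGen P).subgroupOf P) := by
    intro q
    obtain ⟨x, rfl⟩ := QuotientGroup.mk_surjective q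
    obtain ⟨a, m, hm, ha⟩ := Nat.exists_eq_pow_mul_and_not_dvd (orderOf_pos (x : G)).ne' 2 (by norm_num)
    refine ⟨a, ?_⟩
    rw [← QuotientGroup.mk_pow, QuotientGroup.eq_one_iff, mem_subgroupOf]
    refine mem_oddGen (P.pow_mem x.2 _) ?_
    have hm0 : 0 < m := Nat.pos_of_ne_zero (by rintro rfl; simp at hm)
    have h2 : orderOf ((x : G) ^ 2 ^ a) = m := by
      rw [orderOf_pow_of_dvd (by positivity) (ha ▸ Dvd.intro _ rfl), ha, Nat.mul_div_cancel_left _ (by positivity)]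
    rw [coe_pow, h2]
    exact Nat.not_even_iff_odd.1 fun h => hm h.two_dvd
  obtain ⟨k, hk⟩ := IsPGroup.iff_card.1 h1
  have h2 : (oddGen P ⊔ S).relIndex P ∣ 2 ^ k := by
    have h3 : (oddGen P ⊔ S).relIndex P ∣ (oddGen P).relIndex P := relIndex_dvd_of_le_left _ le_sup_left
    have h4 : (oddGen P).relIndex P = 2 ^ k := by
      rw [← hk, relIndex, index_eq_card]
    rwa [h4] at h3
  obtain ⟨j, -, hj⟩ := (Nat.dvd_prime_pow Nat.prime_two).1 h2
  have h5 : (oddGen P ⊔ S).relIndex P ∣ S.relIndex P := relIndex_dvd_of_le_left _ le_sup_right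
  rw [hj] at h5
  rcases Nat.eq_zero_or_pos j with rfl | hj0
  · rw [pow_zero] at hj
    exact relIndex_eq_one.1 hj
  · exact absurd ((dvd_pow_self 2 hj0.ne').trans h5) hSyl

theorem mem_norm_of {H : Subgroup G} [Finite G] {g : G} (h : ∀ x ∈ H, g * x * g⁻¹ ∈ H) :
    g ∈ normalizer (H : Set G) := by
  rw [mem_normalizer_iff]
  intro x
  refine ⟨h x, fun hx => ?_⟩
  have h1 : ∀ k : ℕ, ∀ y ∈ H, g ^ k * y * (g ^ k)⁻¹ ∈ H := by
    intro k
    induction k with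
    | zero => intro y hy; simpa using hy
    | succ k ih =>
      intro y hy
      have h2 := ih _ (h y hy)
      have h3 : g ^ (k + 1) * y * (g ^ (k + 1))⁻¹ = g ^ k * (g * y * g⁻¹) * (g ^ k)⁻¹ := by
        rw [pow_succ]; group
      rwa [h3]
  have h2 := h1 (orderOf g - 1) _ hx
  have h3 : g ^ (orderOf g - 1) * g = 1 := by
    rw [← pow_succ, Nat.sub_add_cancel (orderOf_pos g), pow_orderOf_eq_one]
  have h4 : g ^ (orderOf g - 1) = g⁻¹ := eq_inv_of_mul_eq_one_left h3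
  rw [h4] at h2
  have h5 : g⁻¹ * (g * x * g⁻¹) * g⁻¹⁻¹ = x := by group
  rwa [h5] at h2

/-- the centraliser of `E` modulo `D` inside `O` -/
def cmod (O E D : Subgroup G) (hED : ∀ g ∈ O, ∀ x ∈ D, g * x * g⁻¹ ∈ D) : Subgroup G where
  carrier := {g | g ∈ O ∧ ∀ e ∈ E, g * e * g⁻¹ * e⁻¹ ∈ D}
  one_mem' := ⟨one_mem _, fun e _ => by
    have : (1 : G) * e * 1⁻¹ * e⁻¹ = 1 := by group
    rw [this]; exact one_mem _⟩
  mul_mem' := by
    rintro x y ⟨hx, hx'⟩ ⟨hy, hy'⟩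
    refine ⟨mul_mem hx hy, fun e he => ?_⟩
    have e1 : x * y * e * (x * y)⁻¹ * e⁻¹ = x * (y * e * y⁻¹ * e⁻¹) * x⁻¹ * (x * e * x⁻¹ * e⁻¹) := by group
    rw [e1]
    exact mul_mem (hED x hx _ (hy' e he)) (hx' e he)
  inv_mem' := by
    rintro x ⟨hx, hx'⟩
    refine ⟨inv_mem hx, fun e he => ?_⟩
    have e1 : x⁻¹ * e * x⁻¹⁻¹ * e⁻¹ = x⁻¹ * (x * e * x⁻¹ * e⁻¹)⁻¹ * x⁻¹⁻¹ := by group
    rw [e1]
    exact hED x⁻¹ (inv_mem hx) _ (inv_mem (hx' e he))

/-- **(2.4)** -/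
theorem core_abs [Finite G] {N C O L : Subgroup G} {F : Set G} (hCN : C ≤ N)
    (hC : N ≤ normalizer (C : Set G)) (hOC : O ≤ C) (hO : C ≤ normalizer (O : Set G))
    (hQO : o2 N ≤ normalizer (O : Set G)) (hFN : ∀ f ∈ F, f ∈ N)
    (hF : ∀ f ∈ F, ∀ c ∈ O, f * c * f⁻¹ * c⁻¹ ∈ o2 N)
    (hL : (L : Set G) ⊆ closure (F ∪ (normalizer (O : Set G) : Set G))) {c l f : G} (hl : l ∈ L) (hf : f ∈ F)
    (hcf : c = l * f * l⁻¹) (hc : c ∈ O) {k : ℕ} (hk : c ^ 2 ^ k = 1) : c ∈ o2 N := by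
  have : Fact (Nat.Prime 2) := ⟨Nat.prime_two⟩
  set E := oddGen O with hE
  have hEO : E ≤ O := oddGen_le O
  -- `O²(O O₂(N)) = O²(O)`
  have hE2 : oddGen (O ⊔ o2 N) = E := by
    refine le_antisymm ?_ (oddGen_mono le_sup_left)
    have h1 : oddGen (O ⊔ o2 N) ≤ O := oddGen_le_of_sup (K := O) (S := o2 N) (sup_le le_normalizer hQO)
      le_rfl le_sup_right le_sup_left (o2_isPGroup N)
    rw [oddGen_def, closure_le]
    rintro x ⟨hx, ho⟩
    exact mem_oddGen (h1 (mem_oddGen hx ho)) ho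
  -- `F` normalises `O O₂(N)`
  have hFn : ∀ f ∈ F, f ∈ normalizer (E : Set G) := by
    intro f hf
    have h1 : f ∈ normalizer ((O ⊔ o2 N : Subgroup G) : Set G) := by
      refine mem_norm_of fun x hx => ?_
      have h2 : (O ⊔ o2 N) ≤ (O ⊔ o2 N).comap (MulAut.conj f).toMonoidHom := by
        refine sup_le (fun x hx => ?_) fun x hx => ?_
        · rw [mem_comap]
          change f * x * f⁻¹ ∈ _
          have h3 : f * x * f⁻¹ = f * x * f⁻¹ * x⁻¹ * x := by group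
          rw [h3]
          exact mul_mem (mem_sup_right (hF f hf x hx)) (mem_sup_left hx)
        · rw [mem_comap]
          change f * x * f⁻¹ ∈ _
          exact mem_sup_right ((mem_normalizer_iff.1 (le_normalizer_o2 N (hFN f hf)) x).1 hx)
      exact h2 hx
    have h2 := normalizer_le_normalizer_oddGen _ h1
    rwa [hE2] at h2
  have hLE : L ≤ normalizer (E : Set G) := by
    intro g hg
    have h1 : closure (F ∪ (normalizer (O : Set G) : Set G)) ≤ normalizer (E : Set G) := by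
      rw [closure_le]
      rintro x (hx | hx)
      · exact hFn x hx
      · exact normalizer_le_normalizer_oddGen O hx
    exact h1 (hL hg)
  -- `[F, E] ≤ O₂(E)`
  have hEN : E ≤ N := hEO.trans (hOC.trans hCN)
  have hEo : E ⊓ o2 N ≤ o2 E := by
    refine le_o2 inf_le_left ((o2_isPGroup N).to_le inf_le_right) fun x hx => ?_
    refine mem_norm_of fun y hy => mem_inf.2 ⟨mul_mem (mul_mem hx hy.1) (inv_mem hx), ?_⟩
    exact (mem_normalizer_iff.1 (le_normalizer_o2 N (hEN hx)) y).1 hy.2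
  have hFE : ∀ f ∈ F, ∀ e ∈ E, f * e * f⁻¹ * e⁻¹ ∈ o2 E := fun f hf e he =>
    hEo (mem_inf.2 ⟨mul_mem ((mem_normalizer_iff.1 (hFn f hf) e).1 he) (inv_mem he), hF f hf e (hEO he)⟩)
  have hno : normalizer (E : Set G) ≤ normalizer (o2 E : Set G) := by
    intro g hg
    refine mem_norm_of fun x hx => ?_
    have h1 : (o2 E).map (MulAut.conj g).toMonoidHom ≤ o2 E := by
      refine le_o2 ?_ ((o2_isPGroup E).map _) ?_
      · rintro _ ⟨y, hy, rfl⟩
        exact (mem_normalizer_iff.1 hg y).1 (o2_le E hy)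
      · intro e he
        refine mem_norm_of ?_
        rintro _ ⟨y, hy, rfl⟩
        have h2 : g⁻¹ * e * g ∈ E := by
          have := (mem_normalizer_iff.1 (inv_mem hg) e).1 he
          rwa [inv_inv] at this
        refine ⟨g⁻¹ * e * g * y * (g⁻¹ * e * g)⁻¹, (mem_normalizer_iff.1 (le_normalizer_o2 E h2) y).1 hy, ?_⟩
        change g * (g⁻¹ * e * g * y * (g⁻¹ * e * g)⁻¹) * g⁻¹ = e * (g * y * g⁻¹) * e⁻¹
        group
    exact h1 ⟨x, hx, rfl⟩
  have hOE : O ≤ normalizer (o2 E : Set G) := (le_normalizer_oddGen O).trans hno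
  have hOD : ∀ g ∈ O, ∀ x ∈ o2 E, g * x * g⁻¹ ∈ o2 E := fun g hg x hx =>
    (mem_normalizer_iff.1 (hOE hg) x).1 hx
  set C₁ := cmod O E (o2 E) hOD with hC₁
  have hC₁O : C₁ ≤ O := fun g hg => hg.1
  -- `c ∈ C₁`
  have hc₁ : c ∈ C₁ := by
    refine ⟨hc, fun e he => ?_⟩
    have h1 : l⁻¹ * e * l ∈ E := by
      have := (mem_normalizer_iff.1 (inv_mem (hLE hl)) e).1 he
      rwa [inv_inv] at this
    have h2 := hFE f hf _ h1
    have h3 := (mem_normalizer_iff.1 (hno (hLE hl)) _).1 h2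
    have h4 : l * (f * (l⁻¹ * e * l) * f⁻¹ * (l⁻¹ * e * l)⁻¹) * l⁻¹ = c * e * c⁻¹ * e⁻¹ := by
      rw [hcf]; group
    rwa [h4] at h3
  have hC₁n : O ≤ normalizer (C₁ : Set G) := by
    intro g hg
    refine mem_norm_of fun x hx => ⟨mul_mem (mul_mem hg hx.1) (inv_mem hg), fun e he => ?_⟩
    have hgE := le_normalizer_oddGen O hg
    have h1 : g⁻¹ * e * g ∈ E := by
      have := (mem_normalizer_iff.1 (inv_mem hgE) e).1 he
      rwa [inv_inv] at this
    have h2 := hOD g hg _ (hx.2 _ h1)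
    have h3 : g * (x * (g⁻¹ * e * g) * x⁻¹ * (g⁻¹ * e * g)⁻¹) * g⁻¹ = g * x * g⁻¹ * e * (g * x * g⁻¹)⁻¹ * e⁻¹ := by
      group
    rwa [h3] at h2
  -- a Sylow 2-subgroup of `C₁` which contains `c`
  have hz : IsPGroup 2 (zpowers (⟨c, hc₁⟩ : C₁)) := by
    rw [IsPGroup.iff_orderOf]
    rintro ⟨x, hx⟩
    obtain ⟨j, hj⟩ := mem_zpowers_iff.1 hx
    have h1 : orderOf (⟨x, hx⟩ : zpowers (⟨c, hc₁⟩ : C₁)) ∣ 2 ^ k := by
      rw [orderOf_dvd_iff_pow_eq_one]
      apply Subtype.ext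
      change x ^ 2 ^ k = 1
      rw [← hj, ← zpow_natCast, ← zpow_mul, mul_comm, zpow_mul, zpow_natCast]
      have h2 : (⟨c, hc₁⟩ : C₁) ^ 2 ^ k = 1 := Subtype.ext (by rw [coe_pow]; exact hk)
      rw [h2, one_zpow]
    obtain ⟨m, -, hm⟩ := (Nat.dvd_prime_pow Nat.prime_two).1 h1
    exact ⟨m, hm⟩
  obtain ⟨R', hR'⟩ := hz.exists_le_sylow
  set R : Subgroup G := (R' : Subgroup C₁).map C₁.subtype with hR
  have hRC : R ≤ C₁ := map_subtype_le _
  have hRp : IsPGroup 2 R := R'.isPGroup'.map _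
  have hcR : c ∈ R := ⟨⟨c, hc₁⟩, hR' (mem_zpowers _), rfl⟩
  have hRs : ¬ 2 ∣ R.relIndex C₁ := by
    have h1 : R.subgroupOf C₁ = (R' : Subgroup C₁) := by
      rw [hR, subgroupOf, comap_map_eq_self_of_injective C₁.subtype_injective]
    rw [relIndex, h1]
    exact R'.not_dvd_index
  have hgen := oddGen_sup hRC hRs
  -- `O₂(E) ≤ R`
  have hEC : o2 E ≤ C₁ := by
    intro x hx
    refine ⟨hEO (o2_le E hx), fun e he => ?_⟩
    have h1 := (mem_normalizer_iff.1 (le_normalizer_o2 E he) _).1 (inv_mem hx)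
    have h2 : x * e * x⁻¹ * e⁻¹ = x * (e * x⁻¹ * e⁻¹) := by group
    rw [h2]
    exact mul_mem hx h1
  have hER : o2 E ≤ R := by
    have h1 : o2 E ≤ o2 C₁ := le_o2 hEC (o2_isPGroup E) (hC₁O.trans hOE)
    exact h1.trans (o2_le_of_sylow hRp hRs)
  -- `R` is normal in `C₁`
  have hRn : C₁ ≤ normalizer (R : Set G) := by
    have h1 : oddGen C₁ ≤ normalizer (R : Set G) := by
      intro x hx
      have hxE : x ∈ E := oddGen_mono hC₁O hx
      have hxC : x ∈ C₁ := oddGen_le C₁ hx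
      refine mem_norm_of fun r hr => ?_
      have h2 := (hRC hr).2 x hxE
      have h3 : x * r * x⁻¹ = (r * x * r⁻¹ * x⁻¹)⁻¹ * r := by group
      rw [h3]
      exact mul_mem (inv_mem (hER h2)) hr
    calc C₁ = oddGen C₁ ⊔ R := hgen.symm
      _ ≤ _ := sup_le h1 le_normalizer
  have h1 : c ∈ o2 C₁ := le_o2 hRC hRp hRn hcR
  have hno2 : ∀ {A B : Subgroup G}, B ≤ A → A ≤ normalizer (B : Set G) → o2 B ≤ o2 A := by
    intro A B hBA hAB
    refine le_o2 ((o2_le B).trans hBA) (o2_isPGroup B) ?_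
    intro g hg
    refine mem_norm_of fun x hx => ?_
    have h1 : (o2 B).map (MulAut.conj g).toMonoidHom ≤ o2 B := by
      refine le_o2 ?_ ((o2_isPGroup B).map _) ?_
      · rintro _ ⟨y, hy, rfl⟩
        exact (mem_normalizer_iff.1 (hAB hg) y).1 (o2_le B hy)
      · intro e he
        refine mem_norm_of ?_
        rintro _ ⟨y, hy, rfl⟩
        have h2 : g⁻¹ * e * g ∈ B := by
          have := (mem_normalizer_iff.1 (inv_mem (hAB hg)) e).1 he
          rwa [inv_inv] at this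
        refine ⟨g⁻¹ * e * g * y * (g⁻¹ * e * g)⁻¹, (mem_normalizer_iff.1 (le_normalizer_o2 B h2) y).1 hy, ?_⟩
        change g * (g⁻¹ * e * g * y * (g⁻¹ * e * g)⁻¹) * g⁻¹ = e * (g * y * g⁻¹) * e⁻¹
        group
    exact h1 ⟨x, hx, rfl⟩
  exact hno2 hCN hC (hno2 hOC hO (hno2 hC₁O hC₁n h1))

end Cfsg.Agent.Omega.TTn.DiCoreAbs

end

section


/-!
# The transvection calculus of THEOREM B1 (helper429, bb OMEGA #13318, (0) and (1))

`A` is an abelian group of exponent `2`, `Om ⊆ A` one class under `X`, and `Wf c` (`c ∈ Om`) is an equivariant family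
of groups of transvections with centre `c`.
* `Dat.sym` = (s1): `[Wf c, d] ≠ 1 → [Wf d, c] ≠ 1`;
* `Dat.s2`: `w ∈ Wf c` which commutes with `d` has the same fixed points in `A` as some `w' ∈ Wf d` if `[Wf d, c] ≠ 1`;
* `Dat.all` = (1): if `n, n * s ∈ Om` have different functionals, `s` is fixed by everybody, then an element of `Wf n`
  which centralises one `d₀ ∈ Om` with `[Wf n, d₀] ≠ 1` centralises `Om`.
-/

set_option autoImplicit false

namespace Cfsg.Agent.Omega.TTn.Calc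

open Subgroup

variable {G : Type*} [Group G]

/-- transvections `Wf c` with centre `c ∈ Om` on `A` -/
structure Dat (X A : Subgroup G) (Om : Set G) (Wf : G → Subgroup G) : Prop where
  comm : ∀ u ∈ A, ∀ v ∈ A, u * v = v * u
  sq : ∀ u ∈ A, u * u = 1
  norm : ∀ g ∈ X, ∀ u ∈ A, g * u * g⁻¹ ∈ A
  OmA : ∀ c ∈ Om, c ∈ A
  OmX : ∀ g ∈ X, ∀ c ∈ Om, g * c * g⁻¹ ∈ Om
  trans : ∀ c ∈ Om, ∀ d ∈ Om, ∃ g ∈ X, g * c * g⁻¹ = d
  WX : ∀ c ∈ Om, ∀ w ∈ Wf c, w ∈ X
  eqv : ∀ g ∈ X, ∀ c ∈ Om, ∀ w ∈ Wf c, g * w * g⁻¹ ∈ Wf (g * c * g⁻¹)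
  cen : ∀ c ∈ Om, ∀ w ∈ Wf c, w * c = c * w
  act : ∀ c ∈ Om, ∀ w ∈ Wf c, ∀ u ∈ A, w * u * w⁻¹ = u ∨ w * u * w⁻¹ = u * c

theorem conj_eq_iff {w u : G} : w * u * w⁻¹ = u ↔ w * u = u * w :=
  ⟨fun h => by
    calc w * u = w * u * w⁻¹ * w := by group
      _ = u * w := by rw [h], fun h => by rw [h]; group⟩

theorem comm_conj_iff {g w u : G} : g * w * g⁻¹ * u = u * (g * w * g⁻¹) ↔ w * (g⁻¹ * u * g) = g⁻¹ * u * g * w := by
  constructor
  · intro h
    calc w * (g⁻¹ * u * g) = g⁻¹ * (g * w * g⁻¹ * u) * g := by group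
      _ = g⁻¹ * u * g * w := by rw [h]; group
  · intro h
    calc g * w * g⁻¹ * u = g * (w * (g⁻¹ * u * g)) * g⁻¹ := by group
      _ = u * (g * w * g⁻¹) := by rw [h]; group

namespace Dat

variable {X A : Subgroup G} {Om : Set G} {Wf : G → Subgroup G}

theorem move (h : Dat X A Om Wf) {c w u : G} (hc : c ∈ Om) (hw : w ∈ Wf c) (hu : u ∈ A) (hm : w * u ≠ u * w) :
    w * u * w⁻¹ = u * c :=
  (h.act c hc w hw u hu).resolve_left fun e => hm (conj_eq_iff.mp e)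

theorem move_iff (h : Dat X A Om Wf) {c w u : G} (hc : c ∈ Om) (h1 : c ≠ 1) (hw : w ∈ Wf c) (hu : u ∈ A) :
    w * u ≠ u * w ↔ w * u * w⁻¹ = u * c := by
  refine ⟨h.move hc hw hu, fun h0 h2 => h1 ?_⟩
  rw [← conj_eq_iff, h0] at h2
  exact mul_eq_left.mp h2

/-- additivity in the first variable -/
theorem mul_comm_iff (h : Dat X A Om Wf) {c w w' u : G} (hc : c ∈ Om) (hw : w ∈ Wf c) (hw' : w' ∈ Wf c)
    (hu : u ∈ A) : w * w' * u = u * (w * w') ↔ (w * u = u * w ↔ w' * u = u * w') := by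
  have hcA := h.OmA c hc
  have e0 : w * w' * u * (w * w')⁻¹ = w * (w' * u * w'⁻¹) * w⁻¹ := by group
  rw [← conj_eq_iff, e0]
  by_cases h1 : w' * u = u * w'
  · rw [conj_eq_iff.mpr h1, conj_eq_iff]
    tauto
  · have h2 := h.move hc hw' hu h1
    have hc1 : c ≠ 1 := fun h3 => h1 (conj_eq_iff.mp (by rw [h2, h3, mul_one]))
    have h3 : w * (u * c) * w⁻¹ = w * u * w⁻¹ * c := by
      have := conj_eq_iff.mpr (h.cen c hc w hw)
      calc w * (u * c) * w⁻¹ = w * u * w⁻¹ * (w * c * w⁻¹) := by group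
        _ = w * u * w⁻¹ * c := by rw [this]
    rw [h2, h3]
    by_cases h4 : w * u = u * w
    · rw [conj_eq_iff.mpr h4]
      have : u * c ≠ u := fun h5 => hc1 (mul_eq_left.mp h5)
      tauto
    · rw [h.move hc hw hu h4, mul_assoc, h.sq c hcA, mul_one]
      tauto

/-- additivity in the second variable -/
theorem comm_mul_iff (h : Dat X A Om Wf) {c w u v : G} (hc : c ∈ Om) (hw : w ∈ Wf c)
    (hu : u ∈ A) (hv : v ∈ A) : w * (u * v) = u * v * w ↔ (w * u = u * w ↔ w * v = v * w) := by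
  have hcA := h.OmA c hc
  have e0 : w * (u * v) * w⁻¹ = (w * u * w⁻¹) * (w * v * w⁻¹) := by group
  rw [← conj_eq_iff, e0]
  by_cases h1 : w * u = u * w
  · rw [conj_eq_iff.mpr h1, mul_right_inj, conj_eq_iff]
    tauto
  · have h2 := h.move hc hw hu h1
    have hc1 : c ≠ 1 := fun h3 => h1 (conj_eq_iff.mp (by rw [h2, h3, mul_one]))
    rw [h2]
    by_cases h3 : w * v = v * w
    · rw [conj_eq_iff.mpr h3]
      have : u * c * v ≠ u * v := fun h4 => hc1 (by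
        have := mul_right_cancel h4
        exact mul_eq_left.mp this)
      tauto
    · rw [h.move hc hw hv h3]
      have : u * c * (v * c) = u * v := by
        calc u * c * (v * c) = u * (c * v) * c := by group
          _ = u * v * (c * c) := by rw [h.comm c hcA v hv]; group
          _ = u * v := by rw [h.sq c hcA, mul_one]
      tauto

/-- the functional of `w` as a set -/
def mv (A : Subgroup G) (w : G) : Set G := {u | u ∈ A ∧ w * u ≠ u * w}

theorem mv_eq_iff {w w' : G} : mv A w = mv A w' ↔ ∀ u ∈ A, (w * u = u * w ↔ w' * u = u * w') := by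
  constructor
  · intro h u hu
    have := Set.ext_iff.mp h u
    simp only [mv, Set.mem_ofPred_eq] at this
    tauto
  · intro h
    ext u
    simp only [mv, Set.mem_ofPred_eq]
    have := h u
    tauto

/-- The basic computation: `w ∈ Wf c` commutes with `d` and `v ∈ Wf d` moves `c`. -/
theorem s2' (h : Dat X A Om Wf) {c d w v : G} (hc : c ∈ Om) (hd : d ∈ Om) (hw : w ∈ Wf c) (hwd : w * d = d * w)
    (hv : v ∈ Wf d) (hvc : v * c ≠ c * v) :
    ∃ w' ∈ Wf d, ∀ u ∈ A, (w' * u = u * w' ↔ w * u = u * w) := by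
  have h1 : w * v * w⁻¹ ∈ Wf d := by
    have := h.eqv w (h.WX c hc w hw) d hd v hv
    rwa [conj_eq_iff.mpr hwd] at this
  refine ⟨w * v * w⁻¹ * v, mul_mem h1 hv, fun u hu => ?_⟩
  rw [h.mul_comm_iff hd h1 hv hu, comm_conj_iff]
  have h2 := h.act c hc w⁻¹ (inv_mem hw) u hu
  have h3 : w⁻¹ * u = u * w⁻¹ ↔ w * u = u * w := by
    constructor
    · intro h4
      calc w * u = w * (u * w⁻¹) * w := by group
        _ = u * w := by rw [← h4]; group
    · intro h4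
      calc w⁻¹ * u = w⁻¹ * (u * w) * w⁻¹ := by group
        _ = u * w⁻¹ := by rw [← h4]; group
  by_cases h4 : w * u = u * w
  · have h5 : w⁻¹ * u * w = u := by
      have := conj_eq_iff.mpr (h3.mpr h4)
      rwa [inv_inv] at this
    rw [h5]
    tauto
  · have h5 : w⁻¹ * u * w = u * c := by
      have := h.move hc (inv_mem hw) hu (fun h6 => h4 (h3.mp h6))
      rwa [inv_inv] at this
    rw [h5, h.comm_mul_iff hd hv hu (h.OmA c hc)]
    tauto

/-- the functionals of `Wf c` -/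
def Fs (A : Subgroup G) (Wf : G → Subgroup G) (c : G) : Set (Set G) := {s | ∃ w ∈ Wf c, mv A w = s}

theorem Fs_finite [Finite G] (c : G) : (Fs A Wf c).Finite := by
  have : Fs A Wf c = (mv A) '' (Wf c : Set G) := rfl
  rw [this]
  exact (Set.toFinite _).image _

theorem mem_conj (h : Dat X A Om Wf) {g u : G} (hg : g ∈ X) : g * u * g⁻¹ ∈ A ↔ u ∈ A := by
  constructor
  · intro h1
    have := h.norm g⁻¹ (inv_mem hg) _ h1
    have e : g⁻¹ * (g * u * g⁻¹) * g⁻¹⁻¹ = u := by group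
    rwa [e] at this
  · exact h.norm g hg u

theorem Fs_ncard_le [Finite G] (h : Dat X A Om Wf) {c g : G} (hc : c ∈ Om) (hg : g ∈ X) :
    (Fs A Wf c).ncard ≤ (Fs A Wf (g * c * g⁻¹)).ncard := by
  refine Set.ncard_le_ncard_of_injOn (fun s => {u | g⁻¹ * u * g ∈ s}) ?_ ?_ (Fs_finite _)
  · rintro s ⟨w, hw, rfl⟩
    refine ⟨g * w * g⁻¹, h.eqv g hg c hc w hw, ?_⟩
    ext u
    simp only [mv, Set.mem_ofPred_eq]
    have e : g⁻¹ * u * g ∈ A ↔ u ∈ A := by
      have := h.mem_conj (u := u) (inv_mem hg)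
      rwa [inv_inv] at this
    rw [e, Ne, comm_conj_iff]
  · intro s _ t _ hst
    ext u
    have := Set.ext_iff.mp hst (g * u * g⁻¹)
    simp only [Set.mem_ofPred_eq] at this
    have e : g⁻¹ * (g * u * g⁻¹) * g = u := by group
    rwa [e] at this

theorem Fs_ncard [Finite G] (h : Dat X A Om Wf) {c d : G} (hc : c ∈ Om) (hd : d ∈ Om) :
    (Fs A Wf c).ncard = (Fs A Wf d).ncard := by
  obtain ⟨g, hg, rfl⟩ := h.trans c hc d hd
  refine le_antisymm (h.Fs_ncard_le hc hg) ?_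
  have := h.Fs_ncard_le hd (inv_mem hg)
  have e : g⁻¹ * (g * c * g⁻¹) * g⁻¹⁻¹ = c := by group
  rwa [e] at this

/-- **(s1)** -/
theorem sym [Finite G] (h : Dat X A Om Wf) : ∀ c ∈ Om, ∀ d ∈ Om, (∃ w ∈ Wf c, w * d ≠ d * w) →
    ∃ w ∈ Wf d, w * c ≠ c * w := by
  intro c hc d hd ⟨v, hv, hvd⟩
  by_contra hno
  push Not at hno
  -- all of `Wf d` fixes `c`, but `v ∈ Wf c` moves `d`
  have h1 : Fs A Wf d ⊆ Fs A Wf c := by
    rintro s ⟨w, hw, rfl⟩
    obtain ⟨w', hw', h2⟩ := h.s2' hd hc hw (hno w hw) hv hvd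
    exact ⟨w', hw', mv_eq_iff.mpr h2⟩
  have h2 : Fs A Wf d = Fs A Wf c :=
    Set.eq_of_subset_of_ncard_le h1 (h.Fs_ncard hc hd).le (Fs_finite _)
  have h3 : mv A v ∈ Fs A Wf d := by
    rw [h2]
    exact ⟨v, hv, rfl⟩
  obtain ⟨w, hw, h4⟩ := h3
  rw [mv_eq_iff] at h4
  exact hvd ((h4 d (h.OmA d hd)).mp (h.cen d hd w hw))

/-- **(s2)** -/
theorem s2 [Finite G] (h : Dat X A Om Wf) : ∀ c ∈ Om, ∀ d ∈ Om, (∃ w ∈ Wf c, w * d ≠ d * w) → ∀ w ∈ Wf c,
    w * d = d * w → ∃ w' ∈ Wf d, ∀ u ∈ A, (w' * u = u * w' ↔ w * u = u * w) := by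
  intro c hc d hd hj w hw hwd
  obtain ⟨v, hv, hvc⟩ := h.sym c hc d hd hj
  exact h.s2' hc hd hw hwd hv hvc

/-- **(1)** -/
theorem all [Finite G] (h : Dat X A Om Wf) {n s d₀ : G} (hn : n ∈ Om) (hs : s ∈ A)
    (hOs : ∀ c ∈ Om, c * s ∈ Om) (hWs : ∀ c ∈ Om, ∀ w ∈ Wf c, w * s = s * w)
    (hne : ∃ k ∈ Wf n, ∀ k' ∈ Wf (n * s), ∃ u ∈ A, ¬(k' * u = u * k' ↔ k * u = u * k))
    (hd₀ : d₀ ∈ Om) (hj : ∃ w ∈ Wf n, w * d₀ ≠ d₀ * w) :
    ∀ w ∈ Wf n, w * d₀ = d₀ * w → ∀ d ∈ Om, w * d = d * w := by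
  have hns := hOs n hn
  have claimA : ∀ d ∈ Om, (∃ w ∈ Wf n, w * d ≠ d * w) → ∀ w ∈ Wf n, w * d = d * w →
      ∃ w' ∈ Wf (n * s), ∀ u ∈ A, (w' * u = u * w' ↔ w * u = u * w) := by
    intro d hd hj w hw hwd
    obtain ⟨v, hv, hvu⟩ := h.s2 n hn d hd hj w hw hwd
    obtain ⟨v₁, hv₁, hv₁n⟩ := h.sym n hn d hd hj
    have hvn : v * n = n * v := (hvu n (h.OmA n hn)).mpr (h.cen n hn w hw)
    have key : ∀ x ∈ Wf d, (x * (n * s) = n * s * x ↔ x * n = n * x) := by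
      intro x hx
      rw [h.comm_mul_iff hd hx (h.OmA n hn) hs]
      have := hWs d hd x hx
      tauto
    obtain ⟨w', hw', hw'u⟩ := h.s2 d hd (n * s) hns ⟨v₁, hv₁, fun h0 => hv₁n ((key v₁ hv₁).mp h0)⟩ v hv
      ((key v hv).mpr hvn)
    exact ⟨w', hw', fun u hu => (hw'u u hu).trans (hvu u hu)⟩
  intro w hw hwd₀ d hd
  obtain ⟨w', hw', hw'u⟩ := claimA d₀ hd₀ hj w hw hwd₀
  by_contra hwd
  obtain ⟨k, hk, hbad⟩ := hne
  have hjd : ∃ w ∈ Wf n, w * d ≠ d * w := ⟨w, hw, hwd⟩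
  by_cases hkd : k * d = d * k
  · obtain ⟨k', hk', h1⟩ := claimA d hd hjd k hk hkd
    obtain ⟨u, hu, h2⟩ := hbad k' hk'
    exact h2 (h1 u hu)
  · have h1 : k * w * d = d * (k * w) := by
      rw [h.mul_comm_iff hn hk hw (h.OmA d hd)]
      tauto
    obtain ⟨k', hk', h2⟩ := claimA d hd hjd (k * w) (mul_mem hk hw) h1
    obtain ⟨u, hu, h3⟩ := hbad (k' * w') (mul_mem hk' hw')
    apply h3
    rw [h.mul_comm_iff hns hk' hw' hu, h2 u hu, hw'u u hu, h.mul_comm_iff hn hk hw hu]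
    tauto

end Dat

end Cfsg.Agent.Omega.TTn.Calc

end

section


/-!
# The frame of #14261 (helper439): ten pairs, `U_π, W_π, Q_π, w_π`; §1–§3

`Fr s U W Q w K`: `s i` (`i : Fin 5`) are the singular vectors of `V` (product `1`), `K = C_G(V)`,
`U i j = U_{ij}`, `W i j`, `Q i j = O₂(C_G(s i s j))`, `w i j ∈ W i j` induces the transposition.
-/

set_option autoImplicit false

namespace Cfsg.Agent.Omega.TTn.Di

open Subgroup

universe u

variable {G : Type u} [Group G]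

/-- all different -/
structure D5 (i j k l m : Fin 5) : Prop where
  ij : i ≠ j
  ik : i ≠ k
  il : i ≠ l
  im : i ≠ m
  jk : j ≠ k
  jl : j ≠ l
  jm : j ≠ m
  kl : k ≠ l
  km : k ≠ m
  lm : l ≠ m

namespace D5

variable {i j k l m : Fin 5}

theorem a (h : D5 i j k l m) : D5 j i k l m :=
  ⟨h.ij.symm, h.jk, h.jl, h.jm, h.ik, h.il, h.im, h.kl, h.km, h.lm⟩

theorem b (h : D5 i j k l m) : D5 i k j l m :=
  ⟨h.ik, h.ij, h.il, h.im, h.jk.symm, h.kl, h.km, h.jl, h.jm, h.lm⟩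

theorem c (h : D5 i j k l m) : D5 i j l k m :=
  ⟨h.ij, h.il, h.ik, h.im, h.jl, h.jk, h.jm, h.kl.symm, h.lm, h.km⟩

theorem d (h : D5 i j k l m) : D5 i j k m l :=
  ⟨h.ij, h.ik, h.im, h.il, h.jk, h.jm, h.jl, h.km, h.kl, h.lm.symm⟩

end D5

/-- commutator -/
def cm (a b : G) : G := a * b * a⁻¹ * b⁻¹

/-- conjugate -/
def cj (g x : G) : G := g * x * g⁻¹

theorem cj_mul (g x y : G) : cj g (x * y) = cj g x * cj g y := by unfold cj; group

theorem cj_inv (g x : G) : cj g x⁻¹ = (cj g x)⁻¹ := by unfold cj; group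

theorem cj_cj (g h x : G) : cj g (cj h x) = cj (g * h) x := by unfold cj; group

theorem cj_one (g : G) : cj g 1 = 1 := by unfold cj; group

theorem cj_eq_of_comm {g x : G} (h : g * x = x * g) : cj g x = x := by unfold cj; rw [h]; group

theorem comm_of_cj {g x : G} (h : cj g x = x) : g * x = x * g := by
  unfold cj at h; rw [mul_inv_eq_iff_eq_mul] at h; exact h

theorem cj_eq_cm (g x : G) : cj g x = cm g x * x := by unfold cj cm; group

theorem cm_eq (g x : G) : cm g x = cj g x * x⁻¹ := rfl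

theorem cm_one_iff {g x : G} : cm g x = 1 ↔ g * x = x * g := by
  unfold cm
  rw [mul_inv_eq_one, mul_inv_eq_iff_eq_mul]

theorem cm_eq' (g x : G) : cm g x = g * cj x g⁻¹ := by unfold cj cm; group

/-- The frame. -/
structure Fr (s : Fin 5 → G) (U W Q : Fin 5 → Fin 5 → Subgroup G) (w : Fin 5 → Fin 5 → G)
    (K : Subgroup G) : Prop where
  s_sq : ∀ i, s i * s i = 1
  s_comm : ∀ i j, s i * s j = s j * s i
  s_rel : ∀ {i j k l m}, D5 i j k l m → s i * s j * s k * s l * s m = 1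
  sK : ∀ i, s i ∈ K
  Ks : ∀ i, ∀ g ∈ K, g * s i = s i * g
  Usym : ∀ i j, U i j = U j i
  Wsym : ∀ i j, W i j = W j i
  Qsym : ∀ i j, Q i j = Q j i
  UK : ∀ {i j}, i ≠ j → U i j ≤ K
  KU : ∀ {i j}, i ≠ j → ∀ g ∈ K, ∀ u ∈ U i j, cj g u ∈ U i j
  KW : ∀ {i j}, i ≠ j → ∀ g ∈ K, ∀ u ∈ W i j, cj g u ∈ W i j
  Uab : ∀ {i j}, i ≠ j → ∀ u ∈ U i j, ∀ v ∈ U i j, u * v = v * u
  Usq : ∀ {i j}, i ≠ j → ∀ u ∈ U i j, u * u = 1
  UQ : ∀ {i j}, i ≠ j → U i j ≤ Q i j
  UQc : ∀ {i j}, i ≠ j → ∀ q ∈ Q i j, ∀ u ∈ U i j, q * u = u * q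
  WQ : ∀ {i j}, i ≠ j → W i j ≤ Q i j
  QW : ∀ {i j}, i ≠ j → ∀ q ∈ Q i j, ∀ x ∈ W i j, cm q x = 1 ∨ cm q x = s i * s j
  Wsq : ∀ {i j}, i ≠ j → ∀ x ∈ W i j, x * x = 1 ∨ x * x = s i * s j
  sU : ∀ {i j k}, i ≠ j → k ≠ i → k ≠ j → s k ∈ U i j
  sU' : ∀ {i j}, i ≠ j → s i ∉ U i j
  wW : ∀ {i j}, i ≠ j → w i j ∈ W i j
  w1 : ∀ {i j k}, i ≠ j → k ≠ i → k ≠ j → ∀ u ∈ U i k, cj (w i j) u ∈ U j k
  w2 : ∀ {i j k}, i ≠ j → k ≠ i → k ≠ j → ∀ u ∈ U j k, cj (w i j) u ∈ U i k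
  w3 : ∀ {i j k l}, i ≠ j → k ≠ i → k ≠ j → l ≠ i → l ≠ j → k ≠ l → ∀ u ∈ U k l,
    cj (w i j) u ∈ U k l
  cw : ∀ {i j k l m}, D5 i j k l m → ∀ c, (∀ y ∈ U i j, c * y = y * c) → ∀ x ∈ W k l,
    cm c x ∈ Q i j
  core : ∀ {i j k l m}, D5 i j k l m → ∀ c ∈ W j k, (∀ y ∈ U i j, c * y = y * c) →
    (∀ y ∈ U k l, c * y = y * c) → c ∈ Q i j
  inter : ∀ x, (∀ i j, i ≠ j → x ∈ U i j) → x = 1
  faith : ∀ {i j}, i ≠ j → ∀ g ∈ K, (∀ u ∈ U i j, cm g u = 1 ∨ cm g u = s i * s j) →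
    ∀ u ∈ U i j, g * u = u * g

namespace Fr

variable {s : Fin 5 → G} {U W Q : Fin 5 → Fin 5 → Subgroup G} {w : Fin 5 → Fin 5 → G}
  {K : Subgroup G} (F : Fr s U W Q w K) {i j k l m : Fin 5}

include F

theorem w_sq_comm (hij : i ≠ j) {g : G} (hg : g ∈ K) : w i j * w i j * g = g * (w i j * w i j) := by
  rcases F.Wsq hij _ (F.wW hij) with h | h
  · rw [h, one_mul, mul_one]
  · rw [h, mul_assoc, ← F.Ks j g hg, ← mul_assoc, ← F.Ks i g hg, mul_assoc]

/-- `w` acts on `K` as an involution -/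
theorem cj_w_w (hij : i ≠ j) {g : G} (hg : g ∈ K) : cj (w i j) (cj (w i j) g) = g := by
  rw [cj_cj]
  exact cj_eq_of_comm (F.w_sq_comm hij hg)

/-- preimage under `w` -/
theorem cj_w_eq (hij : i ≠ j) {g h : G} (hg : g ∈ K) (e : h = cj (w i j) g) :
    g = cj (w i j) h := by
  rw [e, F.cj_w_w hij hg]

theorem n_comm (i j : Fin 5) {g : G} (hg : g ∈ K) : g * (s i * s j) = s i * s j * g := by
  rw [← mul_assoc, F.Ks i g hg, mul_assoc, F.Ks j g hg, ← mul_assoc]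

/-- (1.1) -/
theorem tri (hij : i ≠ j) (hki : k ≠ i) (hkj : k ≠ j) {y : G} (h1 : y ∈ U i j) (h2 : y ∈ U i k) :
    y ∈ U j k := by
  have h3 := F.w1 hij hki hkj y h2
  rwa [cj_eq_of_comm (F.UQc hij _ (F.WQ hij (F.wW hij)) y h1)] at h3

theorem tri' (hij : i ≠ j) (hki : k ≠ i) (hkj : k ≠ j) {y : G} (h1 : y ∈ U i k) (h2 : y ∈ U j k) :
    y ∈ U i j := by
  rw [F.Usym] at h1 h2
  exact F.tri hki hkj.symm hij.symm h1 h2

/-- all `U`'s from a star -/
theorem star (h : D5 i j k l m) {y : G} (h1 : y ∈ U i j) (h2 : y ∈ U i k) (h3 : y ∈ U i l)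
    (h4 : y ∈ U i m) : y = 1 := by
  have hall : ∀ a : Fin 5, a ≠ i → y ∈ U i a := by
    intro a ha
    have h5 : a = i ∨ a = j ∨ a = k ∨ a = l ∨ a = m := by
      obtain ⟨e1, e2, e3, e4, e5, e6, e7, e8, e9, e10⟩ := h
      clear h1 h2 h3 h4
      revert i j k l m a
      decide
    rcases h5 with h5 | h5 | h5 | h5 | h5
    · exact absurd h5 ha
    · rw [h5]; exact h1
    · rw [h5]; exact h2
    · rw [h5]; exact h3
    · rw [h5]; exact h4
  refine F.inter y fun a b hab => ?_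
  by_cases ha : a = i
  · rw [ha]; exact hall b (fun h => hab (ha.trans h.symm))
  · by_cases hb : b = i
    · rw [hb, F.Usym]; exact hall a ha
    · exact F.tri (Ne.symm ha) hb (Ne.symm hab) (hall a ha) (hall b hb)

/-- `u w u⁻¹ w⁻¹ ∈ W` -/
theorem uw (hij : i ≠ j) {x : G} (hx : x ∈ W i j) {u : G} (hu : u ∈ K) : cm u x ∈ W i j := by
  rw [cm_eq]
  exact mul_mem (F.KW hij u hu x hx) (inv_mem hx)

theorem inv_self (hij : i ≠ j) {u : G} (hu : u ∈ U i j) : u⁻¹ = u :=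
  inv_eq_of_mul_eq_one_left (F.Usq hij u hu)

theorem s_inv (i : Fin 5) : (s i)⁻¹ = s i := inv_eq_of_mul_eq_one_left (F.s_sq i)

/-- `u · u^w ∈ W` -/
theorem uuw {a b : Fin 5} (hij : i ≠ j) (hab : a ≠ b) {u : G} (hu : u ∈ U a b) :
    u * cj (w i j) u ∈ W i j := by
  have h := F.uw hij (F.wW hij) (F.UK hab hu)
  have e : cm u (w i j) = u * cj (w i j) u := by
    rw [cm_eq', F.inv_self hab hu]
  rwa [e] at h

/-- membership in `⟨s j⟩ Π`, inside `U i k` (triangle `i j k`) -/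
def PP (s : Fin 5 → G) (U : Fin 5 → Fin 5 → Subgroup G) (i k j : Fin 5) (y : G) : Prop :=
  y ∈ U i k ∧ (y ∈ U i j ∨ y * s j ∈ U i j)

/-- the key dichotomy: `y = ε z`, `y ∈ U i k`, `z ∈ U j k`, `ε ∈ {1, s i s j}` -/
theorem pp_of (hij : i ≠ j) (hki : k ≠ i) (hkj : k ≠ j) {y z e : G} (hy : y ∈ U i k)
    (hz : z ∈ U j k) (he : e = 1 ∨ e = s i * s j) (h : y = e * z) : PP s U i k j y := by
  refine ⟨hy, ?_⟩
  rcases he with rfl | rfl
  · left
    rw [one_mul] at h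
    exact F.tri' hij hki hkj hy (h ▸ hz)
  · right
    have h1 : y * s j = s i * z := by
      rw [h, mul_assoc, mul_assoc, F.Ks j z (F.UK hkj.symm hz), ← mul_assoc (s j), F.s_sq, one_mul]
    refine F.tri' hij hki hkj (mul_mem hy (F.sU hki.symm hij.symm hkj.symm)) ?_
    rw [h1]
    exact mul_mem (F.sU hkj.symm hij hki.symm) hz

/-- (1.3) -/
theorem uq (hij : i ≠ j) (hki : k ≠ i) (hkj : k ≠ j) {u q : G} (hu : u ∈ U i k) (hq : q ∈ Q i j)
    (hqK : q ∈ K) : PP s U i k j (u⁻¹ * cj q u) := by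
  set u' := cj (w i j) u with hu'
  have h1 : u' ∈ U j k := F.w1 hij hki hkj u hu
  have h2 : u * u' ∈ W i j := F.uuw hij hki.symm hu
  have h3 := F.QW hij q hq _ h2
  have h4 : cj q u ∈ U i k := F.KU hki.symm q hqK u hu
  have h5 : cj q u' ∈ U j k := F.KU hkj.symm q hqK u' h1
  have h6 : u⁻¹ * cj q u = cm q (u * u') * (u' * (cj q u')⁻¹) := by
    have e1 : cj q u * cj q u' = cm q (u * u') * (u * u') := by rw [← cj_mul, cj_eq_cm]
    have e2 : cm q (u * u') * u = u * cm q (u * u') := by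
      rcases h3 with h | h
      · rw [h, one_mul, mul_one]
      · rw [h, F.n_comm i j (F.UK hki.symm hu)]
    have e3 : u⁻¹ * cj q u = u⁻¹ * (cj q u * cj q u') * (cj q u')⁻¹ := by group
    rw [e3, e1, ← mul_assoc (cm q (u * u')), e2]
    group
  exact F.pp_of hij hki hkj (mul_mem (inv_mem hu) h4) (mul_mem h1 (inv_mem h5)) h3 h6

theorem n_ne (hij : i ≠ j) (hki : k ≠ i) (hkj : k ≠ j) : s i * s k ∉ U i j := by
  intro h
  have h1 := mul_mem h (F.sU hij hki hkj)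
  rw [mul_assoc, F.s_sq, mul_one] at h1
  exact F.sU' hij h1

/-- (1.4) -/
theorem alt (hij : i ≠ j) (hki : k ≠ i) (hkj : k ≠ j) {y : G} (hy : y ∈ U i j) :
    y * cj (w j k) y = cj (w j k) y * y := by
  have h1 : cj (w j k) y ∈ U i k := by
    rw [F.Usym]
    exact F.w1 hkj.symm hij hki.symm y (F.Usym i j ▸ hy)
  have h2 := F.Wsq hkj.symm _ (F.uuw hkj.symm hij hy)
  set y' := cj (w j k) y
  have e1 : y * y' * (y * y') = cm y y' := by
    unfold cm
    rw [F.inv_self hij hy, F.inv_self hki.symm h1]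
    group
  have h3 : cm y y' ∈ U i j := by
    rw [cm_eq']
    exact mul_mem hy (F.KU hij y' (F.UK hki.symm h1) _ (inv_mem hy))
  rw [e1] at h2
  rcases h2 with h | h
  · exact cm_one_iff.1 h
  · rw [h, F.Usym] at h3
    exact absurd h3 (F.n_ne hij.symm hkj hki)

/-- (1.6) -/
theorem ppQ (hij : i ≠ j) (hki : k ≠ i) (hkj : k ≠ j) {y : G} (hy : y ∈ U i k) (hq : y ∈ Q i j) :
    PP s U i k j y := by
  have h1 : cj (w i j) y ∈ U j k := F.w1 hij hki hkj y hy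
  have h2 := F.QW hij y hq _ (F.wW hij)
  have e1 : cm y (w i j) = y * cj (w i j) y := by rw [cm_eq', F.inv_self hki.symm hy]
  refine F.pp_of hij hki hkj hy h1 h2 ?_
  rw [e1, mul_assoc, F.Usq hkj.symm _ h1, mul_one]

/-- `c` centralises `U i j` -/
abbrev Cen (U : Fin 5 → Fin 5 → Subgroup G) (c : G) (i j : Fin 5) : Prop :=
  ∀ y ∈ U i j, c * y = y * c

theorem cen_symm {c : G} (h : Cen U c i j) : Cen U c j i := by
  intro y hy
  exact h y (F.Usym i j ▸ hy)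

/-- `C_{U_ik}(U_ij) = C_{U_ik}(U_jk)` -/
theorem cen_tri (hij : i ≠ j) (hki : k ≠ i) (hkj : k ≠ j) {u : G} (hu : u ∈ U i k)
    (hc : Cen U u i j) : Cen U u j k := by
  intro y hy
  have hw : w i k * u = u * w i k := F.UQc hki.symm _ (F.WQ hki.symm (F.wW hki.symm)) u hu
  have h1 : cj (w i k) y ∈ U i j := F.w2 hki.symm hij.symm hkj.symm y (F.Usym j k ▸ hy)
  have h2 := hc _ h1
  have h3 := congrArg (cj (w i k)) h2
  rw [cj_mul, cj_mul, F.cj_w_w hki.symm (F.UK hkj.symm hy), cj_eq_of_comm hw] at h3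
  exact h3

/-- conjugates of centralising elements -/
theorem cen_cj {a b : Fin 5} (hij : i ≠ j) (hab : a ≠ b) {c : G} (hc : Cen U c a b)
    {a' b' : Fin 5} (hmap : ∀ y ∈ U a' b', cj (w i j) y ∈ U a b) (hab' : a' ≠ b') :
    Cen U (cj (w i j) c) a' b' := by
  intro y hy
  have h1 := hc _ (hmap y hy)
  have h2 := congrArg (cj (w i j)) h1
  rw [cj_mul, cj_mul, F.cj_w_w hij (F.UK hab' hy)] at h2
  exact h2

/-- `y ∈ Σ_m` (labels `i j k l`) -/
def Sg (U : Fin 5 → Fin 5 → Subgroup G) (i j k l : Fin 5) (y : G) : Prop :=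
  y ∈ U i j ∧ y ∈ U i k ∧ y ∈ U i l

theorem sg_a (h : D5 i j k l m) {y : G} (hy : Sg U i j k l y) : Sg U j i k l y :=
  ⟨F.Usym i j ▸ hy.1, F.tri h.ij h.ik.symm h.jk.symm hy.1 hy.2.1,
    F.tri h.ij h.il.symm h.jl.symm hy.1 hy.2.2⟩

omit F in
theorem sg_b {y : G} (hy : Sg U i j k l y) : Sg U i k j l y := ⟨hy.2.1, hy.1, hy.2.2⟩

omit F in
theorem sg_c {y : G} (hy : Sg U i j k l y) : Sg U i j l k y := ⟨hy.1, hy.2.2, hy.2.1⟩

/-- (2.1), first form: `v ∈ U i l` centralising `U i j`, `y ∈ U i k` -/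
theorem two1a (h : D5 i j k l m) {v y : G} (hv : v ∈ U i l) (hc : Cen U v i j) (hy : y ∈ U i k) :
    Sg U i j k l (cm v y) ∧ Sg U i j k l (cm v (cj (w i j) y)) := by
  set u := cj (w k l) v with hu
  have hvK := F.UK h.il hv
  have hyK := F.UK h.ik hy
  have hu1 : u ∈ U i k := by
    rw [F.Usym]
    exact F.w2 h.kl h.ik h.il v (F.Usym i l ▸ hv)
  have huv : cj (w k l) u = v := F.cj_w_w h.kl hvK
  have hcu : Cen U u i j :=
    F.cen_cj h.kl h.ij hc (fun y hy => F.w3 h.kl h.ik h.il h.jk h.jl h.ij y hy) h.ij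
  have hcu2 : Cen U u j k := F.cen_tri h.ij h.ik.symm h.jk.symm hu1 hcu
  -- `u v ∈ Q i j`
  have hq : u * v ∈ Q i j := by
    have h1 := F.cw h u hcu _ (F.wW h.kl)
    have e1 : cm u (w k l) = u * v := by
      rw [cm_eq', F.inv_self h.ik hu1, huv]
    rwa [e1] at h1
  set y' := cj (w i j) y with hy'
  have hy1 : y' ∈ U j k := F.w1 h.ij h.ik.symm h.jk.symm y hy
  have hy1K := F.UK h.jk hy1
  have h2 : y * y' ∈ W i j := F.uuw h.ij h.ik hy
  have h3 := F.QW h.ij _ hq _ h2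
  set e := cm (u * v) (y * y') with he
  have hb : cj v y ∈ U i k := F.KU h.ik v hvK y hy
  have hb' : cj v y' ∈ U j k := F.KU h.jk v hvK y' hy1
  have e1 : cj (u * v) (y * y') = cj v y * cj v y' := by
    rw [← cj_cj, cj_mul, cj_mul, cj_eq_of_comm (F.Uab h.ik u hu1 _ hb), cj_eq_of_comm (hcu2 _ hb')]
  have e2 : cj v y * cj v y' = e * (y * y') := by rw [← e1, cj_eq_cm]
  have ecomm : ∀ g ∈ K, e * g = g * e := by
    intro g hg
    rcases h3 with h3 | h3
    · rw [h3, one_mul, mul_one]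
    · rw [h3, F.n_comm i j hg]
  -- `y⁻¹ b = e y' b'⁻¹`
  have e3 : y⁻¹ * cj v y = e * (y' * (cj v y')⁻¹) := by
    have e4 : y⁻¹ * cj v y = y⁻¹ * (cj v y * cj v y') * (cj v y')⁻¹ := by group
    rw [e4, e2, ← mul_assoc e, ecomm y hyK]
    group
  have m1 : y⁻¹ * cj v y ∈ U i l := by
    have e4 : y⁻¹ * cj v y = cj y⁻¹ v * v⁻¹ := by unfold cj; group
    rw [e4]
    exact mul_mem (F.KU h.il _ (inv_mem hyK) v hv) (inv_mem hv)
  have m2 : y' * (cj v y')⁻¹ ∈ U i l := by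
    have e4 : y' * (cj v y')⁻¹ = cj y' v * v⁻¹ := by unfold cj; group
    rw [e4]
    exact mul_mem (F.KU h.il _ hy1K v hv) (inv_mem hv)
  have he1 : e = 1 := by
    rcases h3 with h3 | h3
    · exact h3
    · exfalso
      have h4 : e ∈ U i l := by
        have e4 : e = (y⁻¹ * cj v y) * (y' * (cj v y')⁻¹)⁻¹ := by rw [e3]; group
        rw [e4]; exact mul_mem m1 (inv_mem m2)
      rw [h3] at h4
      exact F.n_ne h.il h.ij.symm h.jl h4
  rw [he1, one_mul] at e3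
  have m3 : y⁻¹ * cj v y ∈ U i k := mul_mem (inv_mem hy) hb
  have m4 : y⁻¹ * cj v y ∈ U j k := by rw [e3]; exact mul_mem hy1 (inv_mem hb')
  have m5 : y⁻¹ * cj v y ∈ U i j := F.tri' h.ij h.ik.symm h.jk.symm m3 m4
  have f1 : cm v y = y⁻¹ * cj v y := by
    rw [cm_eq]
    exact F.Uab h.ik _ hb _ (inv_mem hy)
  have f2 : cm v y' = (y⁻¹ * cj v y)⁻¹ := by
    rw [e3, mul_inv_rev, inv_inv, cm_eq]
  refine ⟨?_, ?_⟩
  · rw [f1]; exact ⟨m5, m3, m1⟩
  · rw [f2]; exact ⟨inv_mem m5, inv_mem m3, inv_mem m1⟩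

/-- (2.1) : triangle `i j k`, `v ∈ U i k` centralising `U i j`; `y ∈ U p l`, `p ∈ {i,j,k}` -/
theorem two1 (h : D5 i j k l m) {v y : G} (hv : v ∈ U i k) (hc : Cen U v i j)
    (hy : y ∈ U i l ∨ y ∈ U j l ∨ y ∈ U k l) : Sg U i j k l (cm v y) := by
  have hh := h.c
  rcases hy with hy | hy | hy
  · exact sg_c (F.two1a hh hv hc hy).1
  · have h1 : cj (w i j) y ∈ U i l := F.w2 h.ij h.il.symm h.jl.symm y hy
    have h2 := (F.two1a hh hv hc h1).2
    rw [F.cj_w_w h.ij (F.UK h.jl hy)] at h2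
    exact sg_c h2
  · have hw : w i k * v = v * w i k := F.UQc h.ik _ (F.WQ h.ik (F.wW h.ik)) v hv
    have h1 : cj (w i k) y ∈ U i l := F.w2 h.ik h.il.symm h.kl.symm y hy
    have h2 := (F.two1a hh hv hc h1).1
    -- conjugate back
    have e1 : cm v y = cj (w i k) (cm v (cj (w i k) y)) := by
      have e2 : ∀ a b c : G, cj a (cm b c) = cm (cj a b) (cj a c) := by
        intro a b c; unfold cj cm; group
      rw [e2, F.cj_w_w h.ik (F.UK h.kl hy), cj_eq_of_comm hw]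
    rw [e1]
    obtain ⟨a1, a2, a3⟩ := h2
    -- a1 : U i j, a2 : U i l, a3 : U i k
    have b3 : cj (w i k) (cm v (cj (w i k) y)) ∈ U i k := by
      rw [cj_eq_of_comm (F.UQc h.ik _ (F.WQ h.ik (F.wW h.ik)) _ a3)]
      exact a3
    have b1 : cj (w i k) (cm v (cj (w i k) y)) ∈ U k j := F.w1 h.ik h.ij.symm h.jk _ a1
    have b2 : cj (w i k) (cm v (cj (w i k) y)) ∈ U k l := F.w1 h.ik h.il.symm h.kl.symm _ a2
    exact ⟨F.tri h.ik.symm h.jk h.ij.symm (F.Usym i k ▸ b3) b1, b3,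
      F.tri h.ik.symm h.kl.symm h.il.symm (F.Usym i k ▸ b3) b2⟩

end Fr

end Cfsg.Agent.Omega.TTn.Di

end

section


/-!
# #14261 (helper439), (2.2)–(3.7) over the frame `Fr`

* `Fr.thmC` : `u ∈ U i k` centralising `U i j` lies in `Q i j` and in `⟨s j⟩ Π`.
* `Fr.comm_disj` : `[U i k, U j l] ⊆ {1, s i s k, s m, s j s l}`.
* `Fr.comm_adj` : `[U i k, U i l] ⊆ {1, s m, s j, s j s m}`.
-/

set_option autoImplicit false

namespace Cfsg.Agent.Omega.TTn.Di

open Subgroup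

universe u

variable {G : Type u} [Group G]

namespace Fr

variable {s : Fin 5 → G} {U W Q : Fin 5 → Fin 5 → Subgroup G} {w : Fin 5 → Fin 5 → G}
  {K : Subgroup G} (F : Fr s U W Q w K) {i j k l m : Fin 5}

include F

/-- (2.2) -/
theorem two2 (h : D5 i j k l m) {u y : G} (hu : u ∈ U i k) (hc : Cen U u i j) (hy : y ∈ U i m) :
    cm u y = cm (cj (w i j) u) y := by
  have huK := F.UK h.ik hu
  have hyK := F.UK h.im hy
  set u2 := cj (w i j) u with hu2
  have hu2m : u2 ∈ U j k := F.w1 h.ij h.ik.symm h.jk.symm u hu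
  have hu2K := F.UK h.jk hu2m
  have hc2 : Cen U u2 i j := by
    refine F.cen_cj h.ij h.ij hc (fun z hz => ?_) h.ij
    rw [cj_eq_of_comm (F.UQc h.ij _ (F.WQ h.ij (F.wW h.ij)) _ hz)]
    exact hz
  set u4 := cj (w k l) u with hu4
  have hu4m : u4 ∈ U i l := by
    rw [F.Usym]
    exact F.w1 h.kl h.ik h.il u (F.Usym i k ▸ hu)
  have hu4K := F.UK h.il hu4m
  have hc4 : Cen U u4 i j :=
    F.cen_cj h.kl h.ij hc (fun y hy => F.w3 h.kl h.ik h.il h.jk h.jl h.ij y hy) h.ij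
  set u24 := cj (w i j) u4 with hu24
  have hu24m : u24 ∈ U j l := F.w1 h.ij h.il.symm h.jl.symm u4 hu4m
  have hu24K := F.UK h.jl hu24m
  have hc24 : Cen U u24 i j := by
    refine F.cen_cj h.ij h.ij hc4 (fun z hz => ?_) h.ij
    rw [cj_eq_of_comm (F.UQc h.ij _ (F.WQ h.ij (F.wW h.ij)) _ hz)]
    exact hz
  -- `h = u u4 ∈ Q i j`
  have hq : u * u4 ∈ Q i j := by
    have h1 := F.cw h u hc _ (F.wW h.kl)
    have e1 : cm u (w k l) = u * u4 := by rw [cm_eq', F.inv_self h.ik hu]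
    rwa [e1] at h1
  have h3 := F.QW h.ij _ hq _ (F.wW h.ij)
  set e := cm (u * u4) (w i j) with he
  have ecomm : ∀ g ∈ K, e * g = g * e := by
    intro g hg
    rcases h3 with h3 | h3
    · rw [h3, one_mul, mul_one]
    · rw [h3, F.n_comm i j hg]
  have e1 : u * u4 = e * (u2 * u24) := by
    have e2 : cj (w i j) (u * u4) = u2 * u24 := by rw [cj_mul]
    rw [← e2, he, cm_eq', cj_inv]
    group
  -- the action on `y`
  have e2 : cj (u * u4) y = cj (u2 * u24) y := by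
    rw [e1, ← cj_cj]
    apply cj_eq_of_comm
    exact ecomm _ (mul_mem (mul_mem (mul_mem hu2K hu24K) hyK) (inv_mem (mul_mem hu2K hu24K)))
  have S4 : Sg U i j k m (cm u y) := F.two1 h.d hu hc (Or.inl hy)
  have S4' : Sg U j i k m (cm u2 y) := by
    refine F.two1 (h.a.d) hu2m (F.cen_symm hc2) (Or.inr (Or.inl hy))
  have S3 : Sg U i j l m (cm u4 y) := F.two1 h.c.d hu4m hc4 (Or.inl hy)
  have S3' : Sg U j i l m (cm u24 y) :=
    F.two1 (h.a.c.d) hu24m (F.cen_symm hc24) (Or.inr (Or.inl hy))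
  have S4'' : Sg U i j k m (cm u2 y) := F.sg_a (h.a.d) S4'
  have S3'' : Sg U i j l m (cm u24 y) := F.sg_a (h.a.c.d) S3'
  have f1 : cj (u * u4) y = cm u4 y * (cm u y * y) := by
    rw [← cj_cj, cj_eq_cm u4 y, cj_mul, cj_eq_cm u y, cj_eq_of_comm (hc _ S3.1)]
  have f2 : cj (u2 * u24) y = cm u24 y * (cm u2 y * y) := by
    rw [← cj_cj, cj_eq_cm u24 y, cj_mul, cj_eq_cm u2 y, cj_eq_of_comm (hc2 _ S3''.1)]
  rw [f1, f2, ← mul_assoc, ← mul_assoc] at e2
  have e3 := mul_right_cancel e2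
  have e4 : (cm u24 y)⁻¹ * cm u4 y = cm u2 y * (cm u y)⁻¹ := by
    rw [inv_mul_eq_iff_eq_mul, ← mul_assoc, ← e3, mul_assoc, mul_inv_cancel, mul_one]
  have e5 : cm u2 y * (cm u y)⁻¹ = 1 := by
    refine F.star h (mul_mem S4''.1 (inv_mem S4.1)) (mul_mem S4''.2.1 (inv_mem S4.2.1)) ?_
      (mul_mem S4''.2.2 (inv_mem S4.2.2))
    rw [← e4]
    exact mul_mem (inv_mem S3''.2.1) S3.2.1
  exact (mul_inv_eq_one.1 e5).symm

/-- **THEOREM C** -/
theorem thmC (h : D5 i j k l m) {u : G} (hu : u ∈ U i k) (hc : Cen U u i j) : u ∈ Q i j := by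
  have hu' : u ∈ U k i := F.Usym i k ▸ hu
  set u'' := cj (w k j) u with hu''
  have hum : u'' ∈ U i j := by
    rw [F.Usym]
    exact F.w1 h.jk.symm h.ik h.ij u hu'
  have hc' : Cen U u k j := F.cen_symm (F.cen_tri h.ij h.ik.symm h.jk.symm hu hc)
  have hcW : u * u'' ∈ W j k := by
    rw [F.Wsym]
    exact F.uuw h.jk.symm h.ik hu
  have c1 : ∀ y ∈ U i j, u * u'' * y = y * (u * u'') := by
    intro y hy
    rw [mul_assoc, F.Uab h.ij _ hum y hy, ← mul_assoc, hc y hy, mul_assoc]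
  have c2 : ∀ y ∈ U k l, u * u'' * y = y * (u * u'') := by
    intro y hy
    have hD : D5 k j i m l := h.b.a.b.d
    have e1 : cm u y = cm u'' y := F.two2 hD hu' hc' hy
    have S := F.two1 h hu hc (Or.inr (Or.inr hy))
    apply comm_of_cj
    rw [← cj_cj, cj_eq_cm u'' y, ← e1, cj_mul, cj_eq_cm u y, cj_eq_of_comm (hc _ S.1), ← mul_assoc,
      F.Usq h.ij _ S.1, one_mul]
  have h1 := F.core h _ hcW c1 c2
  have h2 := mul_mem h1 (inv_mem (F.UQ h.ij hum))
  rwa [mul_inv_cancel_right] at h2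

/-- Theorem C, second form -/
theorem thmC' (h : D5 i j k l m) {u : G} (hu : u ∈ U i k) (hc : Cen U u i j) : PP s U i k j u :=
  F.ppQ h.ij h.ik.symm h.jk.symm hu (F.thmC h hu hc)

theorem s_ne (i : Fin 5) : s i ≠ 1 := by
  intro h
  obtain ⟨j, hj⟩ : ∃ j : Fin 5, i ≠ j := by
    clear h F; revert i; decide
  exact F.sU' hj (h ▸ one_mem _)

/-- (3.1) `Σ_l = ⟨s l⟩` -/
theorem sig_one (h : D5 i j k l m) {y : G} (hy : Sg U i j k m y) : y = 1 ∨ y = s l := by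
  obtain ⟨h1, h2, h3⟩ := hy
  have c1 : Cen U y i k := fun z hz => F.Uab h.ik y h2 z hz
  have c2 : Cen U y k l := by
    intro z hz
    have hzK := F.UK h.kl hz
    have S : Sg U i k j l (cm y z) := F.two1 h.b h1 c1 (Or.inr (Or.inl hz))
    have m3 : cm y z ∈ U i m := by
      rw [cm_eq]
      have e : cj y z * z⁻¹ = y * (cj z y)⁻¹ := by unfold cj; group
      rw [e]
      exact mul_mem h3 (inv_mem (F.KU h.im z hzK y h3))
    exact cm_one_iff.1 (F.star h S.2.1 S.1 S.2.2 m3)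
  have h5 : PP s U k i l y := F.thmC' (i := k) (j := l) (k := i) (l := j) (m := m)
    (⟨h.kl, h.ik.symm, h.jk.symm, h.km, h.il.symm, h.jl.symm, h.lm, h.ij, h.im, h.jm⟩)
    (F.Usym i k ▸ h2) c2
  rcases h5.2 with h6 | h6
  · left
    have h7 : y ∈ U i l := F.tri h.ik.symm h.kl.symm h.il.symm (F.Usym i k ▸ h2) h6
    exact F.star h h1 h2 h7 h3
  · right
    have hs : s l ∈ U i k := F.sU h.ik h.il.symm h.kl.symm
    have h7 : y * s l ∈ U i k := mul_mem h2 hs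
    have h8 : y * s l ∈ U i l := F.tri h.ik.symm h.kl.symm h.il.symm (F.Usym i k ▸ h7) h6
    have h9 := F.star h (mul_mem h1 (F.sU h.ij h.il.symm h.jl.symm)) h7 h8
      (mul_mem h3 (F.sU h.im h.il.symm h.lm))
    rw [mul_eq_one_iff_eq_inv.1 h9, F.s_inv]

theorem sig (h : D5 i j k l m) {y : G} (hy : Sg U i j k l y) : y = 1 ∨ y = s m :=
  F.sig_one h.d hy

/-- (3.2) -/
theorem cm_out (h : D5 i j k l m) {v y : G} (hv : v ∈ U i k) (hc : Cen U v i j)
    (hy : y ∈ U i l ∨ y ∈ U j l ∨ y ∈ U k l) : cm v y = 1 ∨ cm v y = s m :=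
  F.sig h (F.two1 h hv hc hy)

/-- membership in `U` of commutators -/
theorem cm_left {a b : Fin 5} (hab : a ≠ b) {v y : G} (hv : v ∈ U a b) (hy : y ∈ K) :
    cm v y ∈ U a b := by
  rw [cm_eq]
  have e : cj v y * y⁻¹ = v * (cj y v)⁻¹ := by unfold cj; group
  rw [e]
  exact mul_mem hv (inv_mem (F.KU hab y hy v hv))

theorem cm_right {a b : Fin 5} (hab : a ≠ b) {v y : G} (hv : v ∈ K) (hy : y ∈ U a b) :
    cm v y ∈ U a b := by
  rw [cm_eq]
  exact mul_mem (F.KU hab v hv y hy) (inv_mem hy)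

theorem s_mul_cancel (i : Fin 5) (y : G) : y * s i * s i = y := by
  rw [mul_assoc, F.s_sq, mul_one]

/-- (3.3) `Π_{lm} ∩ U l m = ⟨s l s m⟩` -/
theorem delta (h : D5 i j k l m) {z : G} (h1 : z ∈ U i j) (h2 : z ∈ U i k) (h3 : z ∈ U l m) :
    z = 1 ∨ z = s l * s m := by
  have c0 : Cen U z i k := fun y hy => F.Uab h.ik z h2 y hy
  -- centralises `U i l`
  have c1 : Cen U z i l := by
    intro y hy
    have h4 : cm z y = 1 ∨ cm z y = s m := F.cm_out h.b h1 c0 (Or.inl hy)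
    rcases h4 with h4 | h4
    · exact cm_one_iff.1 h4
    · exfalso
      have h5 := F.cm_left h.lm h3 (F.UK h.il hy)
      rw [h4, F.Usym] at h5
      exact F.sU' h.lm.symm h5
  have h5 : PP s U i j l z := F.thmC' (i := i) (j := l) (k := j) (l := k) (m := m)
    ⟨h.il, h.ij, h.ik, h.im, h.jl.symm, h.kl.symm, h.lm, h.jk, h.jm, h.km⟩ h1 c1
  rcases h5.2 with h6 | h6
  · rcases F.sig h ⟨h1, h2, h6⟩ with h7 | h7
    · exact Or.inl h7
    · exfalso
      rw [h7, F.Usym] at h3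
      exact F.sU' h.lm.symm h3
  · have h7 : z * s l ∈ U i j := mul_mem h1 (F.sU h.ij h.il.symm h.jl.symm)
    have h8 : z * s l ∈ U i k := mul_mem h2 (F.sU h.ik h.il.symm h.kl.symm)
    rcases F.sig h ⟨h7, h8, h6⟩ with h9 | h9
    · exfalso
      have : z = s l := by rw [← F.s_mul_cancel l z, h9, one_mul]
      rw [this] at h3
      exact F.sU' h.lm h3
    · right
      rw [← F.s_mul_cancel l z, h9, F.s_comm]

/-- (3.4) `Π_{lm}` centralises `U l m` -/
theorem pi_cen (h : D5 i j k l m) {z : G} (h1 : z ∈ U i j) (h2 : z ∈ U i k) : Cen U z l m := by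
  refine F.faith h.lm z (F.UK h.ij h1) fun y hy => ?_
  have hyK := F.UK h.lm hy
  exact F.delta h (F.cm_left h.ij h1 hyK) (F.cm_left h.ik h2 hyK)
    (F.cm_right h.lm (F.UK h.ij h1) hy)

theorem rel5 (h : D5 i j k l m) : s i * s k * s m = s j * s l := by
  have h1 := F.s_rel h.b
  -- s i * s k * s j * s l * s m = 1
  have h2 : s i * s k * (s j * s l) * s m = 1 := by rw [← h1]; group
  have h3 : s j * s l * s m = s m * (s j * s l) := by
    rw [mul_assoc, F.s_comm l m, ← mul_assoc, F.s_comm j m, mul_assoc]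
  have h4 : s i * s k * s m * (s j * s l) = 1 := by
    rw [← h2, mul_assoc (s i * s k) (s j * s l), h3]; group
  rw [mul_eq_one_iff_eq_inv.1 h4, mul_inv_rev, F.s_inv, F.s_inv, F.s_comm]

/-- (3.5) first part -/
theorem q_out (h : D5 i j k l m) {q y : G} (h1 : q ∈ U i k) (h2 : q ∈ U j l) (hy : y ∈ U j m) :
    cm q y = 1 ∨ cm q y = s i * s k := by
  have hD : D5 j l m i k :=
    ⟨h.jl, h.jm, h.ij.symm, h.jk, h.lm, h.il.symm, h.kl.symm, h.im.symm, h.km.symm, h.ik⟩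
  have hyK := F.UK h.jm hy
  have hqK := F.UK h.ik h1
  exact F.delta hD (F.cm_left h.jl h2 hyK) (F.cm_right h.jm hqK hy) (F.cm_left h.ik h1 hyK)

/-- (3.5) second part -/
theorem q_cen (h : D5 i j k l m) {q : G} (h1 : q ∈ U i k) (h2 : q ∈ U j l) (hc : Cen U q j m) :
    q = 1 ∨ q = s i * s k ∨ q = s m ∨ q = s j * s l := by
  have hD : D5 j m l i k :=
    ⟨h.jm, h.jl, h.ij.symm, h.jk, h.lm.symm, h.im.symm, h.km.symm, h.il.symm, h.kl.symm, h.ik⟩
  have h5 : PP s U j l m q := F.thmC' hD h2 hc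
  rcases h5.2 with h6 | h6
  · rcases F.delta hD h6 h2 h1 with h7 | h7
    · exact Or.inl h7
    · exact Or.inr (Or.inl h7)
  · have h7 : q * s m ∈ U j l := mul_mem h2 (F.sU h.jl h.jm.symm h.lm.symm)
    have h8 : q * s m ∈ U i k := mul_mem h1 (F.sU h.ik h.im.symm h.km.symm)
    rcases F.delta hD h6 h7 h8 with h9 | h9
    · right; right; left
      rw [← F.s_mul_cancel m q, h9, one_mul]
    · right; right; right
      rw [← F.s_mul_cancel m q, h9, F.rel5 h]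

theorem sl_ne (h : D5 i j k l m) : s l ≠ s i * s k := by
  intro h1
  have h2 : s i * s k ∈ U i j := h1 ▸ F.sU h.ij h.il.symm h.jl.symm
  exact F.n_ne h.ij h.ik.symm h.jk.symm h2

/-- (3.6) `[U i k, U j l]` -/
theorem comm_disj (h : D5 i j k l m) {y y2 : G} (hy : y ∈ U i k) (hy2 : y2 ∈ U j l) :
    cm y2 y = 1 ∨ cm y2 y = s i * s k ∨ cm y2 y = s m ∨ cm y2 y = s j * s l := by
  have hyK := F.UK h.ik hy
  have hy2K := F.UK h.jl hy2
  set y1 := cj (w i j) y2 with hy1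
  have hy1m : y1 ∈ U i l := F.w2 h.ij h.il.symm h.jl.symm y2 hy2
  have hy1K := F.UK h.il hy1m
  have hq0 : y2 * y1 ∈ W i j := F.uuw h.ij h.jl hy2
  have hP := F.uq h.ij h.ik.symm h.jk.symm hy (F.WQ h.ij hq0) (mul_mem hy2K hy1K)
  set p := cm y1 y with hp
  set q := cm y2 y with hq
  have pm1 : p ∈ U i k := F.cm_right h.ik hy1K hy
  have pm2 : p ∈ U i l := F.cm_left h.il hy1m hyK
  have pK := F.UK h.ik pm1
  have qm1 : q ∈ U i k := F.cm_right h.ik hy2K hy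
  have qm2 : q ∈ U j l := F.cm_left h.jl hy2 hyK
  have e1 : cj (y2 * y1) y = cj y2 p * (q * y) := by
    rw [← cj_cj, cj_eq_cm y1 y, cj_mul, cj_eq_cm y2 y]
  have pm3 : cj y2 p ∈ U i k := F.KU h.ik y2 hy2K p pm1
  have e2 : y⁻¹ * cj (y2 * y1) y = cj y2 p * q := by
    rw [e1, F.Uab h.ik q qm1 y hy, ← mul_assoc (cj y2 p), F.Uab h.ik _ pm3 y hy]
    group
  rw [e2] at hP
  -- `cj y2 p ∈ {p, s m * p}`
  have hD : D5 i k l j m :=
    ⟨h.ik, h.il, h.ij, h.im, h.kl, h.jk.symm, h.km, h.jl.symm, h.lm, h.jm⟩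
  have h6 : cm p y2 = 1 ∨ cm p y2 = s m :=
    F.cm_out hD pm2 (fun z hz => F.Uab h.ik p pm1 z hz) (Or.inr (Or.inr (F.Usym j l ▸ hy2)))
  have h7 : ∃ e : G, (e = 1 ∨ e = s m) ∧ cj y2 p = p * e := by
    have e3 : cj y2 p = (cm p y2)⁻¹ * p := by unfold cj cm; group
    rcases h6 with h6 | h6
    · exact ⟨1, Or.inl rfl, by rw [e3, h6]; group⟩
    · exact ⟨s m, Or.inr rfl, by rw [e3, h6, F.s_inv, F.Ks m p pK]⟩
  obtain ⟨e, he, h7⟩ := h7
  have heij : e ∈ U i j := by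
    rcases he with rfl | rfl
    · exact one_mem _
    · exact F.sU h.ij h.im.symm h.jm.symm
  have heik : e ∈ U i k := by
    rcases he with rfl | rfl
    · exact one_mem _
    · exact F.sU h.ik h.im.symm h.km.symm
  -- q = z1 * z2
  have h8 : ∃ z1 z2 : G, q = z1 * z2 ∧ z1 ∈ U i k ∧ z1 ∈ U i l ∧ z2 ∈ U i k ∧ z2 ∈ U i j := by
    have e4 : q = p * (e⁻¹ * (cj y2 p * q)) := by
      have e5 : q = (cj y2 p)⁻¹ * (cj y2 p * q) := by group
      have e6 : (cj y2 p)⁻¹ = p * e⁻¹ := by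
        rw [h7, mul_inv_rev, F.inv_self h.ik pm1, F.Uab h.ik e⁻¹ (inv_mem heik) p pm1]
      rw [e6, mul_assoc] at e5
      exact e5
    rcases hP.2 with h9 | h9
    · exact ⟨p, _, e4, pm1, pm2, mul_mem (inv_mem heik) hP.1, mul_mem (inv_mem heij) h9⟩
    · refine ⟨p * s j, e⁻¹ * (cj y2 p * q * s j), ?_, mul_mem pm1 (F.sU h.ik h.ij.symm h.jk),
        mul_mem pm2 (F.sU h.il h.ij.symm h.jl), mul_mem (inv_mem heik)
          (mul_mem hP.1 (F.sU h.ik h.ij.symm h.jk)), mul_mem (inv_mem heij) h9⟩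
      have hcom : s j * (e⁻¹ * (cj y2 p * q)) = e⁻¹ * (cj y2 p * q) * s j :=
        (F.Ks j _ (F.UK h.ik (mul_mem (inv_mem heik) hP.1))).symm
      calc q = p * (e⁻¹ * (cj y2 p * q)) := e4
        _ = p * (s j * s j * (e⁻¹ * (cj y2 p * q))) := by rw [F.s_sq, one_mul]
        _ = p * s j * (s j * (e⁻¹ * (cj y2 p * q))) := by group
        _ = p * s j * (e⁻¹ * (cj y2 p * q) * s j) := by rw [hcom]
        _ = p * s j * (e⁻¹ * (cj y2 p * q * s j)) := by group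
  obtain ⟨z1, z2, hz, m1, m2, m3, m4⟩ := h8
  -- `q` centralises `U j m`
  have hcq : Cen U q j m := by
    intro v hv
    have hvK := F.UK h.jm hv
    have c1 : Cen U z1 j m := F.pi_cen hD m1 m2
    have hD2 : D5 i j k m l := h.d
    have c2 : cm z2 v = 1 ∨ cm z2 v = s l :=
      F.cm_out hD2 m3 (fun y hy => F.Uab h.ij z2 m4 y hy) (Or.inr (Or.inl hv))
    have e5 : cm q v = cm z2 v := by
      have e6 : cj q v = cm z2 v * v := by
        rw [hz, ← cj_cj, cj_eq_cm z2 v, cj_mul, cj_eq_of_comm (c1 v hv)]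
        rcases c2 with c2 | c2
        · rw [c2, cj_one]
        · rw [c2, cj_eq_of_comm (F.Ks l z1 (F.UK h.ik m1))]
      rw [cm_eq, e6, mul_inv_cancel_right]
    rcases F.q_out h qm1 qm2 hv with h9 | h9
    · exact cm_one_iff.1 h9
    · rcases c2 with c2 | c2
      · exact cm_one_iff.1 (e5.trans c2)
      · exact absurd (by rw [← c2, ← e5, h9]) (F.sl_ne h)
  exact F.q_cen h qm1 qm2 hcq

/-- (3.7) `[U i k, U i l]` -/
theorem comm_adj (h : D5 i j k l m) {y y1 : G} (hy : y ∈ U i k) (hy1 : y1 ∈ U i l) :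
    cm y1 y = 1 ∨ cm y1 y = s m ∨ cm y1 y = s j ∨ cm y1 y = s m * s j := by
  have hyK := F.UK h.ik hy
  have hy1K := F.UK h.il hy1
  set y2 := cj (w i j) y1 with hy2
  have hy2m : y2 ∈ U j l := F.w1 h.ij h.il.symm h.jl.symm y1 hy1
  have hy2K := F.UK h.jl hy2m
  have hq0 : y1 * y2 ∈ W i j := F.uuw h.ij h.il hy1
  have hP := F.uq h.ij h.ik.symm h.jk.symm hy (F.WQ h.ij hq0) (mul_mem hy1K hy2K)
  set p := cm y1 y with hp
  set q := cm y2 y with hq
  have pm1 : p ∈ U i k := F.cm_right h.ik hy1K hy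
  have pm2 : p ∈ U i l := F.cm_left h.il hy1 hyK
  have qm1 : q ∈ U i k := F.cm_right h.ik hy2K hy
  have hqv := F.comm_disj h hy hy2m
  have qK : ∀ g ∈ K, g * q = q * g := by
    intro g hg
    rcases hqv with e | e | e | e
    · rw [← hq] at e; rw [e, mul_one, one_mul]
    · rw [← hq] at e; rw [e]; exact F.n_comm i k hg
    · rw [← hq] at e; rw [e]; exact F.Ks m g hg
    · rw [← hq] at e; rw [e]; exact F.n_comm j l hg
  -- `q` or `q * s j` in `U i j`
  have hqj : q ∈ U i j ∨ q * s j ∈ U i j := by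
    have hl : s l ∈ U i j := F.sU h.ij h.il.symm h.jl.symm
    have hm : s m ∈ U i j := F.sU h.ij h.im.symm h.jm.symm
    have hjlj : s j * s l * s j = s l := by rw [F.s_comm j l, F.s_mul_cancel]
    rcases hqv with e | e | e | e
    · left; rw [← hq] at e; rw [e]; exact one_mem _
    · right
      rw [← hq] at e
      have e2 : s i * s k = s j * s l * s m := by
        rw [← F.rel5 h, F.s_mul_cancel]
      have e3 : s j * s l * s m * s j = s l * s m := by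
        rw [mul_assoc (s j * s l), F.s_comm m j, ← mul_assoc, hjlj]
      rw [e, e2, e3]
      exact mul_mem hl hm
    · left; rw [← hq] at e; rw [e]; exact hm
    · right; rw [← hq] at e; rw [e, hjlj]; exact hl
  have e1 : cj (y1 * y2) y = q * (p * y) := by
    rw [← cj_cj, cj_eq_cm y2 y, cj_mul, cj_eq_cm y1 y, cj_eq_of_comm (qK y1 hy1K)]
  have e2 : y⁻¹ * cj (y1 * y2) y = q * p := by
    rw [e1, F.Uab h.ik p pm1 y hy, ← mul_assoc q, ← qK y hyK]
    group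
  rw [e2] at hP
  -- `p ∈ U i j` or `p * s j ∈ U i j`
  have pK := F.UK h.ik pm1
  have hpj : p ∈ U i j ∨ p * s j ∈ U i j := by
    have hpq : q * p = p * q := (qK p pK).symm
    rcases hP.2 with h9 | h9
    · rcases hqj with h10 | h10
      · left
        have := mul_mem (inv_mem h10) h9
        rwa [inv_mul_cancel_left] at this
      · right
        have := mul_mem h9 (inv_mem h10)
        have e3 : q * p * (q * s j)⁻¹ = p * s j := by
          have e4 : s j * q⁻¹ = q⁻¹ * s j := by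
            have e5 := qK (s j) (F.sK j)
            rw [eq_inv_mul_iff_mul_eq, ← mul_assoc, ← e5, mul_inv_cancel_right]
          rw [hpq, mul_inv_rev, F.s_inv, e4]
          group
        rwa [e3] at this
    · rcases hqj with h10 | h10
      · right
        have := mul_mem (inv_mem h10) h9
        have e3 : q⁻¹ * (q * p * s j) = p * s j := by group
        rwa [e3] at this
      · left
        have := mul_mem h9 (inv_mem h10)
        have e3 : q * p * s j * (q * s j)⁻¹ = p := by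
          rw [hpq]; group
        rwa [e3] at this
  rcases hpj with h9 | h9
  · rcases F.sig h ⟨h9, pm1, pm2⟩ with h10 | h10
    · exact Or.inl h10
    · exact Or.inr (Or.inl h10)
  · rcases F.sig h ⟨h9, mul_mem pm1 (F.sU h.ik h.ij.symm h.jk),
      mul_mem pm2 (F.sU h.il h.ij.symm h.jl)⟩ with h10 | h10
    · right; right; left
      rw [← F.s_mul_cancel j p, h10, one_mul]
    · right; right; right
      rw [← F.s_mul_cancel j p, h10]

end Fr

end Cfsg.Agent.Omega.TTn.Di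

end

section


/-!
# The hypotheses of §§4, 5 of #14261 (helper439), as a statement about `U = U₁₂`, `A = U₃₄`,
`n = 12`, `a = s₅`, `b = s₄`, `w = w₂₃`
-/

set_option autoImplicit false

namespace Cfsg.Agent.Omega.TTn.Di

open Subgroup

universe u

variable {G : Type u} [Group G]

/-- the hypotheses of §§4, 5 -/
structure TH (U A : Subgroup G) (n a b w : G) : Prop where
  comm : ∀ x ∈ U, ∀ y ∈ U, x * y = y * x
  sq : ∀ x ∈ U, x * x = 1
  n_mem : n ∈ U
  a_mem : a ∈ U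
  b_mem : b ∈ U
  norm : ∀ g, g * n = n * g → ∀ u ∈ U, cj g u ∈ U
  gen : U ≤ closure {x | x = n ∨ ∃ g, g * n = n * g ∧ x = cj g a}
  n1 : n ≠ 1
  a1 : a ≠ 1
  b1 : b ≠ 1
  an : a ≠ n
  bn : b ≠ n
  ab : a ≠ b
  nab : n ≠ a * b
  An : ∀ x ∈ A, x * n = n * x
  Ab : ∀ x ∈ A, x * b = b * x
  AU : ∀ x ∈ A, ∀ u ∈ U, cm x u = 1 ∨ cm x u = n ∨ cm x u = a ∨ cm x u = n * a
  ne : ∃ x ∈ A, ∃ u ∈ U, cm x u ≠ 1 ∧ cm x u ≠ n
  Aa : ∀ g, g * n = n * g → (cj g a = a ∨ cj g a = n * a) → ∀ x ∈ A, cj g x ∈ A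
  sw1 : ∃ g, g * n = n * g ∧ cj g a = b ∧ cj g b = a
  sw2 : ∃ g, g * n = n * g ∧ cj g a = n * (a * b) ∧ cj g b = b
  wn : ∀ z ∈ U, cj w z * n = n * cj w z
  wa : ∀ z ∈ U, cj w z * a = a * cj w z
  wb : ∀ z ∈ U, cj w z * b = b * cj w z
  wU : ∀ z ∈ U, ∀ u ∈ U, cm (cj w z) u = 1 ∨ cm (cj w z) u = a ∨ cm (cj w z) u = b ∨
    cm (cj w z) u = a * b
  ww : ∀ z ∈ U, z * cj w z = cj w z * z
  w0 : ∀ u ∈ U, u * cj w n = cj w n * u


end Cfsg.Agent.Omega.TTn.Di

end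

section


/-!
# The end of #14261 (helper439): `[U i j, U k l] = 1`

`FrN` = the frame `Fr` with the facts on `N_{ij} = C_G(s i s j)` which are used in §§4, 5.
-/

set_option autoImplicit false

namespace Cfsg.Agent.Omega.TTn.Di

open Subgroup

universe u

variable {G : Type u} [Group G]

/-- `Fr`, with the facts on `N_{ij} = C_G(s i s j)`: it normalises `U i j`; `U i j` is generated by
`s i s j` and the `N_{ij}`-conjugates of `s m`; `s m` is not conjugate to `s k s l`. -/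
structure FrN (s : Fin 5 → G) (U W Q : Fin 5 → Fin 5 → Subgroup G) (w : Fin 5 → Fin 5 → G)
    (K : Subgroup G) : Prop extends Fr s U W Q w K where
  NU : ∀ {i j}, i ≠ j → ∀ g, g * (s i * s j) = s i * s j * g → ∀ u ∈ U i j, cj g u ∈ U i j
  gen : ∀ {i j k l m}, D5 i j k l m → U i j ≤ closure {x | x = s i * s j ∨
    ∃ g, g * (s i * s j) = s i * s j * g ∧ x = cj g (s m)}
  nc : ∀ {i j k l m}, D5 i j k l m → ∀ g, cj g (s m) ≠ s k * s l
  wcj : ∀ {i j}, i ≠ j → cj (w i j) (s i) = s j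
  wcj' : ∀ {i j k}, i ≠ j → k ≠ i → k ≠ j → cj (w i j) (s k) = s k

namespace FrN

variable {s : Fin 5 → G} {U W Q : Fin 5 → Fin 5 → Subgroup G} {w : Fin 5 → Fin 5 → G}
  {K : Subgroup G} (F : FrN s U W Q w K) {i j k l m : Fin 5}

include F

/-- from `[U i j, U i k] = 1` to `[U k l, U k i] = 1` -/
theorem move (h : D5 i j k l m) (hc : ∀ y ∈ U i j, ∀ z ∈ U i k, y * z = z * y) :
    ∀ y ∈ U k l, ∀ z ∈ U k i, y * z = z * y := by
  -- `[U k j, U k i] = 1`
  have h1 : ∀ y ∈ U k j, ∀ z ∈ U k i, y * z = z * y := by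
    intro y hy z hz
    have e1 : w i k * z = z * w i k :=
      F.UQc h.ik _ (F.WQ h.ik (F.wW h.ik)) z (F.Usym k i ▸ hz)
    have h2 := hc _ (F.w2 h.ik h.ij.symm h.jk y hy) z (F.Usym k i ▸ hz)
    have h3 := congrArg (cj (w i k)) h2
    rwa [cj_mul, cj_mul, F.cj_w_w h.ik (F.UK h.jk.symm hy), cj_eq_of_comm e1] at h3
  intro y hy z hz
  have hyK := F.UK h.kl hy
  have hzK := F.UK h.ik.symm hz
  have hy1 : cj (w j l) y ∈ U k j := by
    rw [F.Usym]
    exact F.w2 h.jl h.jk.symm h.kl y (F.Usym k l ▸ hy)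
  have hz1 : cj (w j l) z ∈ U k i := F.w3 h.jl h.jk.symm h.kl h.ij h.il h.ik.symm z hz
  have h3 := congrArg (cj (w j l)) (h1 _ hy1 _ hz1)
  rwa [cj_mul, cj_mul, F.cj_w_w h.jl hyK, F.cj_w_w h.jl hzK] at h3

/-- `[U i j, U i k] = 1` gives `[U i j, U k l] = 1`. -/
theorem of_share (h : D5 i j k l m) (hc : ∀ y ∈ U i j, ∀ z ∈ U i k, y * z = z * y) :
    ∀ y ∈ U i j, ∀ z ∈ U k l, y * z = z * y := by
  intro y hy z hz
  have hyK := F.UK h.ij hy
  have hD : D5 k i l j m :=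
    ⟨h.ik.symm, h.kl, h.jk.symm, h.km, h.il, h.ij, h.im, h.jl.symm, h.lm, h.jm⟩
  have h1 : Fr.PP s U k l i z := F.thmC' hD hz fun v hv => F.move h hc z hz v hv
  rcases h1.2 with h2 | h2
  · exact hc y hy z (F.Usym k i ▸ h2)
  · have h3 := hc y hy _ (F.Usym k i ▸ h2)
    have h4 := F.Ks i y hyK
    have h5 : y * z * s i = z * y * s i := by
      rw [mul_assoc, h3, mul_assoc z y, h4, ← mul_assoc]
    exact mul_right_cancel h5

theorem s_prod (h : D5 i j k l m) : s k * s l * s m = s i * s j := by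
  have hD : D5 k i l j m :=
    ⟨h.ik.symm, h.kl, h.jk.symm, h.km, h.il, h.ij, h.im, h.jl.symm, h.lm, h.jm⟩
  exact F.rel5 hD

theorem s_prod' (h : D5 i j k l m) : s i * s j * s m = s k * s l := by
  exact F.rel5 h.b

theorem n_mem (h : D5 i j k l m) : s i * s j ∈ U i j := by
  rw [← F.s_prod h]
  exact mul_mem (mul_mem (F.sU h.ij h.ik.symm h.jk.symm) (F.sU h.ij h.il.symm h.jl.symm))
    (F.sU h.ij h.im.symm h.jm.symm)

theorem s_inj {a b : Fin 5} (h : a ≠ b) : s a ≠ s b := by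
  intro h1
  obtain ⟨c, hc, hc'⟩ : ∃ c : Fin 5, c ≠ a ∧ c ≠ b := by
    clear h1 F
    revert a b; decide
  exact F.sU' hc'.symm (h1 ▸ F.sU hc'.symm h hc.symm)

theorem wcj₂ (hij : i ≠ j) : cj (w i j) (s j) = s i := by
  rw [← F.wcj hij, F.cj_w_w hij (F.sK i)]

/-- the hypotheses of §§4, 5 hold if `[U i j, U k l] ≠ 1` -/
theorem th (h : D5 i j k l m) (hne : ¬ ∀ y ∈ U i j, ∀ z ∈ U k l, y * z = z * y) :
    TH (U i j) (U k l) (s i * s j) (s m) (s l) (w j k) := by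
  have hn := F.n_mem h
  have hm : s m ∈ U i j := F.sU h.ij h.im.symm h.jm.symm
  have hl : s l ∈ U i j := F.sU h.ij h.il.symm h.jl.symm
  have hK : ∀ {z}, z ∈ U i j → cj (w j k) z ∈ U i k := by
    intro z hz
    rw [F.Usym]
    exact F.w1 h.jk h.ij h.ik z (F.Usym i j ▸ hz)
  have hK' : ∀ {z}, z ∈ U i j → cj (w j k) z ∈ K := fun hz => F.UK h.ik (hK hz)
  refine ⟨F.Uab h.ij, F.Usq h.ij, hn, hm, hl, F.NU h.ij, F.gen h, ?_, F.s_ne m, F.s_ne l, ?_, ?_,
    F.s_inj h.lm.symm, ?_, ?_, ?_, ?_, ?_, ?_, ?_, ?_, ?_, ?_, ?_, ?_, ?_, ?_⟩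
  · intro h1
    have h2 := F.s_inj h.ij
    exact h2 (by rw [← mul_one (s j), ← F.s_sq i, F.s_comm i i, ← mul_assoc, F.s_comm j i, h1, one_mul])
  · exact F.sl_ne h.b.d
  · exact F.sl_ne h.b
  · intro h1
    refine F.s_ne k ?_
    have h2 := F.s_prod h
    rw [h1, mul_assoc, F.s_comm l m] at h2
    exact mul_eq_right.1 h2
  · intro x hx
    exact F.n_comm i j (F.UK h.kl hx)
  · intro x hx
    exact F.Ks l x (F.UK h.kl hx)
  · intro x hx u hu
    rcases F.comm_disj h.b hu hx with e | e | e | e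
    · exact Or.inl e
    · exact Or.inr (Or.inl e)
    · exact Or.inr (Or.inr (Or.inl e))
    · refine Or.inr (Or.inr (Or.inr ?_))
      rw [e, F.s_prod' h]
  · by_contra hcon
    push Not at hcon
    refine hne fun y hy z hz => ?_
    refine (F.faith h.ij z (F.UK h.kl hz) (fun u hu => ?_) y hy).symm
    by_cases h1 : cm z u = 1
    · exact Or.inl h1
    · exact Or.inr (hcon z hz u hu h1)
  · intro g hg hga x hx
    have hmn : cj g (s m) = s m := by
      rcases hga with e | e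
      · exact e
      · exact absurd (e.trans (F.s_prod' h)) (F.nc h g)
    refine F.NU h.kl g ?_ x hx
    rw [← F.s_prod' h, ← mul_assoc, hg, mul_assoc (s i * s j), comm_of_cj hmn, ← mul_assoc]
  · refine ⟨w m l, ?_, F.wcj h.lm.symm, F.wcj₂ h.lm.symm⟩
    exact comm_of_cj (by rw [cj_mul, F.wcj' h.lm.symm h.im h.il, F.wcj' h.lm.symm h.jm h.jl])
  · refine ⟨w m k, ?_, ?_, F.wcj' h.km.symm h.lm h.kl.symm⟩
    · exact comm_of_cj (by rw [cj_mul, F.wcj' h.km.symm h.im h.ik, F.wcj' h.km.symm h.jm h.jk])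
    · rw [F.wcj h.km.symm, ← F.s_prod h, F.s_comm m l, mul_assoc (s k * s l), ← mul_assoc (s m),
        F.s_comm m l, mul_assoc (s l), F.s_sq, mul_one, mul_assoc, F.s_sq, mul_one]
  · intro z hz
    exact F.n_comm i j (hK' hz)
  · intro z hz
    exact F.Ks m _ (hK' hz)
  · intro z hz
    exact F.Ks l _ (hK' hz)
  · intro z hz u hu
    have hD : D5 i l j k m :=
      ⟨h.il, h.ij, h.ik, h.im, h.jl.symm, h.kl.symm, h.lm, h.jk, h.jm, h.km⟩
    rcases F.comm_adj hD hu (hK hz) with e | e | e | e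
    · exact Or.inl e
    · exact Or.inr (Or.inl e)
    · exact Or.inr (Or.inr (Or.inl e))
    · exact Or.inr (Or.inr (Or.inr e))
  · intro z hz
    exact F.alt h.ij h.ik.symm h.jk.symm hz
  · intro u hu
    rw [cj_mul, F.wcj' h.jk h.ij h.ik, F.wcj h.jk]
    exact F.n_comm i k (F.UK h.ij hu)

/-- `[U i j, U k l] = 1`, given §§4, 5 as `hT`. -/
theorem comm_of (hT : ∀ {U A : Subgroup G} {n a b w : G}, TH U A n a b w →
    ∀ z ∈ U, ∀ u ∈ U, cj w z * u = u * cj w z) (h : D5 i j k l m) :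
    ∀ y ∈ U i j, ∀ z ∈ U k l, y * z = z * y := by
  by_contra hne
  refine hne (F.of_share h fun y hy z hz => ?_)
  have h1 := hT (F.th h hne)
  have h2 : cj (w j k) z ∈ U i j := by
    rw [F.Usym]
    exact F.w2 h.jk h.ij h.ik z (F.Usym i k ▸ hz)
  have h3 := h1 _ h2 y hy
  rw [F.cj_w_w h.jk (F.UK h.ik hz)] at h3
  exact h3.symm

end FrN

end Cfsg.Agent.Omega.TTn.Di

end

section


/-!
# Transvections over `F₂` with a totally isotropic line of centres (helper439, #14261 §4, §5)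

`X` a finite `F₂`-space spanned by the orbit `𝒱` of `a` under `Γ`; `Has τ v`: some element of `Γ`
acts as the transvection `y ↦ y + τ(y) v`.  `Λ` is a nonzero group of functionals of transvections
with centre `a`, invariant under the stabiliser of `a` and killing `a, b`; some elements of `Γ`
induce the transpositions `(a b)` and `(a a+b)` on the line `{a, b, a+b}`.  THEN there is exactly one
transvection for every centre (`uniq`), and (`kill`) if `B₄, B₅` are alternating and all maps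
`y ↦ y + B₄(y,z) b + B₅(y,z) a` come from `Γ`, then `B₄ = B₅ = 0`.
-/

set_option autoImplicit false

namespace Cfsg.Agent.Omega.TTn.DiKill

variable {X : Type*} [AddCommGroup X] [Module (ZMod 2) X] {Γ : Type*} [Group Γ]

/-- functionals -/
abbrev Fn (X : Type*) [AddCommGroup X] [Module (ZMod 2) X] := X →ₗ[ZMod 2] ZMod 2

theorem z2 (t : ZMod 2) : t = 0 ∨ t = 1 := by
  revert t; decide

theorem z2' {t : ZMod 2} (h : t ≠ 0) : t = 1 := (z2 t).resolve_left h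

theorem add_self (x : X) : x + x = 0 := by
  have h : ((1 : ZMod 2) + 1) • x = 0 := by
    have : (1 : ZMod 2) + 1 = 0 := by decide
    rw [this, zero_smul]
  rwa [add_smul, one_smul] at h

theorem add_self_fn (f : Fn X) : f + f = 0 := add_self f

theorem zadd_self (t : ZMod 2) : t + t = 0 := by revert t; decide

/-- A linear action. -/
structure Act (Γ X : Type*) [Group Γ] [AddCommGroup X] [Module (ZMod 2) X] where
  ρ : Γ → X →ₗ[ZMod 2] X
  one : ∀ x, ρ 1 x = x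
  mul : ∀ g h x, ρ (g * h) x = ρ g (ρ h x)

variable (A : Act Γ X)

namespace Act

theorem inv_l (g : Γ) (x : X) : A.ρ g⁻¹ (A.ρ g x) = x := by
  rw [← A.mul, inv_mul_cancel, A.one]

theorem inv_r (g : Γ) (x : X) : A.ρ g (A.ρ g⁻¹ x) = x := by
  rw [← A.mul, mul_inv_cancel, A.one]

/-- the transvection `y ↦ y + τ(y) v` is in the image of `Γ` -/
def Has (τ : Fn X) (v : X) : Prop := ∃ g, ∀ y, A.ρ g y = y + τ y • v

/-- `τ ∈ Λ*_v` -/
def In (τ : Fn X) (v : X) : Prop := τ v = 0 ∧ A.Has τ v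

/-- orbit -/
def Orb (a v : X) : Prop := ∃ g, A.ρ g a = v

variable {A}

theorem Has.conj {τ : Fn X} {v : X} (h : A.Has τ v) (k : Γ) :
    A.Has (τ ∘ₗ A.ρ k⁻¹) (A.ρ k v) := by
  obtain ⟨g, hg⟩ := h
  refine ⟨k * g * k⁻¹, fun y => ?_⟩
  rw [A.mul, A.mul, hg, map_add, A.inv_r, map_smul]
  rfl

theorem In.conj {τ : Fn X} {v : X} (h : A.In τ v) (k : Γ) :
    A.In (τ ∘ₗ A.ρ k⁻¹) (A.ρ k v) := by
  refine ⟨?_, h.2.conj k⟩
  change τ (A.ρ k⁻¹ (A.ρ k v)) = 0
  rw [A.inv_l]; exact h.1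

theorem In.conj' {τ : Fn X} {v : X} {k : Γ} (h : A.In τ (A.ρ k v)) :
    A.In (τ ∘ₗ A.ρ k) v := by
  have h1 := h.conj k⁻¹
  rw [A.inv_l, inv_inv] at h1
  exact h1

theorem In.zero (v : X) : A.In (0 : Fn X) v :=
  ⟨rfl, 1, fun y => by rw [A.one, LinearMap.zero_apply, zero_smul, add_zero]⟩

theorem In.add {τ τ' : Fn X} {v : X} (h : A.In τ v) (h' : A.In τ' v) : A.In (τ + τ') v := by
  obtain ⟨h1, g, hg⟩ := h
  obtain ⟨h1', g', hg'⟩ := h'
  refine ⟨by rw [LinearMap.add_apply, h1, h1', add_zero], g * g', fun y => ?_⟩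
  rw [A.mul, hg', map_add, hg, map_smul, hg, h1, zero_smul, add_zero, LinearMap.add_apply, add_smul]
  abel

/-- same functional, two centres -/
theorem In.centre {τ : Fn X} {v v' : X} (h : A.In τ v) (h' : A.In τ v') : A.In τ (v + v') := by
  obtain ⟨h1, g, hg⟩ := h
  obtain ⟨h1', g', hg'⟩ := h'
  refine ⟨by rw [map_add, h1, h1', add_zero], g * g', fun y => ?_⟩
  rw [A.mul, hg', map_add, hg, map_smul, hg, h1', zero_smul, add_zero, smul_add]
  abel

/-- the basic computation -/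
theorem In.move {τ τ' : Fn X} {v v' : X} (h : A.In τ v) (hv : τ v' = 0) (h' : A.In τ' v')
    (hv' : τ' v = 1) : A.In τ v' := by
  obtain ⟨h1', g', hg'⟩ := h'
  have h2 : ∀ y, A.ρ g'⁻¹ y = y + τ' y • v' := by
    intro y
    have h3 : y = A.ρ g' (y + τ' y • v') := by
      rw [map_add, hg', map_smul, hg', h1', zero_smul, add_zero, add_assoc, ← add_smul, zadd_self,
        zero_smul, add_zero]
    conv_lhs => rw [h3]
    rw [A.inv_l]
  have h4 := h.conj g'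
  have h5 : τ ∘ₗ A.ρ g'⁻¹ = τ := by
    ext y
    change τ (A.ρ g'⁻¹ y) = τ y
    rw [h2, map_add, map_smul, hv, smul_zero, add_zero]
  rw [h5, hg', hv', one_smul] at h4
  have h6 := h.centre h4
  rwa [← add_assoc, add_self, zero_add] at h6

variable (A) in
theorem Orb.conj {a v : X} (h : A.Orb a v) (k : Γ) : A.Orb a (A.ρ k v) := by
  obtain ⟨g, rfl⟩ := h
  exact ⟨k * g, A.mul _ _ _⟩

variable (A) in
theorem Orb.trans {a v v' : X} (h : A.Orb a v) (h' : A.Orb a v') : ∃ k, A.ρ k v = v' := by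
  obtain ⟨g, rfl⟩ := h
  obtain ⟨g', rfl⟩ := h'
  exact ⟨g' * g⁻¹, by rw [A.mul, A.inv_l]⟩

/-- if `Λ*_v ⊆ Λ*_{v'}` for conjugate `v, v'`, they are equal -/
theorem eq_of_sub [Finite X] {a v v' : X} (h : A.Orb a v) (h' : A.Orb a v')
    (hs : ∀ τ, A.In τ v → A.In τ v') {τ : Fn X} (hτ : A.In τ v') : A.In τ v := by
  obtain ⟨k, rfl⟩ := Orb.trans A h h'
  have : Finite (Fn X) := by
    have : Finite (X → ZMod 2) := inferInstance
    exact Finite.of_injective (fun f : Fn X => (f : X → ZMod 2)) DFunLike.coe_injective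
  have h1 : {τ : Fn X | A.In τ v}.ncard = {τ : Fn X | A.In τ (A.ρ k v)}.ncard := by
    refine Set.ncard_congr (fun τ _ => τ ∘ₗ A.ρ k⁻¹) ?_ ?_ ?_
    · intro τ h; exact In.conj h k
    · intro τ τ' _ _ h
      ext y
      have := congrArg (fun f : Fn X => f (A.ρ k y)) h
      simpa [A.inv_l] using this
    · intro τ h
      refine ⟨τ ∘ₗ A.ρ k, In.conj' h, ?_⟩
      ext y
      change τ (A.ρ k (A.ρ k⁻¹ y)) = τ y
      rw [A.inv_r]
  have h2 : {τ : Fn X | A.In τ v} = {τ : Fn X | A.In τ (A.ρ k v)} :=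
    Set.eq_of_subset_of_ncard_le (fun τ h => hs τ h) h1.symm.le (Set.toFinite _)
  have h3 : τ ∈ {τ : Fn X | A.In τ (A.ρ k v)} := hτ
  rw [← h2] at h3
  exact h3

/-- SYMMETRY (4.1) -/
theorem symm [Finite X] {a v v' : X} (h : A.Orb a v) (h' : A.Orb a v')
    (hk : ∀ τ, A.In τ v → τ v' = 0) {τ : Fn X} (hτ : A.In τ v') : τ v = 0 := by
  by_contra hne
  have h1 := z2' hne
  have h2 : ∀ σ, A.In σ v → A.In σ v' := fun σ hσ => hσ.move (hk σ hσ) hτ h1
  have h3 := eq_of_sub h h' h2 hτ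
  exact hne h3.1

/-- CLOSURE (4.2) -/
theorem closure [Finite X] {a v v' : X} (h : A.Orb a v) (h' : A.Orb a v') {σ τ : Fn X}
    (hσ : A.In σ v) (hσ' : σ v' ≠ 0) (hτ : A.In τ v) (hτ' : τ v' = 0) : A.In τ v' := by
  have h1 : ∃ τ', A.In τ' v' ∧ τ' v = 1 := by
    by_contra hc
    push Not at hc
    exact hσ' (symm h' h (fun τ' hh => (z2 _).resolve_right (hc τ' hh)) hσ)
  obtain ⟨τ', h2, h3⟩ := h1
  exact hτ.move hτ' h2 h3

/-- a functional vanishing on the orbit is zero -/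
theorem fn_zero {a : X} (hsp : ∀ f : Fn X, (∀ v, A.Orb a v → f v = 0) → f = 0)
    {f : Fn X} (hf : f ≠ 0) : ∃ v, A.Orb a v ∧ f v = 1 := by
  by_contra hc
  push Not at hc
  exact hf (hsp f fun v hv => (z2 _).resolve_right (hc v hv))

end Act

/-- The hypotheses. -/
structure Dat (A : Act Γ X) (a b : X) (Λ : Fn X → Prop) : Prop where
  span : ∀ f : Fn X, (∀ v, A.Orb a v → f v = 0) → f = 0
  swap₁ : ∃ g, A.ρ g a = b ∧ A.ρ g b = a
  swap₂ : ∃ g, A.ρ g a = a + b ∧ A.ρ g b = b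
  in_ : ∀ τ, Λ τ → A.In τ a
  kb : ∀ τ, Λ τ → τ b = 0
  ne : ∃ τ, Λ τ ∧ τ ≠ 0
  stab : ∀ τ, Λ τ → ∀ g, A.ρ g a = a → Λ (τ ∘ₗ A.ρ g)
  add : ∀ τ τ', Λ τ → Λ τ' → Λ (τ + τ')

namespace Dat

variable {A} {a b : X} {Λ : Fn X → Prop} (D : Dat A a b Λ)

include D

theorem orb_a : A.Orb a a := ⟨1, A.one a⟩

theorem orb_b : A.Orb a b := by
  obtain ⟨g, h, _⟩ := D.swap₁
  exact ⟨g, h⟩

theorem orb_c : A.Orb a (a + b) := by
  obtain ⟨g, h, _⟩ := D.swap₂
  exact ⟨g, h⟩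

/-- (4.3): `Λ*_a = Λ_a` -/
theorem all [Finite X] {σ : Fn X} (hσ : A.In σ a) : Λ σ := by
  obtain ⟨τ, hτ, hne⟩ := D.ne
  obtain ⟨v, hv, h1⟩ := A.fn_zero D.span hne
  have key : ∀ τ₀, A.In τ₀ a → τ₀ v = 0 → Λ τ₀ := by
    intro τ₀ h0 h00
    have h2 : A.In τ₀ v := Act.closure D.orb_a hv (D.in_ τ hτ) (by rw [h1]; exact one_ne_zero) h0 h00
    obtain ⟨_, g, hg⟩ := h2
    have h3 : A.ρ g a = a := by rw [hg, h0.1, zero_smul, add_zero]
    have h4 := D.stab τ hτ g h3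
    have h5 : τ ∘ₗ A.ρ g = τ + τ₀ := by
      ext y
      change τ (A.ρ g y) = τ y + τ₀ y
      rw [hg, map_add, map_smul, h1, smul_eq_mul, mul_one]
    rw [h5] at h4
    have h6 := D.add _ _ hτ h4
    rwa [← add_assoc, add_self_fn, zero_add] at h6
  rcases z2 (σ v) with h | h
  · exact key σ hσ h
  · have h2 := key (σ + τ) (hσ.add (D.in_ τ hτ)) (by rw [LinearMap.add_apply, h, h1]; decide)
    have h3 := D.add _ _ h2 hτ
    rwa [add_assoc, add_self_fn, add_zero] at h3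

theorem kill_ab [Finite X] {σ : Fn X} (hσ : A.In σ a) : σ b = 0 := D.kb _ (D.all hσ)

theorem kill_ac [Finite X] {σ : Fn X} (hσ : A.In σ a) : σ (a + b) = 0 := by
  rw [map_add, hσ.1, D.kill_ab hσ, add_zero]

theorem kill_ba [Finite X] {σ : Fn X} (hσ : A.In σ b) : σ a = 0 := by
  obtain ⟨g, h1, h2⟩ := D.swap₁
  have h3 : A.In (σ ∘ₗ A.ρ g) a := Act.In.conj' (by rwa [h1])
  have h4 := D.kill_ab h3
  change σ (A.ρ g b) = 0 at h4
  rwa [h2] at h4

theorem kill_cb [Finite X] {σ : Fn X} (hσ : A.In σ (a + b)) : σ b = 0 := by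
  obtain ⟨g, h1, h2⟩ := D.swap₂
  have h3 : A.In (σ ∘ₗ A.ρ g) a := Act.In.conj' (by rwa [h1])
  have h4 := D.kill_ab h3
  change σ (A.ρ g b) = 0 at h4
  rwa [h2] at h4

theorem kill_ca [Finite X] {σ : Fn X} (hσ : A.In σ (a + b)) : σ a = 0 := by
  have h1 := hσ.1
  rw [map_add, D.kill_cb hσ, add_zero] at h1
  exact h1

/-- `v` not killed by `Λ*_a`; `w, w'` the other two centres with `Λ*_v` killing `w` and not `w'` -/
theorem step [Finite X] {v w w' : X} (hv : A.Orb a v) (hw : A.Orb a w) (hw' : A.Orb a w')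
    (haw : ∀ σ, A.In σ a → σ w = 0) (haw' : ∀ σ, A.In σ a → σ w' = 0) (hsum : a + w' = w)
    {τ' : Fn X} (h1 : A.In τ' v) (h2 : τ' a = 1) (h3 : τ' w' = 1) :
    (∀ τ₀, A.In τ₀ a → τ₀ v = 0 → A.In τ₀ w ∧ A.In τ₀ w') ∧ (∀ σ, A.In σ w → σ v = 0) := by
  have h4 : τ' w = 0 := by rw [← hsum, map_add, h2, h3]; decide
  have hn : τ' a ≠ 0 := by rw [h2]; exact one_ne_zero
  have hn' : τ' w' ≠ 0 := by rw [h3]; exact one_ne_zero
  have h5 : ∀ τ'', A.In τ'' v → τ'' a = 0 → A.In τ'' a :=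
    fun τ'' h h0 => Act.closure hv D.orb_a h1 hn h h0
  have h6 : ∀ τ'', A.In τ'' v → τ'' w = 0 := by
    intro τ'' h
    rcases z2 (τ'' a) with h0 | h0
    · exact haw _ (h5 _ h h0)
    · have h7 := haw _ (h5 (τ'' + τ') (h.add h1) (by rw [LinearMap.add_apply, h0, h2]; decide))
      rwa [LinearMap.add_apply, h4, add_zero] at h7
  refine ⟨fun τ₀ h0 h00 => ?_, fun σ hσ => Act.symm hv hw h6 hσ⟩
  have hva : ∃ σ, A.In σ a ∧ σ v ≠ 0 := by
    by_contra hc
    push Not at hc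
    exact hn (Act.symm D.orb_a hv hc h1)
  obtain ⟨σ, hs1, hs2⟩ := hva
  have h8 : A.In τ₀ v := Act.closure D.orb_a hv hs1 hs2 h0 h00
  have h9 : A.In τ₀ w' := Act.closure hv hw' h1 hn' h8 (haw' _ h0)
  refine ⟨?_, h9⟩
  rw [← hsum]
  exact h0.centre h9

/-- (4.4) first part: `Λ₁ = Λ*_a ∩ Λ*_b ∩ Λ*_c = 0` -/
theorem one_zero [Finite X] {τ₀ : Fn X} (ha : A.In τ₀ a) (hb : A.In τ₀ b)
    (hc : A.In τ₀ (a + b)) : τ₀ = 0 := by
  refine D.span τ₀ fun v hv => ?_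
  by_contra hne
  have hva := hne
  -- `v` is not killed by `Λ*_a`
  have h1 : ∃ τ', A.In τ' v ∧ τ' a = 1 := by
    by_contra hh
    push Not at hh
    exact hne (Act.symm hv D.orb_a (fun τ' h => (z2 _).resolve_right (hh τ' h)) ha)
  obtain ⟨τ', h1, h2⟩ := h1
  rcases z2 (τ' b) with h3 | h3
  · have h4 : τ' (a + b) = 1 := by rw [map_add, h2, h3, add_zero]
    have h5 := (D.step hv D.orb_b D.orb_c (fun σ h => D.kill_ab h) (fun σ h => D.kill_ac h)
      (by rw [← add_assoc, add_self, zero_add]) h1 h2 h4).2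
    exact hne (h5 _ hb)
  · have h5 := (D.step hv D.orb_c D.orb_b (fun σ h => D.kill_ac h) (fun σ h => D.kill_ab h)
      rfl h1 h2 h3).2
    exact hne (h5 _ hc)

theorem zero_of [Finite X] {v : X} (hv : A.Orb a v) {σ : Fn X} (hσ : A.In σ a) (hσv : σ v ≠ 0)
    {τ₀ : Fn X} (h0 : A.In τ₀ a) (h00 : τ₀ v = 0) : τ₀ = 0 := by
  have h1 : ∃ τ', A.In τ' v ∧ τ' a = 1 := by
    by_contra hh
    push Not at hh
    exact hσv (Act.symm hv D.orb_a (fun τ' h => (z2 _).resolve_right (hh τ' h)) hσ)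
  obtain ⟨τ', h1, h2⟩ := h1
  rcases z2 (τ' b) with h3 | h3
  · have h4 : τ' (a + b) = 1 := by rw [map_add, h2, h3, add_zero]
    have h5 := (D.step hv D.orb_b D.orb_c (fun σ h => D.kill_ab h) (fun σ h => D.kill_ac h)
      (by rw [← add_assoc, add_self, zero_add]) h1 h2 h4).1 τ₀ h0 h00
    exact D.one_zero h0 h5.1 h5.2
  · have h5 := (D.step hv D.orb_c D.orb_b (fun σ h => D.kill_ac h) (fun σ h => D.kill_ab h)
      rfl h1 h2 h3).1 τ₀ h0 h00
    exact D.one_zero h0 h5.2 h5.1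

/-- (4.4): uniqueness of the transvection with centre `a` -/
theorem uniq_a [Finite X] {σ τ : Fn X} (hσ : A.In σ a) (hτ : A.In τ a) (h1 : σ ≠ 0) (h2 : τ ≠ 0) :
    σ = τ := by
  obtain ⟨v, hv, h3⟩ := A.fn_zero D.span h1
  have hn : σ v ≠ 0 := by rw [h3]; exact one_ne_zero
  have h4 : τ v ≠ 0 := fun h => h2 (D.zero_of hv hσ hn hτ h)
  have h5 : σ + τ = 0 := D.zero_of hv hσ hn (hσ.add hτ) (by
    rw [LinearMap.add_apply, h3, z2' h4]; decide)
  have h6 := congrArg (· + τ) h5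
  simpa [add_assoc, add_self_fn] using h6

/-- uniqueness for every centre in the orbit -/
theorem uniq [Finite X] {v : X} (hv : A.Orb a v) {σ τ : Fn X} (hσ : A.In σ v) (hτ : A.In τ v)
    (h1 : σ ≠ 0) (h2 : τ ≠ 0) : σ = τ := by
  obtain ⟨k, rfl⟩ := hv
  have key : ∀ f : Fn X, f ∘ₗ A.ρ k = 0 → f = 0 := by
    intro f hf
    ext y
    have := congrArg (fun g : Fn X => g (A.ρ k⁻¹ y)) hf
    simpa [A.inv_r] using this
  have h3 : σ ∘ₗ A.ρ k = τ ∘ₗ A.ρ k :=
    D.uniq_a hσ.conj' hτ.conj' (fun h => h1 (key _ h)) (fun h => h2 (key _ h))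
  ext y
  have := congrArg (fun g : Fn X => g (A.ρ k⁻¹ y)) h3
  simpa [A.inv_r] using this

theorem ex [Finite X] {v : X} (hv : A.Orb a v) : ∃ τ, A.In τ v ∧ τ ≠ 0 := by
  obtain ⟨k, rfl⟩ := hv
  obtain ⟨τ, h1, h2⟩ := D.ne
  refine ⟨τ ∘ₗ A.ρ k⁻¹, (D.in_ τ h1).conj k, fun h => h2 ?_⟩
  ext y
  have := congrArg (fun g : Fn X => g (A.ρ k y)) h
  simpa [A.inv_l] using this

/-- the form is symmetric -/
theorem form_symm [Finite X] {v v' : X} (hv : A.Orb a v) (hv' : A.Orb a v') {σ τ : Fn X}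
    (hσ : A.In σ v) (hτ : A.In τ v') (h1 : σ ≠ 0) (h2 : τ ≠ 0) : σ v' = τ v := by
  have key : ∀ {v v' : X}, A.Orb a v → A.Orb a v' → ∀ {σ τ : Fn X}, A.In σ v → A.In τ v' →
      σ ≠ 0 → τ ≠ 0 → σ v' = 0 → τ v = 0 := by
    intro v v' hv hv' σ τ hσ hτ h1 h2 h
    refine Act.symm hv hv' (fun f hf => ?_) hτ
    by_cases h0 : f = 0
    · rw [h0]; rfl
    · rw [D.uniq hv hf hσ h0 h1]; exact h
  rcases z2 (σ v') with h | h
  · rw [h, key hv hv' hσ hτ h1 h2 h]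
  · rcases z2 (τ v) with h' | h'
    · rw [key hv' hv hτ hσ h2 h1 h'] at h
      exact absurd h (by decide)
    · rw [h, h']

/-- additivity of `v ↦ τ_v` along an element of `Γ` acting as `y ↦ y + p(y) b + q(y) a` -/
theorem rel [Finite X] {p q : Fn X} {g : Γ} (hg : ∀ y, A.ρ g y = y + p y • b + q y • a)
    {φa φb : Fn X} (ha : A.In φa a) (hb : A.In φb b) (ha0 : φa ≠ 0) (hb0 : φb ≠ 0)
    {v : X} (hv : A.Orb a v) (v' : X) :
    p v' * φb v + p v * φb v' + q v' * φa v + q v * φa v' = 0 := by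
  obtain ⟨σ, hσ, hσ0⟩ := D.ex hv
  have h1 : A.In (σ ∘ₗ A.ρ g⁻¹) (A.ρ g v) := hσ.conj g
  have h2 : σ ∘ₗ A.ρ g⁻¹ ≠ 0 := by
    intro h
    apply hσ0
    ext y
    have := congrArg (fun f : Fn X => f (A.ρ g y)) h
    simpa [A.inv_l] using this
  have hgv : A.Orb a (A.ρ g v) := Act.Orb.conj A hv g
  have h3 : σ ∘ₗ A.ρ g⁻¹ = σ + p v • φb + q v • φa := by
    have h4 := D.span (σ ∘ₗ A.ρ g⁻¹ + (σ + p v • φb + q v • φa)) ?_
    · have h6 := congrArg (· + (σ + p v • φb + q v • φa)) h4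
      simpa only [add_assoc (σ ∘ₗ A.ρ g⁻¹), add_self_fn, add_zero, zero_add] using h6
    · intro u hu
      obtain ⟨υ, hυ, hυ0⟩ := D.ex hu
      have e1 := D.form_symm hgv hu h1 hυ h2 hυ0
      have e2 := D.form_symm hv hu hσ hυ hσ0 hυ0
      have e3 := D.form_symm D.orb_b hu hb hυ hb0 hυ0
      have e4 := D.form_symm D.orb_a hu ha hυ ha0 hυ0
      rw [LinearMap.add_apply, LinearMap.add_apply, LinearMap.add_apply, LinearMap.smul_apply,
        LinearMap.smul_apply, e1, e2, e3, e4, hg, map_add, map_add, map_smul, map_smul]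
      exact zadd_self _
  have h5 : (σ ∘ₗ A.ρ g⁻¹) (A.ρ g v') = σ v' := by
    change σ (A.ρ g⁻¹ (A.ρ g v')) = σ v'
    rw [A.inv_l]
  rw [h3, hg] at h5
  simp only [LinearMap.add_apply, LinearMap.smul_apply, map_add, map_smul, smul_eq_mul, ha.1, hb.1,
    D.kill_ab ha, D.kill_ba hb, mul_zero, add_zero] at h5
  have e2 := D.form_symm hv D.orb_b hσ hb hσ0 hb0
  have e3 := D.form_symm hv D.orb_a hσ ha hσ0 ha0
  rw [e2, e3] at h5
  generalize σ v' = x1 at h5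
  generalize p v = x2 at h5 ⊢
  generalize p v' = x3 at h5 ⊢
  generalize q v = x4 at h5 ⊢
  generalize q v' = x5 at h5 ⊢
  generalize φb v = x6 at h5 ⊢
  generalize φb v' = x7 at h5 ⊢
  generalize φa v = x8 at h5 ⊢
  generalize φa v' = x9 at h5 ⊢
  revert h5
  revert x1 x2 x3 x4 x5 x6 x7 x8 x9
  decide

omit D in
/-- two different nonzero functionals have a separating vector -/
theorem sep {f g : Fn X} (hf : f ≠ 0) (hfg : f ≠ g) : ∃ x, f x = 1 ∧ g x = 0 := by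
  by_contra hc
  push Not at hc
  have h1 : ∀ x, g x = 0 → f x = 0 := fun x hx => by
    by_contra h
    exact hc x (z2' h) hx
  by_cases hg : g = 0
  · exact hf (by ext x; exact h1 x (by rw [hg]; rfl))
  · have h2 : ∃ x₀, g x₀ = 1 := by
      by_contra hh
      push Not at hh
      exact hg (by ext x; exact (z2 _).resolve_right (hh x))
    obtain ⟨x₀, h2⟩ := h2
    have h3 : ∀ x, f x = g x * f x₀ := by
      intro x
      have h4 := h1 (x + g x • x₀) (by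
        rw [map_add, map_smul, h2, smul_eq_mul, mul_one]; exact zadd_self _)
      rw [map_add, map_smul, smul_eq_mul] at h4
      generalize f x = t at h4 ⊢
      generalize g x * f x₀ = t' at h4 ⊢
      revert t t'
      decide
    rcases z2 (f x₀) with h | h
    · exact hf (by ext x; change f x = 0; rw [h3, h, mul_zero])
    · exact hfg (by ext x; rw [h3, h, mul_one])

/-- the relation for all vectors -/
theorem rel' [Finite X] {p q : Fn X} {g : Γ} (hg : ∀ y, A.ρ g y = y + p y • b + q y • a)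
    {φa φb : Fn X} (ha : A.In φa a) (hb : A.In φb b) (ha0 : φa ≠ 0) (hb0 : φb ≠ 0) (v v' : X) :
    p v' * φb v + p v * φb v' + q v' * φa v + q v * φa v' = 0 := by
  have h1 := D.span (p v' • φb + φb v' • p + q v' • φa + φa v' • q) ?_
  · have h2 := congrArg (fun f : Fn X => f v) h1
    simp only [LinearMap.add_apply, LinearMap.smul_apply, smul_eq_mul, LinearMap.zero_apply] at h2
    rw [← h2]
    ring
  · intro u hu
    have h2 := D.rel hg ha hb ha0 hb0 hu v'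
    simp only [LinearMap.add_apply, LinearMap.smul_apply, smul_eq_mul]
    rw [← h2]
    ring

/-- **KILL** (§5) -/
theorem kill [Finite X] {p q : X → Fn X} (hp : ∀ z z' y, p (z + z') y = p z y + p z' y)
    (hq : ∀ z z' y, q (z + z') y = q z y + q z' y) (hp0 : ∀ z, p z z = 0) (hq0 : ∀ z, q z z = 0)
    (hg : ∀ z, ∃ g, ∀ y, A.ρ g y = y + p z y • b + q z y • a) (z y : X) :
    p z y = 0 ∧ q z y = 0 := by
  obtain ⟨φa, ha, ha0⟩ := D.ex D.orb_a
  obtain ⟨φb, hb, hb0⟩ := D.ex D.orb_b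
  have hne : φa ≠ φb := by
    intro h
    apply ha0
    refine D.one_zero ha (h ▸ hb) ?_
    exact ha.centre (h ▸ hb)
  obtain ⟨e5, h51, h50⟩ := sep ha0 hne
  obtain ⟨e4, h41, h40⟩ := sep hb0 hne.symm
  have R : ∀ z v v', p z v' * φb v + p z v * φb v' + q z v' * φa v + q z v * φa v' = 0 := by
    intro z v v'
    obtain ⟨g, h⟩ := hg z
    exact D.rel' h ha hb ha0 hb0 v v'
  have sp : ∀ z y, p z y = p y z := by
    intro z y
    have h1 := hp0 (z + y)
    rw [hp, map_add, map_add, hp0, hp0] at h1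
    generalize p z y = t at h1 ⊢
    generalize p y z = t' at h1 ⊢
    revert t t'; decide
  have sq : ∀ z y, q z y = q y z := by
    intro z y
    have h1 := hq0 (z + y)
    rw [hq, map_add, map_add, hq0, hq0] at h1
    generalize q z y = t at h1 ⊢
    generalize q y z = t' at h1 ⊢
    revert t t'; decide
  -- (i), (ii)
  have e1 : ∀ z y, p z y = p z e4 * φb y + q z e4 * φa y := by
    intro z y
    have h := R z e4 y
    rw [h41, h40] at h
    generalize p z y = t1 at h ⊢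
    generalize p z e4 = t2 at h ⊢
    generalize q z y = t3 at h ⊢
    generalize q z e4 = t4 at h ⊢
    generalize φb y = t5 at h ⊢
    generalize φa y = t6 at h ⊢
    revert t1 t2 t3 t4 t5 t6; decide
  have e2 : ∀ z y, q z y = p z e5 * φb y + q z e5 * φa y := by
    intro z y
    have h := R z e5 y
    rw [h51, h50] at h
    generalize p z y = t1 at h ⊢
    generalize p z e5 = t2 at h ⊢
    generalize q z y = t3 at h ⊢
    generalize q z e5 = t4 at h ⊢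
    generalize φb y = t5 at h ⊢
    generalize φa y = t6 at h ⊢
    revert t1 t2 t3 t4 t5 t6; decide
  have e3 : ∀ z, p z e5 = q z e4 := by
    intro z
    rw [e1 z e5, h50, h51, mul_zero, zero_add, mul_one]
  have p44 : p e4 e4 = 0 := hp0 _
  have p55 : p e5 e5 = 0 := hp0 _
  have q44 : q e4 e4 = 0 := hq0 _
  have q55 : q e5 e5 = 0 := hq0 _
  have p45 : p e4 e5 = 0 := by rw [e3, q44]
  have p54 : p e5 e4 = 0 := by rw [sp, p45]
  have q54 : q e5 e4 = 0 := by rw [← e3, p55]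
  have q45 : q e4 e5 = 0 := by rw [sq, q54]
  have P4 : ∀ z, p z e4 = 0 := by
    intro z; rw [sp, e1 e4 z, p44, q44, zero_mul, zero_mul, add_zero]
  have Q4 : ∀ z, q z e4 = 0 := by
    intro z; rw [sq, e2 e4 z, p45, q45, zero_mul, zero_mul, add_zero]
  have P5 : ∀ z, p z e5 = 0 := by
    intro z; rw [sp, e1 e5 z, p54, q54, zero_mul, zero_mul, add_zero]
  have Q5 : ∀ z, q z e5 = 0 := by
    intro z; rw [sq, e2 e5 z, p55, q55, zero_mul, zero_mul, add_zero]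
  refine ⟨?_, ?_⟩
  · rw [e1, P4, Q4, zero_mul, zero_mul, add_zero]
  · rw [e2, P5, Q5, zero_mul, zero_mul, add_zero]

end Dat

end Cfsg.Agent.Omega.TTn.DiKill

end

section


/-!
# Sections 4 and 5 of #14261 (helper439), group form (helper942)

`U = U₁₂` elementary abelian, normalised by `N = C_G(n)`, `A = U₃₄`, `n = 12`, `s = s₅`, `t = s₄`,
`w = w₂₃`.  `A` acts on `U/⟨n⟩` by transvections with centre `s`, nontrivially; `[U, U^w] ≤ ⟨s, t⟩`,
`[z, z^w] = 1` for `z ∈ U`.  THEN `[U, U^w] = 1` (`Trd.main`).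

The linear algebra is `DiKill.Dat.kill`, on the `F₂`-space `X = U/⟨n⟩`.
-/

set_option autoImplicit false

namespace Cfsg.Agent.Omega.TTn.DiTrans

open Subgroup
open Cfsg.Agent.Omega.TTn.DiKill (Fn Act Dat z2 z2')

universe u

variable {G : Type u} [Group G]

/-- The hypotheses. -/
structure Trd (N U A : Subgroup G) (n s t w : G) : Prop where
  comm : ∀ u ∈ U, ∀ v ∈ U, u * v = v * u
  sq : ∀ u ∈ U, u * u = 1
  norm : ∀ g ∈ N, ∀ u ∈ U, g * u * g⁻¹ ∈ U
  cen : ∀ g ∈ N, g * n = n * g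
  nU : n ∈ U
  sU : s ∈ U
  tU : t ∈ U
  s1 : s ≠ 1
  sn : s ≠ n
  t1 : t ≠ 1
  tn : t ≠ n
  ts : t ≠ s
  tsn : t ≠ s * n
  n1 : n ≠ 1
  gen : U ≤ closure ({n} ∪ {x | ∃ g ∈ N, x = g * s * g⁻¹})
  A_le : A ≤ N
  A_val : ∀ g ∈ A, ∀ u ∈ U, g * u * g⁻¹ = u ∨ g * u * g⁻¹ = u * n ∨ g * u * g⁻¹ = u * s ∨
    g * u * g⁻¹ = u * s * n
  A_s : ∀ g ∈ A, g * s * g⁻¹ = s ∨ g * s * g⁻¹ = s * n
  A_t : ∀ g ∈ A, g * t = t * g
  A_ne : ∃ g ∈ A, ∃ u ∈ U, g * u * g⁻¹ ≠ u ∧ g * u * g⁻¹ ≠ u * n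
  stab : ∀ g ∈ N, (g * s * g⁻¹ = s ∨ g * s * g⁻¹ = s * n) → ∀ h ∈ A, g * h * g⁻¹ ∈ A
  swap₁ : ∃ g ∈ N, (g * s * g⁻¹ = t ∨ g * s * g⁻¹ = t * n) ∧ (g * t * g⁻¹ = s ∨ g * t * g⁻¹ = s * n)
  swap₂ : ∃ g ∈ N, (g * s * g⁻¹ = s * t ∨ g * s * g⁻¹ = s * t * n) ∧
    (g * t * g⁻¹ = t ∨ g * t * g⁻¹ = t * n)
  wN : ∀ z ∈ U, w * z * w⁻¹ ∈ N
  w_s : ∀ z ∈ U, (w * z * w⁻¹) * s = s * (w * z * w⁻¹)
  w_t : ∀ z ∈ U, (w * z * w⁻¹) * t = t * (w * z * w⁻¹)
  w_val : ∀ z ∈ U, ∀ y ∈ U, (w * z * w⁻¹) * y * (w * z * w⁻¹)⁻¹ = y ∨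
    (w * z * w⁻¹) * y * (w * z * w⁻¹)⁻¹ = y * s ∨ (w * z * w⁻¹) * y * (w * z * w⁻¹)⁻¹ = y * t ∨
    (w * z * w⁻¹) * y * (w * z * w⁻¹)⁻¹ = y * s * t
  w_alt : ∀ z ∈ U, (w * z * w⁻¹) * z = z * (w * z * w⁻¹)
  w_n : ∀ y ∈ U, (w * n * w⁻¹) * y = y * (w * n * w⁻¹)

/-! ### The module `U/⟨n⟩` -/

section Q

variable (U : Subgroup G) (n : G)

/-- an elementary abelian subgroup with an element -/
structure El : Prop where
  comm : ∀ u ∈ U, ∀ v ∈ U, u * v = v * u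
  sq : ∀ u ∈ U, u * u = 1
  nU : n ∈ U

/-- the subgroup `⟨n⟩` of `U` -/
def Z : Subgroup U := (zpowers n).subgroupOf U

variable {U n}

theorem El.inv (h : El U n) {u : G} (hu : u ∈ U) : u⁻¹ = u := inv_eq_of_mul_eq_one_left (h.sq u hu)

theorem El.mem_Z (h : El U n) {u : U} : u ∈ Z U n ↔ (u : G) = 1 ∨ (u : G) = n := by
  unfold Z
  rw [mem_subgroupOf, mem_zpowers_iff]
  constructor
  · rintro ⟨k, hk⟩
    rcases Int.even_or_odd' k with ⟨m, rfl | rfl⟩
    · left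
      rw [← hk, zpow_mul, zpow_ofNat, pow_two, h.sq n h.nU, one_zpow]
    · right
      rw [← hk, zpow_add, zpow_mul, zpow_ofNat, pow_two, h.sq n h.nU, one_zpow, one_mul, zpow_one]
  · rintro (h1 | h1)
    · exact ⟨0, by rw [zpow_zero, h1]⟩
    · exact ⟨1, by rw [zpow_one, h1]⟩

theorem El.normal (h : El U n) : (Z U n).Normal :=
  ⟨fun x hx g => by
    have : g * x * g⁻¹ = x := by
      apply Subtype.ext
      change (g : G) * x * (g : G)⁻¹ = x
      rw [h.comm g g.2 x x.2, mul_assoc, mul_inv_cancel, mul_one]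
    rwa [this]⟩

/-- the module `U/⟨n⟩` -/
def X (_ : El U n) : Type u := Additive (U ⧸ Z U n)

namespace El

/-- the group structure of the quotient -/
@[reducible] def gp (h : El U n) : Group (U ⧸ Z U n) :=
  @QuotientGroup.Quotient.group U _ (Z U n) h.normal

variable (h : El U n)

instance addCommGroup : AddCommGroup (X h) :=
  letI := h.gp
  @Additive.addCommGroup _
    { h.gp with
      mul_comm := by
        rintro ⟨a⟩ ⟨b⟩
        exact congrArg (QuotientGroup.mk) (Subtype.ext (h.comm a a.2 b b.2)) }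

/-- the class of an element -/
def cl (u : U) : X h := Additive.ofMul (QuotientGroup.mk u : U ⧸ Z U n)

theorem cl_mul (u v : U) : h.cl (u * v) = h.cl u + h.cl v := rfl

theorem cl_one : h.cl 1 = 0 := rfl

theorem cl_surj (x : X h) : ∃ u, h.cl u = x := by
  obtain ⟨u, hu⟩ := QuotientGroup.mk_surjective (s := Z U n) (Additive.toMul x)
  exact ⟨u, hu⟩

theorem cl_eq {u v : U} : h.cl u = h.cl v ↔ (v : G) = u ∨ (v : G) = u * n := by
  have h1 : h.cl u = h.cl v ↔ u⁻¹ * v ∈ Z U n := QuotientGroup.eq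
  rw [h1, h.mem_Z]
  change (u : G)⁻¹ * v = 1 ∨ (u : G)⁻¹ * v = n ↔ _
  rw [inv_mul_eq_iff_eq_mul, inv_mul_eq_iff_eq_mul, mul_one]

theorem cl_zero {u : U} : h.cl u = 0 ↔ (u : G) = 1 ∨ (u : G) = n := by
  rw [← h.cl_one, eq_comm, h.cl_eq]
  simp

instance module : Module (ZMod 2) (X h) :=
  AddCommGroup.zmodModule (n := 2) fun x => by
    obtain ⟨u, rfl⟩ := h.cl_surj x
    rw [two_nsmul, ← h.cl_mul, h.cl_zero]
    left
    exact h.sq u u.2

instance [Finite G] : Finite (X h) := by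
  have : Finite (U ⧸ Z U n) := Quotient.finite _
  exact this

/-- conjugation -/
def cjH {g : G} (hg : ∀ u ∈ U, g * u * g⁻¹ ∈ U) : U →* U where
  toFun u := ⟨g * u * g⁻¹, hg u u.2⟩
  map_one' := Subtype.ext (by simp)
  map_mul' a b := Subtype.ext (by simp [mul_assoc])

/-- the action on the quotient -/
def act {g : G} (hg : ∀ u ∈ U, g * u * g⁻¹ ∈ U) (hn : g * n = n * g) : X h →+ X h :=
  letI := h.gp
  haveI := h.normal
  MonoidHom.toAdditive (QuotientGroup.map (Z U n) (Z U n) (cjH hg) (by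
    intro u hu
    rw [mem_comap]
    rw [h.mem_Z] at hu ⊢
    change g * (u : G) * g⁻¹ = 1 ∨ g * (u : G) * g⁻¹ = n
    rcases hu with hu | hu
    · left; rw [hu]; group
    · right; rw [hu, hn]; group))

theorem act_cl {g : G} (hg : ∀ u ∈ U, g * u * g⁻¹ ∈ U) (hn : g * n = n * g) (u : U) :
    h.act hg hn (h.cl u) = h.cl ⟨g * u * g⁻¹, hg u u.2⟩ := rfl

end El

end Q

/-! ### Functionals -/

section lin

variable {V : Type*} [AddCommGroup V] [Module (ZMod 2) V]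

/-- two independent vectors have dual functionals: `α a = 1`, `α b = 0` -/
theorem exists_dual {a b : V} (ha : a ≠ 0) (hab : a ≠ b) : ∃ α : Fn V, α a = 1 ∧ α b = 0 := by
  have h1 : a ∉ Submodule.span (ZMod 2) {b} := by
    rw [Submodule.mem_span_singleton]
    rintro ⟨c, hc⟩
    rcases z2 c with rfl | rfl
    · rw [zero_smul] at hc; exact ha hc.symm
    · rw [one_smul] at hc; exact hab hc.symm
  obtain ⟨f, hf, hle⟩ := Submodule.exists_le_ker_of_notMem h1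
  exact ⟨f, z2' hf, LinearMap.mem_ker.1 (hle (Submodule.mem_span_singleton_self b))⟩

/-- an additive map moving every vector by a multiple of `a` -/
theorem exists_fn {a : V} (ha : a ≠ 0) (f : V →ₗ[ZMod 2] V) (h : ∀ y, f y = y ∨ f y = y + a) :
    ∃ τ : Fn V, ∀ y, f y = y + τ y • a := by
  obtain ⟨α, h1, -⟩ := exists_dual (b := 0) ha ha
  refine ⟨α ∘ₗ (f - LinearMap.id), fun y => ?_⟩
  have e : (α ∘ₗ (f - LinearMap.id)) y = α (f y - y) := rfl
  rw [e]
  rcases h y with hy | hy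
  · rw [hy, sub_self, map_zero, zero_smul, add_zero]
  · rw [hy, add_sub_cancel_left, h1, one_smul]

end lin

namespace Trd

variable {N U A : Subgroup G} {n s t w : G} (T : Trd N U A n s t w)

include T

theorem el : El U n := ⟨T.comm, T.sq, T.nU⟩

/-- `U/⟨n⟩` -/
abbrev XX : Type u := X T.el

/-- the action of `N` -/
def ac : Act N (X T.el) where
  ρ g := (T.el.act (fun u hu => T.norm g g.2 u hu) (T.cen g g.2)).toZModLinearMap 2
  one x := by
    obtain ⟨u, rfl⟩ := T.el.cl_surj x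
    refine (congrArg T.el.cl (Subtype.ext ?_) : T.el.cl ⟨(1 : N) * u * ((1 : N) : G)⁻¹, _⟩ = _)
    simp
  mul g h x := by
    obtain ⟨u, rfl⟩ := T.el.cl_surj x
    refine (congrArg T.el.cl (Subtype.ext ?_) :
      T.el.cl ⟨(g * h : N) * u * ((g * h : N) : G)⁻¹, _⟩ = T.el.cl ⟨g * (h * u * (h : G)⁻¹) * (g : G)⁻¹, _⟩)
    simp [mul_assoc]

theorem ρ_cl (g : N) (u : U) :
    T.ac.ρ g (T.el.cl u) = T.el.cl ⟨g * u * (g : G)⁻¹, T.norm g g.2 u u.2⟩ := rfl

/-- the vector `a` -/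
def a : X T.el := T.el.cl ⟨s, T.sU⟩

/-- the vector `b` -/
def b : X T.el := T.el.cl ⟨t, T.tU⟩

theorem a_ne : T.a ≠ 0 := by
  unfold a
  rw [Ne, T.el.cl_zero]
  rintro (h | h)
  · exact T.s1 h
  · exact T.sn h

theorem b_ne : T.b ≠ 0 := by
  unfold b
  rw [Ne, T.el.cl_zero]
  rintro (h | h)
  · exact T.t1 h
  · exact T.tn h

theorem ab_ne : T.a ≠ T.b := by
  unfold a b
  rw [Ne, T.el.cl_eq]
  rintro (h | h)
  · exact T.ts h
  · exact T.tsn h

theorem ρ_eq {g : N} {u v : U} :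
    T.ac.ρ g (T.el.cl u) = T.el.cl v ↔
      ((g : G) * (u : G) * (g : G)⁻¹ = v ∨ (g : G) * (u : G) * (g : G)⁻¹ = v * n) := by
  rw [T.ρ_cl, eq_comm, T.el.cl_eq]

/-- the functionals of `A` -/
def Lam (τ : Fn (X T.el)) : Prop := ∃ g : N, (g : G) ∈ A ∧ ∀ y, T.ac.ρ g y = y + τ y • T.a

theorem A_ρ {g : N} (hg : (g : G) ∈ A) (y : X T.el) : T.ac.ρ g y = y ∨ T.ac.ρ g y = y + T.a := by
  obtain ⟨u, rfl⟩ := T.el.cl_surj y
  unfold a
  rw [← T.el.cl_mul, T.ρ_eq, T.ρ_eq]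
  rcases T.A_val g hg u u.2 with h | h | h | h
  · exact Or.inl (Or.inl h)
  · exact Or.inl (Or.inr h)
  · exact Or.inr (Or.inl h)
  · exact Or.inr (Or.inr h)

theorem ρ_a_of {g : N} (h : (g : G) * s * (g : G)⁻¹ = s ∨ (g : G) * s * (g : G)⁻¹ = s * n) :
    T.ac.ρ g T.a = T.a := T.ρ_eq.2 h

theorem ρ_a_of_comm {g : N} (h : (g : G) * s = s * g) : T.ac.ρ g T.a = T.a := by
  unfold a
  rw [T.ρ_eq]
  left
  change (g : G) * s * (g : G)⁻¹ = s
  rw [h]; group

theorem ρ_b_of_comm {g : N} (h : (g : G) * t = t * g) : T.ac.ρ g T.b = T.b := by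
  unfold b
  rw [T.ρ_eq]
  left
  change (g : G) * t * (g : G)⁻¹ = t
  rw [h]; group

omit T in
theorem smul_zero_of {V : Type*} [AddCommGroup V] [Module (ZMod 2) V] {c : ZMod 2} {a : V}
    (ha : a ≠ 0) (h : c • a = 0) : c = 0 := by
  rcases z2 c with h1 | h1
  · exact h1
  · rw [h1, one_smul] at h; exact absurd h ha

theorem dat [Finite G] : Dat T.ac T.a T.b T.Lam where
  span f hf := by
    -- the preimage of the kernel
    let F : U →* Multiplicative (ZMod 2) :=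
      { toFun := fun u => Multiplicative.ofAdd (f (T.el.cl u))
        map_one' := by rw [T.el.cl_one, map_zero]; rfl
        map_mul' := fun u v => by rw [T.el.cl_mul, map_add]; rfl }
    have hF : ∀ u : U, u ∈ F.ker ↔ f (T.el.cl u) = 0 := fun u => Iff.rfl
    have h1 : closure ({n} ∪ {x | ∃ g ∈ N, x = g * s * g⁻¹}) ≤ F.ker.map U.subtype := by
      rw [closure_le]
      rintro x (hx | ⟨g, hg, rfl⟩)
      · rw [Set.mem_singleton_iff] at hx
        subst hx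
        refine ⟨⟨x, T.nU⟩, ?_, rfl⟩
        rw [SetLike.mem_coe, hF]
        have : T.el.cl ⟨x, T.nU⟩ = 0 := by rw [T.el.cl_zero]; exact Or.inr rfl
        rw [this, map_zero]
      · refine ⟨⟨g * s * g⁻¹, T.norm g hg s T.sU⟩, ?_, rfl⟩
        rw [SetLike.mem_coe, hF]
        exact hf _ ⟨⟨g, hg⟩, rfl⟩
    ext x
    obtain ⟨u, rfl⟩ := T.el.cl_surj x
    obtain ⟨v, hv, hvu⟩ := h1 (T.gen u.2)
    have : v = u := Subtype.ext hvu
    rw [this] at hv
    exact hv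
  swap₁ := by
    obtain ⟨g, hg, h1, h2⟩ := T.swap₁
    exact ⟨⟨g, hg⟩, T.ρ_eq.2 h1, T.ρ_eq.2 h2⟩
  swap₂ := by
    obtain ⟨g, hg, h1, h2⟩ := T.swap₂
    refine ⟨⟨g, hg⟩, ?_, T.ρ_eq.2 h2⟩
    unfold a b
    rw [← T.el.cl_mul]
    exact T.ρ_eq.2 h1
  in_ τ hτ := by
    obtain ⟨g, hg, h⟩ := hτ
    refine ⟨?_, g, h⟩
    have h1 := h T.a
    rw [T.ρ_a_of (T.A_s g hg)] at h1
    exact smul_zero_of T.a_ne (left_eq_add.1 h1)
  kb τ hτ := by
    obtain ⟨g, hg, h⟩ := hτ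
    have h1 := h T.b
    rw [T.ρ_b_of_comm (T.A_t g hg)] at h1
    exact smul_zero_of T.a_ne (left_eq_add.1 h1)
  ne := by
    obtain ⟨g, hg, u, hu, h1, h2⟩ := T.A_ne
    obtain ⟨τ, hτ⟩ := exists_fn T.a_ne (T.ac.ρ ⟨g, T.A_le hg⟩) (T.A_ρ hg)
    refine ⟨τ, ⟨⟨g, T.A_le hg⟩, hg, hτ⟩, ?_⟩
    rintro rfl
    have h3 := hτ (T.el.cl ⟨u, hu⟩)
    rw [LinearMap.zero_apply, zero_smul, add_zero, T.ρ_eq] at h3
    rcases h3 with h3 | h3
    · exact h1 h3
    · exact h2 h3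
  stab τ hτ g hga := by
    obtain ⟨k, hk, h⟩ := hτ
    have h1 : T.ac.ρ g⁻¹ T.a = T.a := by
      conv_lhs => rw [← hga]
      rw [T.ac.inv_l]
    have h2 : (g⁻¹ * k * g⁻¹⁻¹ : G) ∈ A := by
      refine T.stab _ (inv_mem g.2) ?_ k hk
      exact T.ρ_eq.1 h1
    refine ⟨g⁻¹ * k * g, ?_, fun y => ?_⟩
    · rw [inv_inv] at h2
      exact h2
    · rw [T.ac.mul, T.ac.mul, h, map_add, map_smul, T.ac.inv_l, h1]
      rfl
  add τ τ' hτ hτ' := by
    obtain ⟨g, hg, h⟩ := hτ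
    obtain ⟨g', hg', h'⟩ := hτ'
    refine ⟨g * g', mul_mem hg hg', fun y => ?_⟩
    rw [T.ac.mul, h', map_add, map_smul, T.ρ_a_of (T.A_s g hg), h, LinearMap.add_apply,
      add_smul]
    abel

/-! ### The maps `z^w` -/

/-- `z^w` as an element of `N` -/
def gz (z : U) : N := ⟨w * z * w⁻¹, T.wN z z.2⟩

theorem gz_mul (z z' : U) : T.gz (z * z') = T.gz z * T.gz z' :=
  Subtype.ext (by simp [gz, mul_assoc])

theorem gz_a (z : U) : T.ac.ρ (T.gz z) T.a = T.a := T.ρ_a_of_comm (T.w_s z z.2)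

theorem gz_b (z : U) : T.ac.ρ (T.gz z) T.b = T.b := T.ρ_b_of_comm (T.w_t z z.2)

theorem gz_val (z : U) (y : X T.el) : T.ac.ρ (T.gz z) y = y ∨ T.ac.ρ (T.gz z) y = y + T.a ∨
    T.ac.ρ (T.gz z) y = y + T.b ∨ T.ac.ρ (T.gz z) y = y + T.a + T.b := by
  obtain ⟨u, rfl⟩ := T.el.cl_surj y
  unfold a b
  rw [← T.el.cl_mul, ← T.el.cl_mul, ← T.el.cl_mul, T.ρ_eq, T.ρ_eq, T.ρ_eq, T.ρ_eq]
  rcases T.w_val z z.2 u u.2 with h | h | h | h
  · exact Or.inl (Or.inl h)
  · exact Or.inr (Or.inl (Or.inl h))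
  · exact Or.inr (Or.inr (Or.inl (Or.inl h)))
  · exact Or.inr (Or.inr (Or.inr (Or.inl h)))

theorem gz_congr {z z' : U} (h : T.el.cl z = T.el.cl z') (y : X T.el) :
    T.ac.ρ (T.gz z) y = T.ac.ρ (T.gz z') y := by
  rw [T.el.cl_eq] at h
  rcases h with h | h
  · rw [Subtype.ext h]
  · obtain ⟨u, rfl⟩ := T.el.cl_surj y
    have h1 : z' = z * ⟨n, T.nU⟩ := Subtype.ext h
    rw [h1, T.gz_mul, T.ac.mul]
    have h2 : T.ac.ρ (T.gz ⟨n, T.nU⟩) (T.el.cl u) = T.el.cl u := by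
      rw [T.ρ_eq]
      left
      change w * n * w⁻¹ * u * (w * n * w⁻¹)⁻¹ = u
      rw [T.w_n u u.2, mul_inv_cancel_right]
    rw [h2]

theorem gz_alt (z : U) : T.ac.ρ (T.gz z) (T.el.cl z) = T.el.cl z := by
  rw [T.ρ_eq]
  left
  change w * z * w⁻¹ * z * (w * z * w⁻¹)⁻¹ = z
  rw [T.w_alt z z.2, mul_inv_cancel_right]

/-- **`[U, U^w] = 1`** -/
theorem main [Finite G] {y z : G} (hy : y ∈ U) (hz : z ∈ U) :
    (w * z * w⁻¹) * y = y * (w * z * w⁻¹) := by
  obtain ⟨α, hαa, hαb⟩ := exists_dual T.a_ne T.ab_ne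
  obtain ⟨β, hβb, hβa⟩ := exists_dual T.b_ne T.ab_ne.symm
  let D : U → X T.el →ₗ[ZMod 2] X T.el := fun z => T.ac.ρ (T.gz z) - LinearMap.id
  have hD : ∀ z y, D z y = T.ac.ρ (T.gz z) y - y := fun _ _ => rfl
  let P : U → Fn (X T.el) := fun z => β ∘ₗ D z
  let Q : U → Fn (X T.el) := fun z => α ∘ₗ D z
  have hP : ∀ z y, P z y = β (D z y) := fun _ _ => rfl
  have hQ : ∀ z y, Q z y = α (D z y) := fun _ _ => rfl
  have hval : ∀ z y, D z y = P z y • T.b + Q z y • T.a := by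
    intro z y
    rw [hP, hQ, hD]
    rcases T.gz_val z y with h | h | h | h
    · rw [h, sub_self, map_zero, map_zero, zero_smul, zero_smul, add_zero]
    · rw [h, add_sub_cancel_left, hαa, hβa, zero_smul, one_smul, zero_add]
    · rw [h, add_sub_cancel_left, hαb, hβb, zero_smul, one_smul, add_zero]
    · rw [h, add_assoc, add_sub_cancel_left, map_add, map_add, hαa, hβa, hαb, hβb, zero_add,
        add_zero, one_smul, one_smul, add_comm]
  have hρ : ∀ z y, T.ac.ρ (T.gz z) y = y + P z y • T.b + Q z y • T.a := by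
    intro z y
    rw [add_assoc, ← hval, hD, add_sub_cancel]
  have hDadd : ∀ z z' y, D (z * z') y = D z y + D z' y := by
    intro z z' y
    rw [hD, T.gz_mul, T.ac.mul, hρ z' y, map_add, map_add, map_smul, map_smul, T.gz_a, T.gz_b,
      hval z' y, hD]
    abel
  have hDc : ∀ {z z' : U}, T.el.cl z = T.el.cl z' → ∀ y, D z y = D z' y := by
    intro z z' h y
    rw [hD, hD, T.gz_congr h]
  choose rep hrep using T.el.cl_surj
  have hDrep : ∀ z z' y, D (rep (z + z')) y = D (rep z) y + D (rep z') y := by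
    intro z z' y
    rw [← hDadd]
    refine hDc ?_ y
    rw [T.el.cl_mul, hrep, hrep, hrep]
  have halt : ∀ z, D (rep z) z = 0 := by
    intro z
    have h1 := T.gz_alt (rep z)
    rw [hrep] at h1
    rw [hD, h1, sub_self]
  have hk := T.dat.kill (p := fun z => P (rep z)) (q := fun z => Q (rep z))
    (fun z z' y => by rw [hP, hP, hP, hDrep, map_add])
    (fun z z' y => by rw [hQ, hQ, hQ, hDrep, map_add])
    (fun z => by rw [hP, halt, map_zero]) (fun z => by rw [hQ, halt, map_zero])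
    (fun z => ⟨T.gz (rep z), fun y => hρ (rep z) y⟩)
  have h1 : T.ac.ρ (T.gz ⟨z, hz⟩) (T.el.cl ⟨y, hy⟩) = T.el.cl ⟨y, hy⟩ := by
    rw [T.gz_congr (z' := rep (T.el.cl ⟨z, hz⟩)) (hrep _).symm, hρ]
    obtain ⟨h2, h3⟩ := hk (T.el.cl ⟨z, hz⟩) (T.el.cl ⟨y, hy⟩)
    rw [h2, h3, zero_smul, zero_smul, add_zero, add_zero]
  rw [T.ρ_eq] at h1
  change w * z * w⁻¹ * y * (w * z * w⁻¹)⁻¹ = y ∨ w * z * w⁻¹ * y * (w * z * w⁻¹)⁻¹ = y * n at h1
  have h4 := T.w_val z hz y hy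
  have hss := T.sq s T.sU
  rcases h4 with h4 | h4 | h4 | h4
  · exact mul_inv_eq_iff_eq_mul.1 h4
  · exfalso
    rw [h4] at h1
    rcases h1 with h1 | h1
    · exact T.s1 (mul_eq_left.1 h1)
    · exact T.sn (mul_left_cancel h1)
  · exfalso
    rw [h4] at h1
    rcases h1 with h1 | h1
    · exact T.t1 (mul_eq_left.1 h1)
    · exact T.tn (mul_left_cancel h1)
  · exfalso
    rw [h4, mul_assoc] at h1
    rcases h1 with h1 | h1
    · have h5 := mul_eq_left.1 h1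
      apply T.ts
      calc t = s * (s * t) := by rw [← mul_assoc, hss, one_mul]
        _ = s := by rw [h5, mul_one]
    · have h5 := mul_left_cancel h1
      apply T.tsn
      calc t = s * (s * t) := by rw [← mul_assoc, hss, one_mul]
        _ = s * n := by rw [h5]

end Trd

/-! ### The form with `Di.TH` -/

open Cfsg.Agent.Omega.TTn.Di (TH cj cm cj_eq_cm)

theorem trd_of {U A : Subgroup G} {n a b w : G} (H : TH U A n a b w) :
    Trd (centralizer {n}) U A n a b w := by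
  have hcen : ∀ g : G, g ∈ centralizer ({n} : Set G) ↔ g * n = n * g := by
    intro g
    rw [mem_centralizer_singleton_iff]
  have hcj : ∀ g x : G, g * x * g⁻¹ = cj g x := fun _ _ => rfl
  have hval : ∀ g x : G, g * x * g⁻¹ = cm g x * x := fun g x => by rw [hcj, cj_eq_cm]
  have haa := H.sq a H.a_mem
  have hbb := H.sq b H.b_mem
  have hnn := H.sq n H.n_mem
  have hna := H.comm n H.n_mem a H.a_mem
  have hab := H.comm a H.a_mem b H.b_mem
  have hnb := H.comm n H.n_mem b H.b_mem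
  refine
    { comm := H.comm
      sq := H.sq
      norm := fun g hg u hu => H.norm g ((hcen g).1 hg) u hu
      cen := fun g hg => (hcen g).1 hg
      nU := H.n_mem
      sU := H.a_mem
      tU := H.b_mem
      s1 := H.a1
      sn := H.an
      t1 := H.b1
      tn := H.bn
      ts := H.ab.symm
      tsn := ?_
      n1 := H.n1
      gen := ?_
      A_le := fun x hx => (hcen x).2 (H.An x hx)
      A_val := ?_
      A_s := ?_
      A_t := H.Ab
      A_ne := ?_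
      stab := ?_
      swap₁ := ?_
      swap₂ := ?_
      wN := fun z hz => (hcen _).2 (H.wn z hz)
      w_s := H.wa
      w_t := H.wb
      w_val := ?_
      w_alt := fun z hz => (H.ww z hz).symm
      w_n := fun y hy => (H.w0 y hy).symm }
  · intro h
    apply H.nab
    rw [h, ← mul_assoc, haa, one_mul]
  · refine H.gen.trans ((closure_le _).2 ?_)
    rintro x (rfl | ⟨g, hg, rfl⟩)
    · exact subset_closure (Or.inl rfl)
    · exact subset_closure (Or.inr ⟨g, (hcen g).2 hg, rfl⟩)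
  · intro g hg u hu
    rw [hval]
    rcases H.AU g hg u hu with h | h | h | h <;> rw [h]
    · left; rw [one_mul]
    · right; left; exact H.comm n H.n_mem u hu
    · right; right; left; exact H.comm a H.a_mem u hu
    · right; right; right
      rw [mul_assoc, H.comm a H.a_mem u hu]
      exact H.comm n H.n_mem _ (mul_mem hu H.a_mem)
  · intro g hg
    rw [hval]
    rcases H.AU g hg a H.a_mem with h | h | h | h
    · rw [h]; left; rw [one_mul]
    · rw [h]; right; exact hna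
    · exfalso
      have h1 : cj g a = 1 := by rw [cj_eq_cm, h, haa]
      unfold cj at h1
      rw [mul_inv_eq_one] at h1
      exact H.a1 (mul_eq_left.1 h1)
    · exfalso
      have h1 : cj g a = n := by rw [cj_eq_cm, h, mul_assoc, haa, mul_one]
      unfold cj at h1
      rw [mul_inv_eq_iff_eq_mul, ← H.An g hg] at h1
      exact H.an (mul_left_cancel h1)
  · obtain ⟨x, hx, u, hu, h1, h2⟩ := H.ne
    refine ⟨x, hx, u, hu, ?_, ?_⟩
    · rw [hval]
      intro h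
      exact h1 (mul_eq_right.1 h)
    · rw [hval, ← H.comm n H.n_mem u hu]
      intro h
      exact h2 (mul_right_cancel h)
  · intro g hg h x hx
    refine H.Aa g ((hcen g).1 hg) ?_ x hx
    rcases h with h | h
    · exact Or.inl h
    · right; rw [hna]; exact h
  · obtain ⟨g, hg, h1, h2⟩ := H.sw1
    exact ⟨g, (hcen g).2 hg, Or.inl h1, Or.inl h2⟩
  · obtain ⟨g, hg, h1, h2⟩ := H.sw2
    refine ⟨g, (hcen g).2 hg, Or.inr ?_, Or.inl h2⟩
    rw [hcj, h1]
    exact H.comm n H.n_mem _ (mul_mem H.a_mem H.b_mem)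
  · intro z hz y hy
    have h := H.wU z hz y hy
    change cj (cj w z) y = y ∨ cj (cj w z) y = y * a ∨ cj (cj w z) y = y * b ∨
      cj (cj w z) y = y * a * b
    rw [cj_eq_cm]
    rcases h with h | h | h | h <;> rw [h]
    · left; rw [one_mul]
    · right; left; exact H.comm a H.a_mem y hy
    · right; right; left; exact H.comm b H.b_mem y hy
    · right; right; right
      rw [mul_assoc y]
      exact H.comm _ (mul_mem H.a_mem H.b_mem) y hy

end Cfsg.Agent.Omega.TTn.DiTrans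

namespace Cfsg.Agent.Omega.TTn.Di

universe u

/-- **§§4, 5**: `[U, U^w] = 1`. -/
theorem TH.kill {G : Type u} [Group G] [Finite G] {U A : Subgroup G} {n a b w : G}
    (H : TH U A n a b w) : ∀ z ∈ U, ∀ u ∈ U, cj w z * u = u * cj w z :=
  fun _ hz _ hu => (DiTrans.trd_of H).main hu hz

end Cfsg.Agent.Omega.TTn.Di

end

section


/-!
# The frame of #15755 (helper480; #14261 of helper439 for every degree): labels in `Fin n`

`Fr ε U W Q w`: `ε` labels `V` (`ε x` for `x : Fin n → ZMod 2`, modulo constants), `KK ε = C_G(V)`,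
`U i j = U_{ij}`, `W i j`, `Q i j = O₂(C_G(r_ij))`, `w i j ∈ W i j` induces the transposition.
`Lab U x i j`: `i = j` or `x ∈ U i j`; for `x ∈ C_G(V)` this is an equivalence relation (`Fr.lab_trans`): `x ∈ Σ_PP` iff
`PP` is finer than `Lab U x` (sigma calculus: `lab_cm_left`, `lab_cm_right`, `star`).
-/

set_option autoImplicit false
set_option linter.unusedSectionVars false

namespace Cfsg.Agent.Omega.NSix.Engine

open Subgroup Cfsg.Agent.Omega.S5.Def Cfsg.Agent.Omega.NSix.Base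
open Cfsg.Agent.Omega.TTn.Di (cm cj cj_mul cj_inv cj_cj cj_one cj_eq_of_comm comm_of_cj cj_eq_cm cm_eq
  cm_one_iff cm_eq')

universe u

variable {G : Type u} [Group G] {n : ℕ}

/-- four different labels -/
structure D4 (i j k l : Fin n) : Prop where
  ij : i ≠ j
  ik : i ≠ k
  il : i ≠ l
  jk : j ≠ k
  jl : j ≠ l
  kl : k ≠ l

namespace D4

variable {i j k l : Fin n}

theorem a (h : D4 i j k l) : D4 j i k l := ⟨h.ij.symm, h.jk, h.jl, h.ik, h.il, h.kl⟩

theorem b (h : D4 i j k l) : D4 i k j l := ⟨h.ik, h.ij, h.il, h.jk.symm, h.kl, h.jl⟩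

theorem c (h : D4 i j k l) : D4 i j l k := ⟨h.ij, h.il, h.ik, h.jl, h.jk, h.kl.symm⟩

end D4

/-- five different labels -/
structure D5 (i j k l m : Fin n) : Prop extends D4 i j k l where
  im : i ≠ m
  jm : j ≠ m
  km : k ≠ m
  lm : l ≠ m

namespace D5

variable {i j k l m : Fin n}

theorem a (h : D5 i j k l m) : D5 j i k l m := ⟨h.toD4.a, h.jm, h.im, h.km, h.lm⟩

theorem b (h : D5 i j k l m) : D5 i k j l m := ⟨h.toD4.b, h.im, h.km, h.jm, h.lm⟩

theorem c (h : D5 i j k l m) : D5 i j l k m := ⟨h.toD4.c, h.im, h.jm, h.lm, h.km⟩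

theorem d (h : D5 i j k l m) : D5 i j k m l :=
  ⟨⟨h.ij, h.ik, h.im, h.jk, h.jm, h.km⟩, h.il, h.jl, h.kl, h.lm.symm⟩

end D5

/-- `C_G(V)` -/
def KK (ε : (Fin n → ZMod 2) → G) : Subgroup G where
  carrier := {g | Acts ε g 1}
  one_mem' := Acts.one
  mul_mem' := fun ha hb => by
    have h := Acts.mul ha hb
    rwa [mul_one] at h
  inv_mem' := fun ha => by
    have h := Acts.inv ha
    rwa [inv_one] at h

theorem mem_KK {ε : (Fin n → ZMod 2) → G} {g : G} : g ∈ KK ε ↔ Acts ε g 1 := Iff.rfl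

theorem mem_KK' {ε : (Fin n → ZMod 2) → G} {g : G} : g ∈ KK ε ↔ ∀ x, g * ε x = ε x * g := by
  rw [mem_KK]
  refine forall_congr' fun x => ?_
  have h1 : x ∘ (1 : Equiv.Perm (Fin n)).symm = x := rfl
  rw [h1, mul_inv_eq_iff_eq_mul]

/-- `x` is in the intersection of the `U a b` over the block of `i`, `j` -/
def Lab (U : Fin n → Fin n → Subgroup G) (x : G) (i j : Fin n) : Prop := i = j ∨ x ∈ U i j

/-- The frame. -/
structure Fr (ε : (Fin n → ZMod 2) → G) (U W Q : Fin n → Fin n → Subgroup G) (w : Fin n → Fin n → G) : Prop where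
  add : ∀ x y, ε (x + y) = ε x * ε y
  eU : ∀ {i j}, i ≠ j → ∀ x, (ε x ∈ U i j ↔ x i = x j)
  cU : ∀ {g : G} {σ : Equiv.Perm (Fin n)}, Acts ε g σ → ∀ {i j}, i ≠ j → ∀ x ∈ U i j, cj g x ∈ U (σ i) (σ j)
  cW : ∀ {g : G} {σ : Equiv.Perm (Fin n)}, Acts ε g σ → ∀ {i j}, i ≠ j → ∀ x ∈ W i j, cj g x ∈ W (σ i) (σ j)
  cQ : ∀ {g : G} {σ : Equiv.Perm (Fin n)}, Acts ε g σ → ∀ {i j}, i ≠ j → ∀ x ∈ Q i j, cj g x ∈ Q (σ i) (σ j)
  Usym : ∀ i j, U i j = U j i
  Wsym : ∀ i j, W i j = W j i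
  Qsym : ∀ i j, Q i j = Q j i
  UK : ∀ {i j}, i ≠ j → U i j ≤ KK ε
  QA : ∀ {i j}, i ≠ j → ∀ q ∈ Q i j, Acts ε q 1 ∨ Acts ε q (Equiv.swap i j)
  Uab : ∀ {i j}, i ≠ j → ∀ u ∈ U i j, ∀ v ∈ U i j, u * v = v * u
  Usq : ∀ {i j}, i ≠ j → ∀ u ∈ U i j, u * u = 1
  UQ : ∀ {i j}, i ≠ j → U i j ≤ Q i j
  UQc : ∀ {i j}, i ≠ j → ∀ q ∈ Q i j, ∀ u ∈ U i j, q * u = u * q
  WQ : ∀ {i j}, i ≠ j → W i j ≤ Q i j
  QW : ∀ {i j}, i ≠ j → ∀ q ∈ Q i j, ∀ x ∈ W i j, cm q x = 1 ∨ cm q x = rr ε i j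
  Wsq : ∀ {i j}, i ≠ j → ∀ x ∈ W i j, x * x = 1 ∨ x * x = rr ε i j
  wW : ∀ {i j}, i ≠ j → w i j ∈ W i j
  wA : ∀ {i j}, i ≠ j → Acts ε (w i j) (Equiv.swap i j)
  cw : ∀ {i j k l}, D4 i j k l → ∀ c, (∀ y ∈ U i j, c * y = y * c) → ∀ x ∈ W k l, cm c x ∈ Q i j
  core : ∀ {i j k l}, D4 i j k l → ∀ c ∈ W j k, (∀ y ∈ U i j, c * y = y * c) →
    (∀ y ∈ U k l, c * y = y * c) → c ∈ Q i j
  inter : ∀ x, (∀ i j, i ≠ j → x ∈ U i j) → x = 1

namespace Fr

variable {ε : (Fin n → ZMod 2) → G} {U W Q : Fin n → Fin n → Subgroup G} {w : Fin n → Fin n → G}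
  (F : Fr ε U W Q w) {i j k l m : Fin n}

include F

/-! ### Labels -/

theorem ecomm (x y : Fin n → ZMod 2) : ε x * ε y = ε y * ε x := by rw [← F.add, ← F.add, add_comm]

theorem eK (x : Fin n → ZMod 2) : ε x ∈ KK ε := mem_KK'.2 fun y => F.ecomm x y

theorem zero : ε 0 = 1 := by
  have h := F.add 0 0
  rw [add_zero] at h
  exact left_eq_mul.1 h

theorem esq (x : Fin n → ZMod 2) : ε x * ε x = 1 := by rw [← F.add, add_self, F.zero]

theorem einv (x : Fin n → ZMod 2) : (ε x)⁻¹ = ε x := inv_eq_of_mul_eq_one_left (F.esq x)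

theorem eone : ε 1 = 1 := F.inter _ fun _ _ hij => (F.eU hij _).2 rfl

omit F in
theorem Ke {g : G} (hg : g ∈ KK ε) (x : Fin n → ZMod 2) : g * ε x = ε x * g := mem_KK'.1 hg x

theorem zK (i : Fin n) : zz ε i ∈ KK ε := F.eK _

theorem z_sq (i : Fin n) : zz ε i * zz ε i = 1 := F.esq _

theorem z_comm (i j : Fin n) : zz ε i * zz ε j = zz ε j * zz ε i := F.ecomm _ _

theorem z_inv (i : Fin n) : (zz ε i)⁻¹ = zz ε i := F.einv _

omit F in
theorem Kz {g : G} (hg : g ∈ KK ε) (i : Fin n) : g * zz ε i = zz ε i * g := Ke hg _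

theorem rr_eq (i j : Fin n) : rr ε i j = ε (Pi.single i 1 + Pi.single j 1) := (F.add _ _).symm

theorem rrK (i j : Fin n) : rr ε i j ∈ KK ε := by rw [F.rr_eq]; exact F.eK _

omit F in
theorem Kr {g : G} (hg : g ∈ KK ε) (i j : Fin n) : g * rr ε i j = rr ε i j * g := by
  unfold rr
  rw [← mul_assoc, Kz hg, mul_assoc, Kz hg, ← mul_assoc]

theorem r_sq (i j : Fin n) : rr ε i j * rr ε i j = 1 := by rw [F.rr_eq]; exact F.esq _

theorem r_inv (i j : Fin n) : (rr ε i j)⁻¹ = rr ε i j := by rw [F.rr_eq]; exact F.einv _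

theorem r_symm (i j : Fin n) : rr ε i j = rr ε j i := F.z_comm i j

theorem zU (hij : i ≠ j) (hki : k ≠ i) (hkj : k ≠ j) : zz ε k ∈ U i j := by
  refine (F.eU hij _).2 ?_
  rw [Pi.single_eq_of_ne hki.symm, Pi.single_eq_of_ne hkj.symm]

theorem zU' (hij : i ≠ j) : zz ε i ∉ U i j := by
  intro h
  have h1 := (F.eU hij _).1 h
  rw [Pi.single_eq_same, Pi.single_eq_of_ne hij.symm] at h1
  exact one_ne_zero h1

theorem zU'' (hij : i ≠ j) : zz ε j ∉ U i j := by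
  rw [F.Usym]
  exact F.zU' hij.symm

theorem rU (hij : i ≠ j) : rr ε i j ∈ U i j := by
  rw [F.rr_eq, F.eU hij, Pi.add_apply, Pi.add_apply, Pi.single_eq_same, Pi.single_eq_same,
    Pi.single_eq_of_ne hij, Pi.single_eq_of_ne hij.symm, add_zero, zero_add]

/-- `r_ik` is not in `U i j` -/
theorem r_nmem (hij : i ≠ j) (hki : k ≠ i) (hkj : k ≠ j) : rr ε i k ∉ U i j := by
  intro h
  have h1 := mul_mem h (F.zU hij hki hkj)
  have h2 : rr ε i k * zz ε k = zz ε i := by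
    unfold rr
    rw [mul_assoc, F.z_sq, mul_one]
  rw [h2] at h1
  exact F.zU' hij h1

theorem rr_mem_disj (hij : i ≠ j) (hki : k ≠ i) (hkj : k ≠ j) (hli : l ≠ i) (hlj : l ≠ j) : rr ε k l ∈ U i j :=
  mul_mem (F.zU hij hki hkj) (F.zU hij hli hlj)

/-! ### Conjugation -/

theorem KU (hij : i ≠ j) {g : G} (hg : g ∈ KK ε) {u : G} (hu : u ∈ U i j) : cj g u ∈ U i j := F.cU hg hij u hu

theorem KW (hij : i ≠ j) {g : G} (hg : g ∈ KK ε) {u : G} (hu : u ∈ W i j) : cj g u ∈ W i j := F.cW hg hij u hu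

theorem KQ (hij : i ≠ j) {g : G} (hg : g ∈ KK ε) {u : G} (hu : u ∈ Q i j) : cj g u ∈ Q i j := F.cQ hg hij u hu

/-- conjugation by an element acting as `(i j)` -/
theorem sw1 {g : G} (hg : Acts ε g (Equiv.swap i j)) (hki : k ≠ i) (hkj : k ≠ j) {u : G}
    (hu : u ∈ U i k) : cj g u ∈ U j k := by
  have h := F.cU hg hki.symm u hu
  rwa [Equiv.swap_apply_left, Equiv.swap_apply_of_ne_of_ne hki hkj] at h

theorem sw2 {g : G} (hg : Acts ε g (Equiv.swap i j)) (hki : k ≠ i) (hkj : k ≠ j) {u : G}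
    (hu : u ∈ U j k) : cj g u ∈ U i k := by
  have h := F.cU hg hkj.symm u hu
  rwa [Equiv.swap_apply_right, Equiv.swap_apply_of_ne_of_ne hki hkj] at h

theorem sw3 {g : G} (hg : Acts ε g (Equiv.swap i j)) (hki : k ≠ i) (hkj : k ≠ j) (hli : l ≠ i)
    (hlj : l ≠ j) (hkl : k ≠ l) {u : G} (hu : u ∈ U k l) : cj g u ∈ U k l := by
  have h := F.cU hg hkl u hu
  rwa [Equiv.swap_apply_of_ne_of_ne hki hkj, Equiv.swap_apply_of_ne_of_ne hli hlj] at h

theorem w1 (hij : i ≠ j) (hki : k ≠ i) (hkj : k ≠ j) {u : G} (hu : u ∈ U i k) : cj (w i j) u ∈ U j k :=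
  F.sw1 (F.wA hij) hki hkj hu

theorem w2 (hij : i ≠ j) (hki : k ≠ i) (hkj : k ≠ j) {u : G} (hu : u ∈ U j k) : cj (w i j) u ∈ U i k :=
  F.sw2 (F.wA hij) hki hkj hu

theorem w3 (hij : i ≠ j) (hki : k ≠ i) (hkj : k ≠ j) (hli : l ≠ i) (hlj : l ≠ j) (hkl : k ≠ l) {u : G}
    (hu : u ∈ U k l) : cj (w i j) u ∈ U k l := F.sw3 (F.wA hij) hki hkj hli hlj hkl hu

theorem W1 (hij : i ≠ j) (hki : k ≠ i) (hkj : k ≠ j) {u : G} (hu : u ∈ W i k) : cj (w i j) u ∈ W j k := by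
  have h := F.cW (F.wA hij) hki.symm u hu
  rwa [Equiv.swap_apply_left, Equiv.swap_apply_of_ne_of_ne hki hkj] at h

theorem W2 (hij : i ≠ j) (hki : k ≠ i) (hkj : k ≠ j) {u : G} (hu : u ∈ W j k) : cj (w i j) u ∈ W i k := by
  have h := F.cW (F.wA hij) hkj.symm u hu
  rwa [Equiv.swap_apply_right, Equiv.swap_apply_of_ne_of_ne hki hkj] at h

theorem W3 (hij : i ≠ j) (hki : k ≠ i) (hkj : k ≠ j) (hli : l ≠ i) (hlj : l ≠ j) (hkl : k ≠ l) {u : G}
    (hu : u ∈ W k l) : cj (w i j) u ∈ W k l := by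
  have h := F.cW (F.wA hij) hkl u hu
  rwa [Equiv.swap_apply_of_ne_of_ne hki hkj, Equiv.swap_apply_of_ne_of_ne hli hlj] at h

omit F in
/-- conjugates of elements of `C_G(V)` -/
theorem KK_conj {g : G} {σ : Equiv.Perm (Fin n)} (hg : Acts ε g σ) {x : G} (hx : x ∈ KK ε) : cj g x ∈ KK ε := by
  have h := hg.conj (mem_KK.1 hx)
  rw [mul_one, mul_inv_cancel] at h
  exact h

/-- an element of `Q i j` acting as `(i j)` is an involution on `C_G(V)` -/
theorem w_sq_comm (hij : i ≠ j) {g : G} (hg : g ∈ KK ε) : w i j * w i j * g = g * (w i j * w i j) := by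
  rcases F.Wsq hij _ (F.wW hij) with h | h
  · rw [h, one_mul, mul_one]
  · rw [h, Kr hg]

/-- `w` acts on `K` as an involution -/
theorem cj_w_w (hij : i ≠ j) {g : G} (hg : g ∈ KK ε) : cj (w i j) (cj (w i j) g) = g := by
  rw [cj_cj]
  exact cj_eq_of_comm (F.w_sq_comm hij hg)

/-- preimage under `w` -/
theorem cj_w_eq (hij : i ≠ j) {g h : G} (hg : g ∈ KK ε) (e : h = cj (w i j) g) : g = cj (w i j) h := by
  rw [e, F.cj_w_w hij hg]

/-- `w i j` centralises `U i j` -/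
theorem cj_w_self (hij : i ≠ j) {u : G} (hu : u ∈ U i j) : cj (w i j) u = u :=
  cj_eq_of_comm (F.UQc hij _ (F.WQ hij (F.wW hij)) u hu)

/-! ### (1) Intersections: the sigma calculus -/

/-- (1.1) -/
theorem tri (hij : i ≠ j) (hki : k ≠ i) (hkj : k ≠ j) {y : G} (h1 : y ∈ U i j) (h2 : y ∈ U i k) :
    y ∈ U j k := by
  have h3 := F.w1 hij hki hkj h2
  rwa [F.cj_w_self hij h1] at h3

theorem tri' (hij : i ≠ j) (hki : k ≠ i) (hkj : k ≠ j) {y : G} (h1 : y ∈ U i k) (h2 : y ∈ U j k) :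
    y ∈ U i j := by
  rw [F.Usym] at h1 h2
  exact F.tri hki hkj.symm hij.symm h1 h2

theorem lab_symm {x : G} (h : Lab U x i j) : Lab U x j i := by
  rcases h with h | h
  · exact Or.inl h.symm
  · exact Or.inr (F.Usym i j ▸ h)

theorem lab_trans {x : G} (h1 : Lab U x i j) (h2 : Lab U x j k) : Lab U x i k := by
  rcases eq_or_ne i j with rfl | hij
  · exact h2
  rcases eq_or_ne j k with rfl | hjk
  · exact h1
  rcases eq_or_ne i k with rfl | hik
  · exact Or.inl rfl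
  have e1 := h1.resolve_left hij
  have e2 := h2.resolve_left hjk
  right
  rw [F.Usym] at e1
  exact F.tri hij.symm hjk.symm hik.symm e1 e2

omit F in
theorem lab_refl (x : G) (i : Fin n) : Lab U x i i := Or.inl rfl

omit F in
theorem lab_ne {x : G} (hij : i ≠ j) : Lab U x i j ↔ x ∈ U i j := or_iff_right hij

omit F in
theorem lab_mul {x y : G} (h1 : Lab U x i j) (h2 : Lab U y i j) : Lab U (x * y) i j := by
  rcases eq_or_ne i j with rfl | hij
  · exact Or.inl rfl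
  · exact Or.inr (mul_mem (h1.resolve_left hij) (h2.resolve_left hij))

omit F in
theorem lab_inv {x : G} (h1 : Lab U x i j) : Lab U x⁻¹ i j := h1.imp_right fun h => inv_mem h

theorem lab_e (x : Fin n → ZMod 2) : Lab U (ε x) i j ↔ x i = x j := by
  rcases eq_or_ne i j with rfl | hij
  · exact ⟨fun _ => rfl, fun _ => Or.inl rfl⟩
  · rw [lab_ne hij, F.eU hij]

/-- all `U`'s from a star -/
theorem star {y : G} (h : ∀ a, Lab U y i a) : y = 1 :=
  F.inter y fun a b hab => (F.lab_trans (F.lab_symm (h a)) (h b)).resolve_left hab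

/-- `[s, y] ∈ U i j` for `s ∈ U i j`, `y ∈ C_G(V)` -/
theorem cm_left (hij : i ≠ j) {v y : G} (hv : v ∈ U i j) (hy : y ∈ KK ε) : cm v y ∈ U i j := by
  rw [cm_eq]
  have e : cj v y * y⁻¹ = v * (cj y v)⁻¹ := by unfold cj; group
  rw [e]
  exact mul_mem hv (inv_mem (F.KU hij hy hv))

theorem cm_right (hij : i ≠ j) {v y : G} (hv : v ∈ KK ε) (hy : y ∈ U i j) : cm v y ∈ U i j := by
  rw [cm_eq]
  exact mul_mem (F.KU hij hv hy) (inv_mem hy)

theorem lab_cm_left {v y : G} (hv : Lab U v i j) (hy : y ∈ KK ε) : Lab U (cm v y) i j := by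
  rcases eq_or_ne i j with rfl | hij
  · exact Or.inl rfl
  · exact Or.inr (F.cm_left hij (hv.resolve_left hij) hy)

theorem lab_cm_right {v y : G} (hv : v ∈ KK ε) (hy : Lab U y i j) : Lab U (cm v y) i j := by
  rcases eq_or_ne i j with rfl | hij
  · exact Or.inl rfl
  · exact Or.inr (F.cm_right hij hv (hy.resolve_left hij))

theorem lab_cj {g : G} {σ : Equiv.Perm (Fin n)} (hg : Acts ε g σ) {x : G} (h : Lab U x i j) :
    Lab U (cj g x) (σ i) (σ j) := by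
  rcases eq_or_ne i j with rfl | hij
  · exact Or.inl rfl
  · exact Or.inr (F.cU hg hij x (h.resolve_left hij))

theorem cmK {x y : G} (hx : x ∈ KK ε) (hy : y ∈ KK ε) : cm x y ∈ KK ε :=
  mul_mem (mul_mem (mul_mem hx hy) (inv_mem hx)) (inv_mem hy)

/-! ### (2) -/

/-- `u w u⁻¹ w⁻¹ ∈ W` -/
theorem uw (hij : i ≠ j) {x : G} (hx : x ∈ W i j) {u : G} (hu : u ∈ KK ε) : cm u x ∈ W i j := by
  rw [cm_eq]
  exact mul_mem (F.KW hij hu hx) (inv_mem hx)

theorem inv_self (hij : i ≠ j) {u : G} (hu : u ∈ U i j) : u⁻¹ = u :=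
  inv_eq_of_mul_eq_one_left (F.Usq hij u hu)

/-- `u · u^w ∈ W` -/
theorem uuw {a b : Fin n} (hij : i ≠ j) (hab : a ≠ b) {u : G} (hu : u ∈ U a b) :
    u * cj (w i j) u ∈ W i j := by
  have h := F.uw hij (F.wW hij) (F.UK hab hu)
  have e : cm u (w i j) = u * cj (w i j) u := by
    rw [cm_eq', F.inv_self hab hu]
  rwa [e] at h

/-- membership in `⟨z_j⟩ Σ_ijk`, inside `U i k` (triangle `i j k`) -/
def PP (ε : (Fin n → ZMod 2) → G) (U : Fin n → Fin n → Subgroup G) (i k j : Fin n) (y : G) : Prop :=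
  y ∈ U i k ∧ (y ∈ U i j ∨ y * zz ε j ∈ U i j)

/-- the key dichotomy: `y = e z`, `y ∈ U i k`, `z ∈ U j k`, `e ∈ {1, r_ij}` -/
theorem pp_of (hij : i ≠ j) (hki : k ≠ i) (hkj : k ≠ j) {y z e : G} (hy : y ∈ U i k)
    (hz : z ∈ U j k) (he : e = 1 ∨ e = rr ε i j) (h : y = e * z) : PP ε U i k j y := by
  refine ⟨hy, ?_⟩
  rcases he with rfl | rfl
  · left
    rw [one_mul] at h
    exact F.tri' hij hki hkj hy (h ▸ hz)
  · right
    have h1 : y * zz ε j = zz ε i * z := by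
      rw [h, mul_assoc, Kz (F.UK hkj.symm hz), ← mul_assoc]
      unfold rr
      rw [mul_assoc (zz ε i), F.z_sq, mul_one]
    refine F.tri' hij hki hkj (mul_mem hy (F.zU hki.symm hij.symm hkj.symm)) ?_
    rw [h1]
    exact mul_mem (F.zU hkj.symm hij hki.symm) hz

/-- (1.3): `[U_ik, Q_ij ∩ C(V)] ≤ ⟨z_j⟩ Σ_ijk` -/
theorem uq (hij : i ≠ j) (hki : k ≠ i) (hkj : k ≠ j) {u q : G} (hu : u ∈ U i k) (hq : q ∈ Q i j)
    (hqK : q ∈ KK ε) : PP ε U i k j (u⁻¹ * cj q u) := by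
  set u' := cj (w i j) u with hu'
  have h1 : u' ∈ U j k := F.w1 hij hki hkj hu
  have h2 : u * u' ∈ W i j := F.uuw hij hki.symm hu
  have h3 := F.QW hij q hq _ h2
  have h4 : cj q u ∈ U i k := F.KU hki.symm hqK hu
  have h5 : cj q u' ∈ U j k := F.KU hkj.symm hqK h1
  have h6 : u⁻¹ * cj q u = cm q (u * u') * (u' * (cj q u')⁻¹) := by
    have e1 : cj q u * cj q u' = cm q (u * u') * (u * u') := by rw [← cj_mul, cj_eq_cm]
    have e2 : cm q (u * u') * u = u * cm q (u * u') := by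
      rcases h3 with h | h
      · rw [h, one_mul, mul_one]
      · rw [h, Kr (F.UK hki.symm hu)]
    have e3 : u⁻¹ * cj q u = u⁻¹ * (cj q u * cj q u') * (cj q u')⁻¹ := by group
    rw [e3, e1, ← mul_assoc (cm q (u * u')), e2]
    group
  exact F.pp_of hij hki hkj (mul_mem (inv_mem hu) h4) (mul_mem h1 (inv_mem h5)) h3 h6

/-- (1.4) -/
theorem alt (hij : i ≠ j) (hki : k ≠ i) (hkj : k ≠ j) {y : G} (hy : y ∈ U i j) :
    y * cj (w j k) y = cj (w j k) y * y := by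
  have h1 : cj (w j k) y ∈ U i k := by
    rw [F.Usym]
    exact F.w1 hkj.symm hij hki.symm (F.Usym i j ▸ hy)
  have h2 := F.Wsq hkj.symm _ (F.uuw hkj.symm hij hy)
  set y' := cj (w j k) y
  have e1 : y * y' * (y * y') = cm y y' := by
    unfold cm
    rw [F.inv_self hij hy, F.inv_self hki.symm h1]
    group
  have h3 : cm y y' ∈ U i j := by
    rw [cm_eq']
    exact mul_mem hy (F.KU hij (F.UK hki.symm h1) (inv_mem hy))
  rw [e1] at h2
  rcases h2 with h | h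
  · exact cm_one_iff.1 h
  · rw [h, F.Usym] at h3
    exact absurd h3 (F.r_nmem hij.symm hkj hki)

/-- (1.6) -/
theorem ppQ (hij : i ≠ j) (hki : k ≠ i) (hkj : k ≠ j) {y : G} (hy : y ∈ U i k) (hq : y ∈ Q i j) :
    PP ε U i k j y := by
  have h1 : cj (w i j) y ∈ U j k := F.w1 hij hki hkj hy
  have h2 := F.QW hij y hq _ (F.wW hij)
  have e1 : cm y (w i j) = y * cj (w i j) y := by rw [cm_eq', F.inv_self hki.symm hy]
  refine F.pp_of hij hki hkj hy h1 h2 ?_
  rw [e1, mul_assoc, F.Usq hkj.symm _ h1, mul_one]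

/-- `c` centralises `U i j` -/
abbrev Cen (U : Fin n → Fin n → Subgroup G) (c : G) (i j : Fin n) : Prop :=
  ∀ y ∈ U i j, c * y = y * c

theorem cen_symm {c : G} (h : Cen U c i j) : Cen U c j i := by
  intro y hy
  exact h y (F.Usym i j ▸ hy)

/-- `C_{U_ik}(U_ij) = C_{U_ik}(U_jk)` -/
theorem cen_tri (hij : i ≠ j) (hki : k ≠ i) (hkj : k ≠ j) {u : G} (hu : u ∈ U i k)
    (hc : Cen U u i j) : Cen U u j k := by
  intro y hy
  have h1 : cj (w i k) y ∈ U i j := F.w2 hki.symm hij.symm hkj.symm (F.Usym j k ▸ hy)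
  have h2 := hc _ h1
  have h3 := congrArg (cj (w i k)) h2
  rw [cj_mul, cj_mul, F.cj_w_w hki.symm (F.UK hkj.symm hy), F.cj_w_self hki.symm hu] at h3
  exact h3

/-- conjugates of centralising elements -/
theorem cen_cj {a b : Fin n} (hij : i ≠ j) {c : G} (hc : Cen U c a b)
    {a' b' : Fin n} (hmap : ∀ y ∈ U a' b', cj (w i j) y ∈ U a b) (hab' : a' ≠ b') :
    Cen U (cj (w i j) c) a' b' := by
  intro y hy
  have h1 := hc _ (hmap y hy)
  have h2 := congrArg (cj (w i j)) h1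
  rw [cj_mul, cj_mul, F.cj_w_w hij (F.UK hab' hy)] at h2
  exact h2

end Fr

end Cfsg.Agent.Omega.NSix.Engine

end

section


/-!
# (3) of #15755 (helper480): THEOREM C on the frame `Fr`

* `Fr.two1` : `[v, y] ∈ Σ_ijkl` for `v ∈ U i k` centralising `U i j`, `y ∈ U p l`, `p ∈ {i,j,k}`;
* `Fr.two2` : `[u, y] = [u ^ w_ij, y]` for `u ∈ U i k` centralising `U i j`, `y ∈ U i m`;
* `Fr.thmC`, `Fr.thmC'` : `u ∈ U i k` centralising `U i j` lies in `Q i j`, and in `⟨z_j⟩ Σ_ijk`.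
-/

set_option autoImplicit false
set_option linter.unusedSectionVars false

namespace Cfsg.Agent.Omega.NSix.Engine

open Subgroup Cfsg.Agent.Omega.S5.Def Cfsg.Agent.Omega.NSix.Base
open Cfsg.Agent.Omega.TTn.Di (cm cj cj_mul cj_inv cj_cj cj_one cj_eq_of_comm comm_of_cj cj_eq_cm cm_eq
  cm_one_iff cm_eq')

universe u

variable {G : Type u} [Group G] {n : ℕ}

namespace Fr

variable {ε : (Fin n → ZMod 2) → G} {U W Q : Fin n → Fin n → Subgroup G} {w : Fin n → Fin n → G}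
  (F : Fr ε U W Q w) {i j k l m : Fin n}

include F

omit F in
/-- `y ∈ Σ_ijkl` -/
def Sg (U : Fin n → Fin n → Subgroup G) (i j k l : Fin n) (y : G) : Prop :=
  y ∈ U i j ∧ y ∈ U i k ∧ y ∈ U i l

theorem sg_a (h : D4 i j k l) {y : G} (hy : Sg U i j k l y) : Sg U j i k l y :=
  ⟨F.Usym i j ▸ hy.1, F.tri h.ij h.ik.symm h.jk.symm hy.1 hy.2.1,
    F.tri h.ij h.il.symm h.jl.symm hy.1 hy.2.2⟩

omit F in
theorem sg_b {y : G} (hy : Sg U i j k l y) : Sg U i k j l y := ⟨hy.2.1, hy.1, hy.2.2⟩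

omit F in
theorem sg_c {y : G} (hy : Sg U i j k l y) : Sg U i j l k y := ⟨hy.1, hy.2.2, hy.2.1⟩

theorem sg_jk (h : D4 i j k l) {y : G} (hy : Sg U i j k l y) : y ∈ U j k := (F.sg_a h hy).2.1

theorem sg_jl (h : D4 i j k l) {y : G} (hy : Sg U i j k l y) : y ∈ U j l := (F.sg_a h hy).2.2

theorem sg_kl (h : D4 i j k l) {y : G} (hy : Sg U i j k l y) : y ∈ U k l :=
  F.tri h.ik h.il.symm h.kl.symm hy.2.1 hy.2.2

/-- (2.1), first form: `v ∈ U i l` centralising `U i j`, `y ∈ U i k` -/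
theorem two1a (h : D4 i j k l) {v y : G} (hv : v ∈ U i l) (hc : Cen U v i j) (hy : y ∈ U i k) :
    Sg U i j k l (cm v y) ∧ Sg U i j k l (cm v (cj (w i j) y)) := by
  set u := cj (w k l) v with hu
  have hvK := F.UK h.il hv
  have hyK := F.UK h.ik hy
  have hu1 : u ∈ U i k := by
    rw [F.Usym]
    exact F.w2 h.kl h.ik h.il (F.Usym i l ▸ hv)
  have huv : cj (w k l) u = v := F.cj_w_w h.kl hvK
  have hcu : Cen U u i j :=
    F.cen_cj h.kl hc (fun y hy => F.w3 h.kl h.ik h.il h.jk h.jl h.ij hy) h.ij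
  have hcu2 : Cen U u j k := F.cen_tri h.ij h.ik.symm h.jk.symm hu1 hcu
  -- `u v ∈ Q i j`
  have hq : u * v ∈ Q i j := by
    have h1 := F.cw h u hcu _ (F.wW h.kl)
    have e1 : cm u (w k l) = u * v := by
      rw [cm_eq', F.inv_self h.ik hu1, huv]
    rwa [e1] at h1
  set y' := cj (w i j) y with hy'
  have hy1 : y' ∈ U j k := F.w1 h.ij h.ik.symm h.jk.symm hy
  have hy1K := F.UK h.jk hy1
  have h2 : y * y' ∈ W i j := F.uuw h.ij h.ik hy
  have h3 := F.QW h.ij _ hq _ h2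
  set e := cm (u * v) (y * y') with he
  have hb : cj v y ∈ U i k := F.KU h.ik hvK hy
  have hb' : cj v y' ∈ U j k := F.KU h.jk hvK hy1
  have e1 : cj (u * v) (y * y') = cj v y * cj v y' := by
    rw [← cj_cj, cj_mul, cj_mul, cj_eq_of_comm (F.Uab h.ik u hu1 _ hb), cj_eq_of_comm (hcu2 _ hb')]
  have e2 : cj v y * cj v y' = e * (y * y') := by rw [← e1, cj_eq_cm]
  have ecomm : ∀ g ∈ KK ε, e * g = g * e := by
    intro g hg
    rcases h3 with h3 | h3
    · rw [h3, one_mul, mul_one]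
    · rw [h3, Kr hg]
  -- `y⁻¹ b = e y' b'⁻¹`
  have e3 : y⁻¹ * cj v y = e * (y' * (cj v y')⁻¹) := by
    have e4 : y⁻¹ * cj v y = y⁻¹ * (cj v y * cj v y') * (cj v y')⁻¹ := by group
    rw [e4, e2, ← mul_assoc e, ecomm y hyK]
    group
  have m1 : y⁻¹ * cj v y ∈ U i l := by
    have e4 : y⁻¹ * cj v y = cj y⁻¹ v * v⁻¹ := by unfold cj; group
    rw [e4]
    exact mul_mem (F.KU h.il (inv_mem hyK) hv) (inv_mem hv)
  have m2 : y' * (cj v y')⁻¹ ∈ U i l := by
    have e4 : y' * (cj v y')⁻¹ = cj y' v * v⁻¹ := by unfold cj; group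
    rw [e4]
    exact mul_mem (F.KU h.il hy1K hv) (inv_mem hv)
  have he1 : e = 1 := by
    rcases h3 with h3 | h3
    · exact h3
    · exfalso
      have h4 : e ∈ U i l := by
        have e4 : e = (y⁻¹ * cj v y) * (y' * (cj v y')⁻¹)⁻¹ := by rw [e3]; group
        rw [e4]; exact mul_mem m1 (inv_mem m2)
      rw [h3] at h4
      exact F.r_nmem h.il h.ij.symm h.jl h4
  rw [he1, one_mul] at e3
  have m3 : y⁻¹ * cj v y ∈ U i k := mul_mem (inv_mem hy) hb
  have m4 : y⁻¹ * cj v y ∈ U j k := by rw [e3]; exact mul_mem hy1 (inv_mem hb')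
  have m5 : y⁻¹ * cj v y ∈ U i j := F.tri' h.ij h.ik.symm h.jk.symm m3 m4
  have f1 : cm v y = y⁻¹ * cj v y := by
    rw [cm_eq]
    exact F.Uab h.ik _ hb _ (inv_mem hy)
  have f2 : cm v y' = (y⁻¹ * cj v y)⁻¹ := by
    rw [e3, mul_inv_rev, inv_inv, cm_eq]
  refine ⟨?_, ?_⟩
  · rw [f1]; exact ⟨m5, m3, m1⟩
  · rw [f2]; exact ⟨inv_mem m5, inv_mem m3, inv_mem m1⟩

/-- (2.1): triangle `i j k`, `v ∈ U i k` centralising `U i j`; `y ∈ U p l`, `p ∈ {i,j,k}` -/
theorem two1 (h : D4 i j k l) {v y : G} (hv : v ∈ U i k) (hc : Cen U v i j)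
    (hy : y ∈ U i l ∨ y ∈ U j l ∨ y ∈ U k l) : Sg U i j k l (cm v y) := by
  have hh := h.c
  rcases hy with hy | hy | hy
  · exact sg_c (F.two1a hh hv hc hy).1
  · have h1 : cj (w i j) y ∈ U i l := F.w2 h.ij h.il.symm h.jl.symm hy
    have h2 := (F.two1a hh hv hc h1).2
    rw [F.cj_w_w h.ij (F.UK h.jl hy)] at h2
    exact sg_c h2
  · have h1 : cj (w i k) y ∈ U i l := F.w2 h.ik h.il.symm h.kl.symm hy
    have h2 := (F.two1a hh hv hc h1).1
    -- conjugate back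
    have e1 : cm v y = cj (w i k) (cm v (cj (w i k) y)) := by
      have e2 : ∀ a b c : G, cj a (cm b c) = cm (cj a b) (cj a c) := by
        intro a b c; unfold cj cm; group
      rw [e2, F.cj_w_w h.ik (F.UK h.kl hy), F.cj_w_self h.ik hv]
    rw [e1]
    obtain ⟨a1, a2, a3⟩ := h2
    -- a1 : U i j, a2 : U i l, a3 : U i k
    have b3 : cj (w i k) (cm v (cj (w i k) y)) ∈ U i k := by
      rw [F.cj_w_self h.ik a3]
      exact a3
    have b1 : cj (w i k) (cm v (cj (w i k) y)) ∈ U k j := F.w1 h.ik h.ij.symm h.jk a1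
    have b2 : cj (w i k) (cm v (cj (w i k) y)) ∈ U k l := F.w1 h.ik h.il.symm h.kl.symm a2
    exact ⟨F.tri h.ik.symm h.jk h.ij.symm (F.Usym i k ▸ b3) b1, b3,
      F.tri h.ik.symm h.kl.symm h.il.symm (F.Usym i k ▸ b3) b2⟩

/-- (2.2), one letter: `[u ^ w_ij, y] [u, y]⁻¹ = [u_jl, y]⁻¹ [u_il, y]` -/
theorem two2a (h : D5 i j k l m) {u y : G} (hu : u ∈ U i k) (hc : Cen U u i j) (hy : y ∈ U i m) :
    cm (cj (w i j) u) y * (cm u y)⁻¹ ∈ U i l := by
  have huK := F.UK h.ik hu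
  have hyK := F.UK h.im hy
  set u2 := cj (w i j) u with hu2
  have hu2m : u2 ∈ U j k := F.w1 h.ij h.ik.symm h.jk.symm hu
  have hu2K := F.UK h.jk hu2m
  have hc2 : Cen U u2 i j := by
    refine F.cen_cj h.ij hc (fun z hz => ?_) h.ij
    rw [F.cj_w_self h.ij hz]
    exact hz
  set u4 := cj (w k l) u with hu4
  have hu4m : u4 ∈ U i l := by
    rw [F.Usym]
    exact F.w1 h.kl h.ik h.il (F.Usym i k ▸ hu)
  have hu4K := F.UK h.il hu4m
  have hc4 : Cen U u4 i j :=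
    F.cen_cj h.kl hc (fun y hy => F.w3 h.kl h.ik h.il h.jk h.jl h.ij hy) h.ij
  set u24 := cj (w i j) u4 with hu24
  have hu24m : u24 ∈ U j l := F.w1 h.ij h.il.symm h.jl.symm hu4m
  have hu24K := F.UK h.jl hu24m
  have hc24 : Cen U u24 i j := by
    refine F.cen_cj h.ij hc4 (fun z hz => ?_) h.ij
    rw [F.cj_w_self h.ij hz]
    exact hz
  -- `u u4 ∈ Q i j`
  have hq : u * u4 ∈ Q i j := by
    have h1 := F.cw h.toD4 u hc _ (F.wW h.kl)
    have e1 : cm u (w k l) = u * u4 := by rw [cm_eq', F.inv_self h.ik hu]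
    rwa [e1] at h1
  have h3 := F.QW h.ij _ hq _ (F.wW h.ij)
  set e := cm (u * u4) (w i j) with he
  have hee : ∀ g ∈ KK ε, e * g = g * e := by
    intro g hg
    rcases h3 with h3 | h3
    · rw [h3, one_mul, mul_one]
    · rw [h3, Kr hg]
  -- `u u4 = e · (u2 u24)`
  have e1 : u * u4 = e * (u2 * u24) := by
    have e2 : u2 * u24 = cj (w i j) (u * u4) := by rw [hu2, hu24, cj_mul]
    have e3 : cj (u * u4) (w i j) = e * w i j := by rw [cj_eq_cm]
    have e4 : u * u4 * w i j = e * w i j * (u * u4) := by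
      rw [← e3]; unfold cj; group
    have e5 : u * u4 = e * (w i j * (u * u4) * (w i j)⁻¹) := by
      calc u * u4 = u * u4 * w i j * (w i j)⁻¹ := by group
        _ = e * w i j * (u * u4) * (w i j)⁻¹ := by rw [e4]
        _ = _ := by group
    rw [e2]
    exact e5
  have e2 : cj (u * u4) y = cj (u2 * u24) y := by
    rw [e1, ← cj_cj]
    exact cj_eq_of_comm (hee _ (mul_mem (mul_mem (mul_mem hu2K hu24K) hyK)
      (inv_mem (mul_mem hu2K hu24K))))
  have S4 : Sg U i j k m (cm u y) := F.two1 h.d.toD4 hu hc (Or.inl hy)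
  have S4' : Sg U j i k m (cm u2 y) :=
    F.two1 (h.a.d).toD4 hu2m (F.cen_symm hc2) (Or.inr (Or.inl hy))
  have S3 : Sg U i j l m (cm u4 y) := F.two1 h.c.d.toD4 hu4m hc4 (Or.inl hy)
  have S3' : Sg U j i l m (cm u24 y) :=
    F.two1 (h.a.c.d).toD4 hu24m (F.cen_symm hc24) (Or.inr (Or.inl hy))
  have S4'' : Sg U i j k m (cm u2 y) := F.sg_a (h.a.d).toD4 S4'
  have S3'' : Sg U i j l m (cm u24 y) := F.sg_a (h.a.c.d).toD4 S3'
  have f1 : cj (u * u4) y = cm u4 y * (cm u y * y) := by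
    rw [← cj_cj, cj_eq_cm u4 y, cj_mul, cj_eq_cm u y, cj_eq_of_comm (hc _ S3.1)]
  have f2 : cj (u2 * u24) y = cm u24 y * (cm u2 y * y) := by
    rw [← cj_cj, cj_eq_cm u24 y, cj_mul, cj_eq_cm u2 y, cj_eq_of_comm (hc2 _ S3''.1)]
  rw [f1, f2, ← mul_assoc, ← mul_assoc] at e2
  have e3 := mul_right_cancel e2
  have e4 : (cm u24 y)⁻¹ * cm u4 y = cm u2 y * (cm u y)⁻¹ := by
    rw [inv_mul_eq_iff_eq_mul, ← mul_assoc, ← e3, mul_assoc, mul_inv_cancel, mul_one]
  rw [← e4]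
  exact mul_mem (inv_mem S3''.2.1) S3.2.1

/-- **(2.2)** `[u, y] = [u ^ w_ij, y]` -/
theorem two2 (h : D4 i j k m) {u y : G} (hu : u ∈ U i k) (hc : Cen U u i j) (hy : y ∈ U i m) :
    cm u y = cm (cj (w i j) u) y := by
  have hu2m : cj (w i j) u ∈ U j k := F.w1 h.ij h.ik.symm h.jk.symm hu
  have hc2 : Cen U (cj (w i j) u) i j := by
    refine F.cen_cj h.ij hc (fun z hz => ?_) h.ij
    rw [F.cj_w_self h.ij hz]
    exact hz
  have S1 : Sg U i j k m (cm u y) := F.two1 h hu hc (Or.inl hy)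
  have S2 : Sg U i j k m (cm (cj (w i j) u) y) :=
    F.sg_a h.a (F.two1 h.a hu2m (F.cen_symm hc2) (Or.inr (Or.inl hy)))
  have e5 : cm (cj (w i j) u) y * (cm u y)⁻¹ = 1 := by
    refine F.star (i := i) fun a => ?_
    by_cases hai : a = i
    · rw [hai]; exact lab_refl _ _
    refine Or.inr ?_
    by_cases haj : a = j
    · rw [haj]; exact mul_mem S2.1 (inv_mem S1.1)
    by_cases hak : a = k
    · rw [hak]; exact mul_mem S2.2.1 (inv_mem S1.2.1)
    by_cases ham : a = m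
    · rw [ham]; exact mul_mem S2.2.2 (inv_mem S1.2.2)
    exact F.two2a (l := a) ⟨⟨h.ij, h.ik, Ne.symm hai, h.jk, Ne.symm haj, Ne.symm hak⟩, h.il, h.jl, h.kl, ham⟩
      hu hc hy
  exact (mul_inv_eq_one.1 e5).symm

/-- **THEOREM C** -/
theorem thmC (h : D4 i j k l) {u : G} (hu : u ∈ U i k) (hc : Cen U u i j) : u ∈ Q i j := by
  have hu' : u ∈ U k i := F.Usym i k ▸ hu
  set u'' := cj (w k j) u with hu''
  have hum : u'' ∈ U i j := by
    rw [F.Usym]
    exact F.w1 h.jk.symm h.ik h.ij hu'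
  have hc' : Cen U u k j := F.cen_symm (F.cen_tri h.ij h.ik.symm h.jk.symm hu hc)
  have hcW : u * u'' ∈ W j k := by
    rw [F.Wsym]
    exact F.uuw h.jk.symm h.ik hu
  have c1 : ∀ y ∈ U i j, u * u'' * y = y * (u * u'') := by
    intro y hy
    rw [mul_assoc, F.Uab h.ij _ hum y hy, ← mul_assoc, hc y hy, mul_assoc]
  have c2 : ∀ y ∈ U k l, u * u'' * y = y * (u * u'') := by
    intro y hy
    have e1 : cm u y = cm u'' y := F.two2 h.b.a.b hu' hc' hy
    have S := F.two1 h hu hc (Or.inr (Or.inr hy))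
    apply comm_of_cj
    rw [← cj_cj, cj_eq_cm u'' y, ← e1, cj_mul, cj_eq_cm u y, cj_eq_of_comm (hc _ S.1), ← mul_assoc,
      F.Usq h.ij _ S.1, one_mul]
  have h1 := F.core h _ hcW c1 c2
  have h2 := mul_mem h1 (inv_mem (F.UQ h.ij hum))
  rwa [mul_inv_cancel_right] at h2

/-- Theorem C, second form: `u ∈ ⟨z_j⟩ Σ_ijk` -/
theorem thmC' (h : D4 i j k l) {u : G} (hu : u ∈ U i k) (hc : Cen U u i j) : PP ε U i k j u :=
  F.ppQ h.ij h.ik.symm h.jk.symm hu (F.thmC h hu hc)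

end Fr

end Cfsg.Agent.Omega.NSix.Engine

end

section


/-!
# #15755 (4), (5) (helper480) over the frame `Fr`, THEOREM C as a hypothesis `ThC ε U`

* `Fr.four` : `C_{U_ij}(⟨U_ik : k ∈ S⟩) = V_ij Σ_{ij ∪ S}`;
* `Fr.four_all` : `C_{U_ij}(⟨U_ik : k⟩) = V_ij`;
* `Fr.two_block` : `Σ_{X | Xᶜ} = ⟨v_X⟩`;
* `Fr.five` : `[Σ_PP, Q_pk ∩ C(V)] ≤ ⟨v⟩ Σ_{PP ∨ pk}`;
* `Fr.IsMax s` : `s ∈ C_G(V) - V` with a maximal partition `Lab U s`; then `[s, U_ab] ≤ V`, `[s, U_xy] ≠ 1` for `x`, `y` in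
  different blocks, the block of `x` being not a point, and `s` centralises `[U_ab, U_cd]`.
-/

set_option autoImplicit false
set_option linter.unusedSectionVars false

namespace Cfsg.Agent.Omega.NSix.Engine

open Subgroup Cfsg.Agent.Omega.S5.Def Cfsg.Agent.Omega.NSix.Base
open Cfsg.Agent.Omega.TTn.Di (cm cj cj_mul cj_inv cj_cj cj_one cj_eq_of_comm comm_of_cj cj_eq_cm cm_eq
  cm_one_iff cm_eq')

universe u

variable {G : Type u} [Group G] {n : ℕ}

/-- THEOREM C: `C_{U_ik}(U_ij) = ⟨z_j⟩ Σ_ijk` -/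
def ThC (ε : (Fin n → ZMod 2) → G) (U : Fin n → Fin n → Subgroup G) : Prop :=
  ∀ {i j k : Fin n}, i ≠ j → k ≠ i → k ≠ j → ∀ u ∈ U i k, Fr.Cen U u i j → u ∈ U i j ∨ u * zz ε j ∈ U i j

namespace Fr

variable {ε : (Fin n → ZMod 2) → G} {U W Q : Fin n → Fin n → Subgroup G} {w : Fin n → Fin n → G}
  (F : Fr ε U W Q w) {i j k l m : Fin n}

include F

/-- **(4)** -/
theorem four (hC : ThC ε U) (hij : i ≠ j) {u : G} (hu : u ∈ U i j) (S : Finset (Fin n)) :
    i ∉ S → j ∉ S → (∀ k ∈ S, Cen U u i k) →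
      ∃ x : Fin n → ZMod 2, (∀ k, k ∉ S → x k = 0) ∧ u * ε x ∈ U i j ∧ ∀ k ∈ S, u * ε x ∈ U i k := by
  induction S using Finset.induction_on with
  | empty =>
    intro _ _ _
    exact ⟨0, fun _ _ => rfl, by rw [F.zero, mul_one]; exact hu, fun k hk => absurd hk (Finset.notMem_empty k)⟩
  | insert a S ha ih =>
    intro hi hj hc
    rw [Finset.mem_insert, not_or] at hi hj
    obtain ⟨x, h1, h2, h3⟩ := ih hi.2 hj.2 fun k hk => hc k (Finset.mem_insert_of_mem hk)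
    have hia : i ≠ a := hi.1
    have hja : j ≠ a := hj.1
    have hxa : ε x ∈ U i a := (F.eU hia _).2 (by rw [h1 i hi.2, h1 a ha])
    rcases hC hia hij.symm hja u hu (hc a (Finset.mem_insert_self _ _)) with h4 | h4
    · refine ⟨x, fun k hk => h1 k fun h => hk (Finset.mem_insert_of_mem h), h2, fun k hk => ?_⟩
      rcases Finset.mem_insert.1 hk with rfl | hk
      · exact mul_mem h4 hxa
      · exact h3 k hk
    · refine ⟨x + Pi.single a 1, fun k hk => ?_, ?_, fun k hk => ?_⟩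
      · rw [Finset.mem_insert, not_or] at hk
        rw [Pi.add_apply, h1 k hk.2, Pi.single_eq_of_ne hk.1, add_zero]
      · rw [F.add, ← mul_assoc]
        exact mul_mem h2 (F.zU hij hia.symm hja.symm)
      · rw [F.add]
        rcases Finset.mem_insert.1 hk with rfl | hk
        · rw [F.ecomm, ← mul_assoc]
          exact mul_mem h4 hxa
        · have hik : i ≠ k := fun h => hi.2 (h ▸ hk)
          have hak : a ≠ k := fun h => ha (h ▸ hk)
          rw [← mul_assoc]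
          exact mul_mem (h3 k hk) (F.zU hik hia.symm hak)

/-- **(4)**, all labels -/
theorem four_all (hC : ThC ε U) (hij : i ≠ j) {u : G} (hu : u ∈ U i j)
    (hc : ∀ k, k ≠ i → k ≠ j → Cen U u i k) : ∃ x : Fin n → ZMod 2, x i = 0 ∧ x j = 0 ∧ u = ε x := by
  obtain ⟨x, h1, h2, h3⟩ := F.four hC hij hu (Finset.univ \ {i, j}) (by simp) (by simp) fun k hk => by
    simp only [Finset.mem_sdiff, Finset.mem_univ, true_and, Finset.mem_insert, Finset.mem_singleton, not_or] at hk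
    exact hc k hk.1 hk.2
  refine ⟨x, h1 i (by simp), h1 j (by simp), ?_⟩
  have h4 : u * ε x = 1 := by
    refine F.star (i := i) fun a => ?_
    rcases eq_or_ne i a with rfl | hia
    · exact Or.inl rfl
    · right
      rcases eq_or_ne a j with rfl | haj
      · exact h2
      · exact h3 a (by simp [hia.symm, haj])
  rw [mul_eq_one_iff_eq_inv.1 h4, F.einv]

theorem range_mul {a b : G} (ha : ∃ x, a = ε x) (hb : ∃ x, b = ε x) : ∃ x, a * b = ε x := by
  obtain ⟨x, rfl⟩ := ha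
  obtain ⟨y, rfl⟩ := hb
  exact ⟨x + y, (F.add _ _).symm⟩

/-- an element of `C_G(V)` commutes with every `U a b` inside its blocks -/
theorem comm_of_lab {s y : G} (hs : Lab U s i j) (hij : i ≠ j) (hy : y ∈ U i j) : s * y = y * s :=
  F.Uab hij s (hs.resolve_left hij) y hy

omit F in
theorem z2 : ∀ a b c : ZMod 2, a ≠ b → c = a ∨ c = b := by decide

omit F in
theorem z2c : ∀ a : ZMod 2, a = 0 ∨ a = 1 := by decide

omit F in
theorem z2' : ∀ a b : ZMod 2, a ≠ b → a = b + 1 := by decide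

/-- **(3.1)**: `Σ_{X | Xᶜ} = ⟨v_X⟩` -/
theorem two_block (hC : ThC ε U) {c : Fin n → ZMod 2} {s : G} (hsK : s ∈ KK ε) (hij : i ≠ j) (hc : c i = c j)
    (hs : ∀ a b, c a = c b → Lab U s a b) : s = 1 ∨ s = ε c := by
  have h1 : ∀ a b, a ≠ b → Cen U s a b := by
    intro a b hab y hy
    have hyK := F.UK hab hy
    by_cases hcab : c a = c b
    · exact F.comm_of_lab (hs a b hcab) hab hy
    · refine cm_one_iff.1 (F.star (i := a) fun d => ?_)
      rcases z2 (c a) (c b) (c d) hcab with h | h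
      · exact F.lab_cm_left (hs a d h.symm) hyK
      · exact F.lab_trans (F.lab_cm_right hsK (Or.inr hy)) (F.lab_cm_left (hs b d h.symm) hyK)
  obtain ⟨x, -, -, rfl⟩ := F.four_all hC hij ((hs i j hc).resolve_left hij) fun k hki _ => h1 i k hki.symm
  have h2 : ∀ a b, c a = c b → x a = x b := fun a b hab => (F.lab_e x).1 (hs a b hab)
  by_cases hconst : ∀ a, c a = c i
  · left
    have h3 : ∀ a, x a = x i := fun a => h2 a i (hconst a)
    rcases z2c (x i) with h4 | h4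
    · have : x = 0 := funext fun a => by rw [h3 a, h4]; rfl
      rw [this, F.zero]
    · have : x = 1 := funext fun a => by rw [h3 a, h4]; rfl
      rw [this, F.eone]
  · push Not at hconst
    obtain ⟨d, hd⟩ := hconst
    by_cases hxd : x d = x i
    · left
      have h3 : ∀ a, x a = x i := by
        intro a
        rcases z2 _ _ (c a) hd with h | h
        · rw [h2 a d h, hxd]
        · exact h2 a i h
      rcases z2c (x i) with h4 | h4
      · have : x = 0 := funext fun a => by rw [h3 a, h4]; rfl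
        rw [this, F.zero]
      · have : x = 1 := funext fun a => by rw [h3 a, h4]; rfl
        rw [this, F.eone]
    · right
      have key : ∀ a b c d : ZMod 2, a ≠ b → c ≠ d → a + c = b + d := by decide
      have h3 : ∀ a, x a + c a = x i + c i := by
        intro a
        rcases z2 _ _ (c a) hd with h | h
        · rw [h2 a d h, h]
          exact key _ _ _ _ hxd hd
        · rw [h2 a i h, h]
      rcases z2c (x i + c i) with h4 | h4
      · have h5 : x + c = 0 := funext fun a => by rw [Pi.add_apply, h3 a, h4]; rfl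
        rw [eq_of_add_eq_zero h5]
      · have h5 : x + (c + 1) = 0 := by
          rw [← add_assoc]
          have : x + c = 1 := funext fun a => by rw [Pi.add_apply, h3 a, h4]; rfl
          rw [this, add_self]
        rw [eq_of_add_eq_zero h5, F.add, F.eone, mul_one]

/-! ### (5) -/

/-- **(5)**: `[Σ_PP, Q_pk ∩ C(V)] ≤ ⟨v⟩ Σ_{PP ∨ pk}`, `PP = Lab U s`, `v = ε c` constant on the blocks, separating `p`, `k` -/
theorem five (hij : i ≠ j) (hki : k ≠ i) (hkj : k ≠ j) {s q : G} (hs : s ∈ U i k) (hq : q ∈ Q i j)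
    (hqK : q ∈ KK ε) {c : Fin n → ZMod 2} (hc : ∀ a b, Lab U s a b → c a = c b) (hne : c i ≠ c j) :
    ∃ c', (c' = 0 ∨ c' = c) ∧ (∀ a b, Lab U s a b → Lab U (s⁻¹ * cj q s * ε c') a b) ∧
      s⁻¹ * cj q s * ε c' ∈ U i j := by
  have hsK := F.UK hki.symm hs
  have h0 : ∀ a b, Lab U s a b → Lab U (s⁻¹ * cj q s) a b := fun a b h =>
    lab_mul (lab_inv h) (by
      have := F.lab_cj (mem_KK.1 hqK) h
      exact this)
  obtain ⟨-, h1 | h1⟩ := F.uq hij hki hkj hs hq hqK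
  · refine ⟨0, Or.inl rfl, ?_, ?_⟩
    · intro a b h
      rw [F.zero, mul_one]
      exact h0 a b h
    · rw [F.zero, mul_one]
      exact h1
  · refine ⟨c, Or.inr rfl, fun a b h => lab_mul (h0 a b h) ((F.lab_e c).2 (hc a b h)), ?_⟩
    have h2 : zz ε j * ε c ∈ U i j := by
      change ε _ * ε c ∈ U i j
      rw [← F.add, F.eU hij, Pi.add_apply, Pi.add_apply, Pi.single_eq_of_ne hij, Pi.single_eq_same, zero_add,
        add_comm]
      exact z2' _ _ hne
    have h3 := mul_mem h1 h2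
    rwa [mul_assoc, ← mul_assoc (zz ε j), F.z_sq, one_mul] at h3

/-- `s ∈ C_G(V) - V` with a maximal partition -/
structure IsMax (ε : (Fin n → ZMod 2) → G) (U : Fin n → Fin n → Subgroup G) (s : G) : Prop where
  mem : s ∈ KK ε
  notV : ∀ x, s ≠ ε x
  max : ∀ t ∈ KK ε, (∀ a b, Lab U s a b → Lab U t a b) → (∃ a b, Lab U t a b ∧ ¬ Lab U s a b) → ∃ x, t = ε x

omit F in
/-- every element of `C_G(V) - V` has one with a coarser, maximal partition -/
theorem exists_isMax {s : G} (hs : s ∈ KK ε) (hV : ∀ x, s ≠ ε x) :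
    ∃ t, IsMax ε U t ∧ ∀ a b, Lab U s a b → Lab U t a b := by
  classical
  let f : G → ℕ := fun t => (Finset.univ.filter fun p : Fin n × Fin n => Lab U t p.1 p.2).card
  have hb : ∀ t, f t ≤ Fintype.card (Fin n × Fin n) := fun t => Finset.card_le_univ _
  have key : ∀ N : ℕ, ∀ s : G, s ∈ KK ε → (∀ x, s ≠ ε x) → Fintype.card (Fin n × Fin n) - f s = N →
      ∃ t, IsMax ε U t ∧ ∀ a b, Lab U s a b → Lab U t a b := by
    intro N
    induction N using Nat.strong_induction_on with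
    | _ N ih =>
      intro s hs hV hN
      by_cases hm : IsMax ε U s
      · exact ⟨s, hm, fun _ _ h => h⟩
      · have : ¬ ∀ t ∈ KK ε, (∀ a b, Lab U s a b → Lab U t a b) → (∃ a b, Lab U t a b ∧ ¬ Lab U s a b) →
            ∃ x, t = ε x := fun h => hm ⟨hs, hV, h⟩
        push Not at this
        obtain ⟨t, ht, h1, ⟨a, b, h2, h3⟩, h4⟩ := this
        have hlt : f s < f t := by
          refine Finset.card_lt_card (Finset.ssubset_iff_subset_ne.2 ⟨?_, ?_⟩)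
          · intro p hp
            rw [Finset.mem_filter] at hp ⊢
            exact ⟨hp.1, h1 _ _ hp.2⟩
          · intro he
            have h5 : ((a, b) : Fin n × Fin n) ∈ Finset.univ.filter fun p : Fin n × Fin n => Lab U s p.1 p.2 := by
              rw [he, Finset.mem_filter]
              exact ⟨Finset.mem_univ _, h2⟩
            exact h3 (Finset.mem_filter.1 h5).2
        have := hb t
        obtain ⟨t', ht', h5⟩ := ih _ (by omega) t ht h4 rfl
        exact ⟨t', ht', fun a b h => h5 a b (h1 a b h)⟩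
  exact key _ s hs hV rfl

/-- `[s, U_ab] ≤ V` -/
theorem max_cm {s : G} (h : IsMax ε U s) (hij : i ≠ j) {y : G} (hy : y ∈ U i j) : ∃ x, cm s y = ε x := by
  have hyK := F.UK hij hy
  by_cases hl : Lab U s i j
  · exact ⟨0, by rw [F.zero, cm_one_iff]; exact F.comm_of_lab hl hij hy⟩
  · exact h.max _ (F.cmK h.mem hyK) (fun a b hab => F.lab_cm_left hab hyK)
      ⟨i, j, F.lab_cm_right h.mem (Or.inr hy), hl⟩

/-- a function constant on the blocks which separates two blocks -/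
theorem exists_sep {s : G} {x y : Fin n} (hxy : ¬ Lab U s x y) :
    ∃ c : Fin n → ZMod 2, (∀ a b, Lab U s a b → c a = c b) ∧ c x ≠ c y := by
  classical
  refine ⟨fun a => if Lab U s x a then 1 else 0, fun a b hab => ?_, ?_⟩
  · by_cases h : Lab U s x a
    · have h' : Lab U s x b := F.lab_trans h hab
      simp only [h, h', if_true]
    · have h' : ¬ Lab U s x b := fun h' => h (F.lab_trans h' (F.lab_symm hab))
      simp only [h, h', if_false]
  · simp only [lab_refl, if_true, hxy, if_false]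
    decide

/-- `[s, U_xy] ≠ 1` for `x`, `y` in different blocks, the block of `x` being not a point -/
theorem max_not_cen (hC : ThC ε U) {s : G} (h : IsMax ε U s) (hik : i ≠ k) (hs : s ∈ U i k)
    (hl : ¬ Lab U s i j) : ¬ Cen U s i j := by
  intro hc
  have hij : i ≠ j := fun h => hl (Or.inl h)
  have hkj : k ≠ j := by
    rintro rfl
    exact hl (Or.inr hs)
  obtain ⟨c, hc1, hc2⟩ := F.exists_sep hl
  rcases hC hij hik.symm hkj s hs hc with h1 | h1
  · exact hl (Or.inr h1)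
  · have h2 : zz ε j * ε c ∈ U i j := by
      change ε _ * ε c ∈ U i j
      rw [← F.add, F.eU hij, Pi.add_apply, Pi.add_apply, Pi.single_eq_of_ne hij, Pi.single_eq_same, zero_add,
        add_comm]
      exact z2' _ _ hc2
    have h3 := mul_mem h1 h2
    rw [mul_assoc, ← mul_assoc (zz ε j), F.z_sq, one_mul] at h3
    obtain ⟨x, hx⟩ := h.max (s * ε c) (mul_mem h.mem (F.eK c))
      (fun a b hab => lab_mul hab ((F.lab_e c).2 (hc1 a b hab))) ⟨i, j, Or.inr h3, hl⟩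
    refine h.notV (x + c) ?_
    rw [F.add, ← hx, mul_assoc, F.esq, mul_one]

/-- `s` centralises `[U_ab, U_cd]` -/
theorem max_comm {s : G} (h : IsMax ε U s) {a b c d : Fin n} (hab : a ≠ b) (hcd : c ≠ d) {x y : G}
    (hx : x ∈ U a b) (hy : y ∈ U c d) : s * cm x y = cm x y * s := by
  obtain ⟨f, hf⟩ := F.max_cm h hab hx
  obtain ⟨g, hg⟩ := F.max_cm h hcd hy
  have hxK := F.UK hab hx
  have hyK := F.UK hcd hy
  apply comm_of_cj
  have e1 : cj s x = ε f * x := by rw [cj_eq_cm, hf]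
  have e2 : cj s y = ε g * y := by rw [cj_eq_cm, hg]
  have e3 : cj s (cm x y) = cm (cj s x) (cj s y) := by unfold cj cm; group
  rw [e3, e1, e2]
  unfold cm
  rw [mul_inv_rev, mul_inv_rev]
  calc ε f * x * (ε g * y) * (x⁻¹ * (ε f)⁻¹) * (y⁻¹ * (ε g)⁻¹)
      = ε f * (x * ε g) * y * x⁻¹ * ((ε f)⁻¹ * y⁻¹) * (ε g)⁻¹ := by group
    _ = ε f * (ε g * x) * y * x⁻¹ * (y⁻¹ * (ε f)⁻¹) * (ε g)⁻¹ := by
        rw [Ke hxK g, F.einv f, Ke (inv_mem hyK) f]
    _ = (ε f * ε g) * (x * y * x⁻¹ * y⁻¹ * ((ε f)⁻¹ * (ε g)⁻¹)) := by group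
    _ = x * y * x⁻¹ * y⁻¹ * ((ε f)⁻¹ * (ε g)⁻¹) * (ε f * ε g) := by
        rw [← F.add, Ke (g := x * y * x⁻¹ * y⁻¹ * ((ε f)⁻¹ * (ε g)⁻¹))]
        exact mul_mem (mul_mem (mul_mem (mul_mem hxK hyK) (inv_mem hxK)) (inv_mem hyK))
          (mul_mem (inv_mem (F.eK f)) (inv_mem (F.eK g)))
    _ = x * y * x⁻¹ * y⁻¹ := by
        rw [F.ecomm f g]
        group

end Fr

end Cfsg.Agent.Omega.NSix.Engine

end
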