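import Cfsg.Agent.Mrg.Omega.TTn.Dih
import Cfsg.Agent.Mrg.Omega.S5.Pair
import Cfsg.Agent.Mrg.Omega.NSix.TkPair
import Cfsg.Agent.Mrg.Omega.S5.Syl

section


/-!
# T-T, `n` not 2-central: the normal form ((B2) of #13542)

`exists_base`: a labelled T-T pair (`Main.LabTwo` with `m = m' = 2`, `TwoAct` both ways) with `n` not
2-central is, after replacing `P₂` by a conjugate under `N_G(S)`, a `Base`.
-/

set_option autoImplicit false
set_option linter.unusedSectionVars false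

namespace Cfsg.Agent.Omega.TTn

open Subgroup Cfsg Cfsg.Agent.ZN Cfsg.Agent.ZN.ChoiceBase
open Cfsg.Agent.Omega.S5.Mod Cfsg.Agent.Omega.S5.TT
open scoped commutatorElement
open Cfsg.Agent.Omega.S5.TT.Pos (na ns as sn n_ne s_ne a_ne n_ne_a n_ne_s a_ne_s e_sq' mem_C)
open Cfsg.Agent.MinSimple.VModule (o2_isPGroup le_o2 o2_le le_normalizer_o2 o2_le_of_sylow
  normalizer_le_normalizer_zc)

universe u

variable {G : Type u} [Group G]

/-! ### Sylow's theorem -/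

/-- Sylow's theorem in `N`, for a subgroup `T` with `|N : T|` odd. -/
theorem exists_conj_le_of_odd_relIndex [Finite G] {N T X : Subgroup G} (hT : IsPGroup 2 T)
    (hd : ¬ 2 ∣ T.relIndex N) (hX : IsPGroup 2 X) (hXN : X ≤ N) :
    ∃ c ∈ N, ∀ x ∈ X, c * x * c⁻¹ ∈ T := by
  have : Fact (Nat.Prime 2) := ⟨Nat.prime_two⟩
  have hX' : IsPGroup 2 (X.subgroupOf N) := hX.comap_subtype
  obtain ⟨S2, hS2⟩ := hX'.exists_le_sylow
  obtain ⟨c, hc⟩ := MulAction.exists_smul_eq N S2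
    ((hT.comap_of_injective _ N.subtype_injective).toSylow hd)
  refine ⟨c, c.2, fun x hx => ?_⟩
  have h1 : (⟨x, hXN hx⟩ : N) ∈ (S2 : Subgroup N) := hS2 (Subgroup.mem_subgroupOf.mpr hx)
  have h2 : c * ⟨x, hXN hx⟩ * c⁻¹ ∈ ((c • S2 : Sylow 2 N) : Subgroup N) := by
    rw [Sylow.coe_subgroup_smul]
    exact Subgroup.smul_mem_pointwise_smul _ (MulAut.conj c) _ h1
  rw [hc] at h2
  exact mem_subgroupOf.1 h2

/-! ### One module -/

namespace Dih

variable {S : Sylow 2 G} {V L : Subgroup G} {M : FiveMod V L} (t : Dih S M)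
include t

theorem card_S [Finite G] : Nat.card (S : Subgroup G) =
    2 * Nat.card ((S : Subgroup G) ⊓ centralizer ({M.e nn} : Set G) : Subgroup G) := by
  obtain ⟨g, hgS, hg⟩ := t.exists_swap
  set T := (S : Subgroup G) ⊓ centralizer ({M.e nn} : Set G) with hT
  have h1 : (T.subgroupOf S).index = 2 := by
    rw [index_eq_two_iff]
    refine ⟨⟨g, hgS⟩, fun x => ?_⟩
    have hgT : g ∉ T := by
      intro h0
      have h2 := Dih.tt_n hg
      rw [mem_C.1 h0.2, mul_inv_cancel_right] at h2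
      exact n_ne_a M h2
    by_cases hx : (x : G) ∈ T
    · right
      refine ⟨mem_subgroupOf.2 hx, fun h0 => hgT ?_⟩
      have h2 := mem_subgroupOf.1 h0
      have h3 := mul_mem (inv_mem hx) h2
      have h4 : (x : G)⁻¹ * ((x * ⟨g, hgS⟩ : (S : Subgroup G)) : G) = g := by
        rw [coe_mul]; group
      rwa [h4] at h3
    · left
      refine ⟨mem_subgroupOf.2 ?_, fun h0 => hx (mem_subgroupOf.1 h0)⟩
      rcases t.mem_or hgS hg x.2 with h2 | h2
      · exact absurd h2 hx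
      · exact h2
  have h2 := (T.subgroupOf (S : Subgroup G)).card_mul_index
  rw [h1] at h2
  have h3 : Nat.card (T.subgroupOf (S : Subgroup G)) = Nat.card T :=
    Nat.card_congr (subgroupOfEquivOfLe inf_le_left).toEquiv
  rw [← h2, h3, mul_comm]

/-- `T = C_S(n)` is a Sylow 2-subgroup of `C_G(n)`, if `n` is not 2-central. -/
theorem not_dvd [Finite G] (nc : ∀ P : Sylow 2 G, ¬ (P : Subgroup G) ≤ centralizer ({M.e nn} : Set G)) :
    ¬ 2 ∣ ((S : Subgroup G) ⊓ centralizer ({M.e nn} : Set G)).relIndex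
      (centralizer ({M.e nn} : Set G)) := by
  have hf : Fact (Nat.Prime 2) := ⟨Nat.prime_two⟩
  set N := centralizer ({M.e nn} : Set G) with hN
  set T := (S : Subgroup G) ⊓ N with hT
  have hTp : IsPGroup 2 (T.subgroupOf N) :=
    (S.isPGroup'.to_le inf_le_left).comap_of_injective _ N.subtype_injective
  obtain ⟨P, hP⟩ := hTp.exists_le_sylow
  have hPG : IsPGroup 2 ((P : Subgroup N).map N.subtype) := P.isPGroup'.map _
  obtain ⟨R, hR⟩ := hPG.exists_le_sylow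
  have hlt : (P : Subgroup N).map N.subtype < (R : Subgroup G) := by
    refine lt_of_le_of_ne hR fun h0 => nc R ?_
    rw [← h0]
    exact map_subtype_le _
  have hcR : Nat.card (R : Subgroup G) = Nat.card (S : Subgroup G) :=
    Nat.card_congr (Sylow.equiv R S).toEquiv
  have h2 : 2 * Nat.card ((P : Subgroup N).map N.subtype) ≤ Nat.card (R : Subgroup G) := by
    obtain ⟨k, hk⟩ := card_dvd_of_le hR
    rw [hk, mul_comm]
    refine Nat.mul_le_mul_left _ ?_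
    rcases k with _ | _ | k
    · rw [mul_zero] at hk
      exact absurd hk Nat.card_pos.ne'
    · rw [zero_add, mul_one] at hk
      exact absurd (eq_of_le_of_card_ge hR hk.le) hlt.ne
    · omega
  have h3 : Nat.card ((P : Subgroup N).map N.subtype) = Nat.card (P : Subgroup N) :=
    Nat.card_congr (equivMapOfInjective _ _ N.subtype_injective).symm.toEquiv
  have h4 : Nat.card (T.subgroupOf N) = Nat.card T :=
    Nat.card_congr (subgroupOfEquivOfLe inf_le_right).toEquiv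
  have h5 : (P : Subgroup N) = T.subgroupOf N := by
    refine (eq_of_le_of_card_ge hP ?_).symm
    rw [h4, ← h3]
    have h6 := t.card_S
    rw [← hN, ← hT] at h6
    omega
  have h6 := P.not_dvd_index
  rw [h5] at h6
  exact h6

/-- Conjugating the module by an element of `N_G(S)`. -/
theorem cj [Finite G] {g : G} (hg : ∀ x ∈ (S : Subgroup G), g * x * g⁻¹ ∈ (S : Subgroup G)) :
    Dih S (M.cj g) := by
  have hgN : g ∈ normalizer ((S : Subgroup G) : Set G) := by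
    refine mem_normalizer_of_cj_le ?_
    rintro _ ⟨x, hx, rfl⟩
    exact hg x hx
  have hg' : ∀ x ∈ (S : Subgroup G), g⁻¹ * x * g ∈ (S : Subgroup G) := by
    intro x hx
    have := (mem_normalizer_iff.1 (inv_mem hgN) x).1 hx
    rwa [inv_inv] at this
  refine ⟨?_, ?_, ?_, ?_⟩
  · intro x hx
    rw [mem_cj]
    exact t.S_le (hg' x hx)
  · intro x hx
    rw [mem_cj]
    refine t.zS ?_
    obtain ⟨h1, h2, h3⟩ := MinSimple.VModule.mem_zc.1 hx
    refine MinSimple.VModule.mem_zc.2 ⟨hg' x h1, fun b hb => ?_, ?_⟩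
    · have h4 := h2 _ (hg b hb)
      calc b * (g⁻¹ * x * g) = g⁻¹ * (g * b * g⁻¹ * x) * g := by group
        _ = g⁻¹ * (x * (g * b * g⁻¹)) * g := by rw [h4]
        _ = g⁻¹ * x * g * b := by group
    · rw [pow_two] at h3 ⊢
      calc g⁻¹ * x * g * (g⁻¹ * x * g) = g⁻¹ * (x * x) * g := by group
        _ = 1 := by rw [h3]; group
  · intro x hx p hp
    exact t.d8 _ (hg' x hx) p (ind_of_cj hp)
  · intro p hp
    obtain ⟨b, hb, hi⟩ := t.d8' p hp
    exact ⟨_, hg b hb, M.cj_ind hi⟩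

/-- a conjugate of `s` is not `n` or `a` -/
theorem conj_s_ne [Finite G] (nc : ∀ P : Sylow 2 G, ¬ (P : Subgroup G) ≤ centralizer ({M.e nn} : Set G))
    {x : G} (hx : ∃ P : Sylow 2 G, (P : Subgroup G) ≤ centralizer ({x} : Set G)) :
    x ≠ M.e nn ∧ x ≠ M.e aa := by
  obtain ⟨P, hP⟩ := hx
  refine ⟨?_, ?_⟩
  · rintro rfl
    exact nc P hP
  · rintro rfl
    obtain ⟨g, hgS, hg⟩ := t.exists_swap
    refine nc (g • P) ?_
    rintro _ ⟨y, hy, rfl⟩
    have h1 := mem_C.1 (hP hy)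
    have h2 : g * M.e aa * g⁻¹ = M.e nn := tt_a hg
    refine mem_C.2 ?_
    change g * y * g⁻¹ * M.e nn = M.e nn * (g * y * g⁻¹)
    rw [← h2]
    calc g * y * g⁻¹ * (g * M.e aa * g⁻¹) = g * (y * M.e aa) * g⁻¹ := by group
      _ = g * (M.e aa * y) * g⁻¹ := by rw [h1]
      _ = g * M.e aa * g⁻¹ * (g * y * g⁻¹) := by group

end Dih

/-! ### Two modules with the same `n` -/

theorem exists_align [Finite G] {S : Sylow 2 G} {V₁ L₁ V₂ L₂ : Subgroup G} {M₁ : FiveMod V₁ L₁}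
    {M₂ : FiveMod V₂ L₂} (t₁ : Dih S M₁) (t₂ : Dih S M₂) {y : G}
    (hy : y * M₂.e nn * y⁻¹ = M₁.e nn)
    (nc : ∀ P : Sylow 2 G, ¬ (P : Subgroup G) ≤ centralizer ({M₁.e nn} : Set G)) :
    ∃ g h : G, y = h * g ∧ (∀ x ∈ (S : Subgroup G), g * x * g⁻¹ ∈ (S : Subgroup G)) ∧
      h * M₁.e nn = M₁.e nn * h ∧ g * M₂.e nn * g⁻¹ = M₁.e nn ∧ g * M₂.e aa * g⁻¹ = M₁.e aa := by
  set N := centralizer ({M₁.e nn} : Set G) with hN
  set T := (S : Subgroup G) ⊓ N with hT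
  set T₂ := (S : Subgroup G) ⊓ centralizer ({M₂.e nn} : Set G) with hT₂
  have hcard : Nat.card T = Nat.card T₂ := by
    have h1 := t₁.card_S
    have h2 := t₂.card_S
    rw [← hN, ← hT] at h1
    rw [← hT₂] at h2
    omega
  have hTp : IsPGroup 2 T := S.isPGroup'.to_le inf_le_left
  have hT₂p : IsPGroup 2 T₂ := S.isPGroup'.to_le inf_le_left
  -- conjugate `T₂ ^ y` to `T` in `N`
  have h1 : cj y T₂ ≤ N := by
    rintro _ ⟨x, hx, rfl⟩
    refine mem_C.2 ?_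
    have h2 := mem_C.1 hx.2
    change y * x * y⁻¹ * M₁.e nn = M₁.e nn * (y * x * y⁻¹)
    rw [← hy]
    calc y * x * y⁻¹ * (y * M₂.e nn * y⁻¹) = y * (x * M₂.e nn) * y⁻¹ := by group
      _ = y * (M₂.e nn * x) * y⁻¹ := by rw [h2]
      _ = y * M₂.e nn * y⁻¹ * (y * x * y⁻¹) := by group
  obtain ⟨c, hcN, hc⟩ := exists_conj_le_of_odd_relIndex hTp (t₁.not_dvd nc)
    (isPGroup_cj y hT₂p) h1
  have hcn : c * M₁.e nn = M₁.e nn * c := mem_C.1 hcN
  obtain ⟨k, hk⟩ : ∃ k, k = c * y := ⟨_, rfl⟩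
  have hkT : cj k T₂ = T := by
    refine eq_of_le_of_card_ge ?_ ?_
    · rintro _ ⟨x, hx, rfl⟩
      have h2 := hc (y * x * y⁻¹) ⟨x, hx, rfl⟩
      have h3 : c * (y * x * y⁻¹) * c⁻¹ = k * x * k⁻¹ := by rw [hk]; group
      rw [h3] at h2
      exact h2
    · rw [hcard]
      exact (Nat.card_congr (T₂.equivMapOfInjective _ (MulAut.conj k).injective).toEquiv).le
  have hkn : k * M₂.e nn * k⁻¹ = M₁.e nn := by
    have h2 : k * M₂.e nn * k⁻¹ = c * (y * M₂.e nn * y⁻¹) * c⁻¹ := by rw [hk]; group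
    rw [h2, hy, hcn, mul_inv_cancel_right]
  -- `k s₂ k⁻¹ = s`
  have hks : k * M₂.e ss * k⁻¹ = M₁.e ss := by
    have h2 : k * M₂.e ss * k⁻¹ ∈ zc T := by
      obtain ⟨h3, h4, h5⟩ := MinSimple.VModule.mem_zc.1 t₂.s_mem_zT
      refine MinSimple.VModule.mem_zc.2 ⟨?_, ?_, ?_⟩
      · rw [← hkT]; exact ⟨_, h3, rfl⟩
      · intro b hb
        rw [← hkT] at hb
        obtain ⟨b', hb', rfl⟩ := hb
        have h6 := h4 b' hb'
        change k * b' * k⁻¹ * (k * M₂.e ss * k⁻¹) = k * M₂.e ss * k⁻¹ * (k * b' * k⁻¹)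
        calc k * b' * k⁻¹ * (k * M₂.e ss * k⁻¹) = k * (b' * M₂.e ss) * k⁻¹ := by group
          _ = k * (M₂.e ss * b') * k⁻¹ := by rw [h6]
          _ = k * M₂.e ss * k⁻¹ * (k * b' * k⁻¹) := by group
      · rw [pow_two] at h5 ⊢
        calc k * M₂.e ss * k⁻¹ * (k * M₂.e ss * k⁻¹) = k * (M₂.e ss * M₂.e ss) * k⁻¹ := by group
          _ = 1 := by rw [h5]; group
    have h3 : ∃ P : Sylow 2 G, (P : Subgroup G) ≤ centralizer ({k * M₂.e ss * k⁻¹} : Set G) := by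
      refine ⟨k • S, ?_⟩
      rintro _ ⟨x, hx, rfl⟩
      refine mem_C.2 ?_
      have h4 := t₂.S_comm hx
      change k * x * k⁻¹ * (k * M₂.e ss * k⁻¹) = k * M₂.e ss * k⁻¹ * (k * x * k⁻¹)
      calc k * x * k⁻¹ * (k * M₂.e ss * k⁻¹) = k * (x * M₂.e ss) * k⁻¹ := by group
        _ = k * (M₂.e ss * x) * k⁻¹ := by rw [h4]
        _ = k * M₂.e ss * k⁻¹ * (k * x * k⁻¹) := by group
    obtain ⟨h4, h5⟩ := t₁.conj_s_ne nc h3
    rcases t₁.zT_le h2 with h6 | h6 | h6 | h6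
    · exfalso
      refine s_ne M₂ ?_
      rw [mul_inv_eq_one] at h6
      exact mul_eq_left.mp h6
    · exact absurd h6 h4
    · exact absurd h6 h5
    · exact h6
  -- Sylow in `N_G(T)`
  have hSH : (S : Subgroup G) ≤ normalizer (T : Set G) := t₁.S_le_normalizer_T
  have hS₂H : cj k (S : Subgroup G) ≤ normalizer (T : Set G) := by
    rw [← hkT, ← cj_normalizer]
    exact cj_mono k t₂.S_le_normalizer_T
  obtain ⟨c', hc'H, hc'⟩ := exists_conj_le_sylow S _ _ hSH (isPGroup_cj k S.isPGroup') hS₂H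
  have hc'z : ∀ {x : G}, x ∈ zc T → c' * x * c'⁻¹ ∈ zc T := by
    intro x hx
    have h2 := normalizer_le_normalizer_zc T hc'H
    exact (mem_normalizer_iff.1 h2 x).1 hx
  have hc's : c' * M₁.e ss * c'⁻¹ = M₁.e ss := by
    have h3 : ∃ P : Sylow 2 G, (P : Subgroup G) ≤ centralizer ({c' * M₁.e ss * c'⁻¹} : Set G) := by
      refine ⟨c' • S, ?_⟩
      rintro _ ⟨x, hx, rfl⟩
      refine mem_C.2 ?_
      have h4 := t₁.S_comm hx
      change c' * x * c'⁻¹ * (c' * M₁.e ss * c'⁻¹) = c' * M₁.e ss * c'⁻¹ * (c' * x * c'⁻¹)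
      calc c' * x * c'⁻¹ * (c' * M₁.e ss * c'⁻¹) = c' * (x * M₁.e ss) * c'⁻¹ := by group
        _ = c' * (M₁.e ss * x) * c'⁻¹ := by rw [h4]
        _ = c' * M₁.e ss * c'⁻¹ * (c' * x * c'⁻¹) := by group
    obtain ⟨h4, h5⟩ := t₁.conj_s_ne nc h3
    rcases t₁.zT_le (hc'z t₁.s_mem_zT) with h6 | h6 | h6 | h6
    · exfalso
      refine s_ne M₁ ?_
      rw [mul_inv_eq_one] at h6
      exact mul_eq_left.mp h6
    · exact absurd h6 h4
    · exact absurd h6 h5
    · exact h6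
  -- the element `r⁻¹`
  obtain ⟨r, hrS, hrn, hrs⟩ : ∃ r : G, (∀ x ∈ cj k (S : Subgroup G), r * x * r⁻¹ ∈ (S : Subgroup G)) ∧
      r * M₁.e nn * r⁻¹ = M₁.e nn ∧ r * M₁.e ss * r⁻¹ = M₁.e ss := by
    rcases t₁.zT_le (hc'z t₁.n_mem_zT) with h6 | h6 | h6 | h6
    · exfalso
      refine n_ne M₁ ?_
      rw [mul_inv_eq_one] at h6
      exact mul_eq_left.mp h6
    · exact ⟨c', hc', h6, hc's⟩
    · obtain ⟨x, hxS, hx⟩ := t₁.exists_swap
      refine ⟨x * c', fun z hz => ?_, ?_, ?_⟩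
      · have h7 := mul_mem (mul_mem hxS (hc' z hz)) (inv_mem hxS)
        have h8 : x * (c' * z * c'⁻¹) * x⁻¹ = x * c' * z * (x * c')⁻¹ := by group
        rwa [h8] at h7
      · calc x * c' * M₁.e nn * (x * c')⁻¹ = x * (c' * M₁.e nn * c'⁻¹) * x⁻¹ := by group
          _ = M₁.e nn := by rw [h6, Dih.tt_a hx]
      · calc x * c' * M₁.e ss * (x * c')⁻¹ = x * (c' * M₁.e ss * c'⁻¹) * x⁻¹ := by group
          _ = M₁.e ss := by rw [hc's, Dih.tt_s hx]
    · exfalso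
      have h7 : c' * M₁.e nn * c'⁻¹ = c' * M₁.e ss * c'⁻¹ := h6.trans hc's.symm
      exact n_ne_s M₁ (mul_left_cancel (mul_right_cancel h7))
  have hrn' : r * M₁.e nn = M₁.e nn * r := by rwa [mul_inv_eq_iff_eq_mul] at hrn
  refine ⟨r * k, y * (r * k)⁻¹, by group, ?_, ?_, ?_, ?_⟩
  · intro x hx
    have h2 := hrS (k * x * k⁻¹) ⟨x, hx, rfl⟩
    have h3 : r * (k * x * k⁻¹) * r⁻¹ = r * k * x * (r * k)⁻¹ := by group
    rwa [h3] at h2
  · have h2 : y * (r * k)⁻¹ = c⁻¹ * r⁻¹ := by rw [hk]; group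
    rw [h2]
    have h3 : (r * c) * M₁.e nn = M₁.e nn * (r * c) := by
      rw [mul_assoc, hcn, ← mul_assoc, hrn', mul_assoc]
    have h4 : c⁻¹ * r⁻¹ = (r * c)⁻¹ := by group
    rw [h4, inv_mul_eq_iff_eq_mul, ← mul_assoc, h3, mul_inv_cancel_right]
  · calc r * k * M₂.e nn * (r * k)⁻¹ = r * (k * M₂.e nn * k⁻¹) * r⁻¹ := by group
      _ = M₁.e nn := by rw [hkn, hrn]
  · rw [← ns M₂, ← ns M₁]
    calc r * k * (M₂.e nn * M₂.e ss) * (r * k)⁻¹ =
          (r * (k * M₂.e nn * k⁻¹) * r⁻¹) * (r * (k * M₂.e ss * k⁻¹) * r⁻¹) := by group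
      _ = M₁.e nn * M₁.e ss := by rw [hkn, hks, hrn, hrs]

/-! ### One side of a T-T pair -/

theorem swap_d8 : ∀ i j : Fin 5, i ≠ j → (Equiv.swap i j : Equiv.Perm (Fin 5)) * dd = dd * Equiv.swap i j →
    (Equiv.swap i j : Equiv.Perm (Fin 5)) = Equiv.swap 0 1 ∨
      (Equiv.swap i j : Equiv.Perm (Fin 5)) = Equiv.swap 2 3 := by
  decide +kernel

theorem exists_one_side [Finite G] {S : Sylow 2 G} {V L W : Subgroup G} (M : FiveMod V L)
    (hS : (S : Subgroup G) ≤ L) (hz : zc (S : Subgroup G) ≤ V) (hWS : W ≤ (S : Subgroup G))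
    (hsw : ∀ w ∈ W, ∀ p, M.Ind w p → p = 1 ∨ p.IsSwap)
    (htwo : Cfsg.Agent.Omega.S5.Types.TwoAct W V) (hne : ¬ W ≤ centralizer (V : Set G)) :
    ∃ M' : FiveMod V L, Dih S M' ∧ (∀ w ∈ W, ∃ p, Tp p ∧ M'.Ind w p) ∧
      ∃ w ∈ W, M'.Ind w (Equiv.swap 0 1) := by
  obtain ⟨σ, hd, hd'⟩ := Cfsg.Agent.Omega.S5.Types.exists_relabel M S hS
  have t : Dih S (M.relabel σ) := ⟨hS, hz, hd, hd'⟩
  -- the action of `W`
  obtain ⟨w₀, hw₀, hw₀V⟩ := SetLike.not_le_iff_exists.mp hne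
  obtain ⟨p₀, hp₀⟩ := (M.relabel σ).exists_ind (hS (hWS hw₀))
  have hp₀d := hd w₀ (hWS hw₀) p₀ hp₀
  have hp₀s : p₀.IsSwap := by
    rcases hsw w₀ hw₀ _ (ind_of_relabel σ hp₀) with h1 | ⟨i, j, hij, h1⟩
    · exfalso
      have h2 : p₀ = 1 := by
        have := congrArg (fun x => σ⁻¹ * x * σ) h1
        simpa [mul_assoc] using this
      rw [h2] at hp₀
      exact hw₀V (FiveMod.ind_one_iff.1 hp₀)
    · refine ⟨σ⁻¹ i, σ⁻¹ j, fun h => hij (σ⁻¹.injective h), ?_⟩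
      have h2 : p₀ = σ⁻¹ * (σ * p₀ * σ⁻¹) * σ⁻¹⁻¹ := by group
      rw [h2, h1, Equiv.swap_apply_apply]
  have hW : ∀ w ∈ W, (M.relabel σ).Ind w 1 ∨ (M.relabel σ).Ind w p₀ := by
    intro w hw
    by_cases hwV : w ∈ centralizer (V : Set G)
    · exact Or.inl (FiveMod.ind_one_iff.2 hwV)
    · right
      have h1 := htwo w₀ hw₀ w hw hw₀V hwV
      have h2 := hp₀.mul (FiveMod.ind_one_iff (M := M.relabel σ) |>.2 h1)
      rwa [mul_inv_cancel_left, mul_one] at h2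
  obtain ⟨i, j, hij, rfl⟩ := hp₀s
  rcases swap_d8 i j hij hp₀d with h1 | h1
  · rw [h1] at hW hp₀
    refine ⟨M.relabel σ, t, fun w hw => ?_, w₀, hw₀, hp₀⟩
    rcases hW w hw with h2 | h2
    · exact ⟨1, Or.inl rfl, h2⟩
    · exact ⟨_, Or.inr rfl, h2⟩
  · rw [h1] at hW hp₀
    have e : tt⁻¹ * Equiv.swap 2 3 * tt = (Equiv.swap 0 1 : Equiv.Perm (Fin 5)) := by decide
    refine ⟨(M.relabel σ).relabel tt, t.relabel, fun w hw => ?_, w₀, hw₀, ?_⟩
    · rcases hW w hw with h2 | h2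
      · refine ⟨1, Or.inl rfl, ?_⟩
        have := relabel_ind tt h2
        rwa [show tt⁻¹ * 1 * tt = (1 : Equiv.Perm (Fin 5)) by group] at this
      · refine ⟨_, Or.inr rfl, ?_⟩
        have := relabel_ind tt h2
        rwa [e] at this
    · have := relabel_ind tt hp₀
      rwa [e] at this

/-- `[V, V'] = ⟨n⟩` from both sides. -/
theorem comm_eq {V L W K : Subgroup G} {M : FiveMod V L} {M' : FiveMod W K}
    (hex : ∃ w ∈ W, M.Ind w (Equiv.swap 0 1)) (hact : ∀ v ∈ V, ∃ p, Tp p ∧ M'.Ind v p) :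
    M'.e nn = M.e nn := by
  obtain ⟨w, hw, hi⟩ := hex
  obtain ⟨p, hp, hj⟩ := hact _ (M.e_mem mm)
  obtain ⟨u, rfl⟩ := (M'.mem_iff w).1 hw
  have h1 := hi.comm_eq mm
  have h2 := hj.comm_eq u
  have h3 : M.e (mm ∘ (Equiv.swap 0 1 : Equiv.Perm (Fin 5)).symm + mm) = M.e nn := by
    rw [M.e_eq_iff]; decide
  rw [h3] at h1
  have h4 : M.e mm * M'.e u * (M.e mm)⁻¹ * (M'.e u)⁻¹ = M.e nn := by
    have h5 : M.e mm * M'.e u * (M.e mm)⁻¹ * (M'.e u)⁻¹ =
        (M'.e u * M.e mm * (M'.e u)⁻¹ * (M.e mm)⁻¹)⁻¹ := by group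
    rw [h5, h1, M.e_inv]
  rw [h4] at h2
  rcases hp.comm u with h5 | h5
  · exfalso
    rw [(M'.ker _).2 h5] at h2
    exact n_ne M h2
  · rw [h2, M'.e_eq_iff.2 h5]

/-- `[V, V'] ≤ ⟨n⟩` -/
theorem comm_le {V L W : Subgroup G} {M : FiveMod V L} (hact : ∀ w ∈ W, ∃ p, Tp p ∧ M.Ind w p)
    {P : Subgroup G} (hP : P ≤ centralizer ({M.e nn} : Set G)) :
    P ≤ centralizer ((⁅V, W⁆ : Subgroup G) : Set G) := by
  rw [le_centralizer_iff, commutator_le]
  intro v hv w hw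
  obtain ⟨p, hp, hi⟩ := hact w hw
  obtain ⟨x, rfl⟩ := (M.mem_iff v).1 hv
  have h1 : ⁅M.e x, w⁆ = M.e (x ∘ p.symm + x) := by
    rw [← M.e_inv (x ∘ p.symm + x), ← hi.comm_eq, commutatorElement_def]
    group
  rw [h1, mem_centralizer_iff]
  intro g hg
  rcases hp.comm x with h2 | h2
  · rw [(M.ker _).2 h2, mul_one, one_mul]
  · rw [M.e_eq_iff.2 h2]
    exact mem_C.1 (hP hg)

/-! ### The normal form -/

open Cfsg.Agent.Omega.S5 in
/-- **The normal form.** -/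
theorem exists_base [Finite G] (hG : IsCharacteristicTwoType G) {S : Sylow 2 G}
    {P₁ P₂ : Subgroup G} {y : G} {ε ε₂ : (Fin (2 ^ 2 + 1) → ZMod 2) → G}
    (h : Main.LabTwo S P₁ P₂ y 2 2 ε ε₂)
    (t1 : Types.TwoAct (cj y (zl (S : Subgroup G) P₂)) (zl (S : Subgroup G) P₁))
    (t2 : Types.TwoAct (zl (S : Subgroup G) P₁) (cj y (zl (S : Subgroup G) P₂)))
    (hC : ¬ Main.Cen (zl (S : Subgroup G) P₁) (cj y (zl (S : Subgroup G) P₂))) :
    ∃ (g k : G) (M₁ : FiveMod (zl (S : Subgroup G) P₁) P₁)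
      (M₂ : FiveMod (cj g (zl (S : Subgroup G) P₂)) (cj g P₂)),
      (∀ x ∈ (S : Subgroup G), g * x * g⁻¹ ∈ (S : Subgroup G)) ∧ Base S M₁ M₂ k := by
  obtain ⟨V, hV⟩ : ∃ V, V = zl (S : Subgroup G) P₁ := ⟨_, rfl⟩
  obtain ⟨V₂, hV₂⟩ : ∃ V₂, V₂ = zl (S : Subgroup G) P₂ := ⟨_, rfl⟩
  have hS : (S : Subgroup G) ≤ P₁ := h.pair.star₁.le
  have hS₂ : (S : Subgroup G) ≤ P₂ := h.pair.star₂.le
  have hz : zc (S : Subgroup G) ≤ V := hV ▸ MinSimple.VModule.zc_le_zl _ _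
  have hz₂ : zc (S : Subgroup G) ≤ V₂ := hV₂ ▸ MinSimple.VModule.zc_le_zl _ _
  have he : Def.EvenSet 5 V P₁ ε := hV ▸ h.even
  have he₂ : Def.EvenSet 5 V₂ P₂ ε₂ := hV₂ ▸ h.even₂
  have hle : cj y V₂ ≤ (S : Subgroup G) := hV₂ ▸ h.le
  have hge : V ≤ cj y (S : Subgroup G) := hV ▸ h.ge
  rw [← hV, ← hV₂] at t1 t2 hC
  rw [← hV, ← hV₂]
  have hne : ⁅V, cj y V₂⁆ ≠ ⊥ := by
    rw [hV, hV₂]; exact h.pair.ne
  -- the first side
  obtain ⟨M₁, s₁, a₁, e₁⟩ := exists_one_side (S := S) (OfEven.ofEven he) hS hz hle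
    (fun w hw p hp => Types.swap_of_pair hG S (OfEven.ofEven he) (OfEven.ofEven he₂) hS hS₂ hz
      (hle.trans hS) (hge.trans (cj_mono y hS₂)) hw hp) t1
    (fun h0 => hne (by rw [commutator_comm]; exact commutator_eq_bot_iff_le_centralizer.2 h0))
  -- the second side
  have hVy : cj y⁻¹ V ≤ (S : Subgroup G) := by rw [cj_le_iff, inv_inv]; exact hge
  have hV₂y : V₂ ≤ cj y⁻¹ (S : Subgroup G) := cj_le_iff.1 hle
  have t2' := t2.cj y⁻¹
  rw [cj_inv_cj] at t2'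
  obtain ⟨M₂, s₂, a₂, e₂⟩ := exists_one_side (S := S) (OfEven.ofEven he₂) hS₂ hz₂ hVy
    (fun w hw p hp => Types.swap_of_pair hG S (OfEven.ofEven he₂) (OfEven.ofEven he) hS₂ hS hz₂
      (hVy.trans hS₂) (hV₂y.trans (cj_mono y⁻¹ hS)) hw hp) t2'
    (fun h0 => hne (by
      refine commutator_eq_bot_iff_le_centralizer.2 ?_
      have h1 := cj_mono y h0
      rw [cj_cj_inv, cj_centralizer] at h1
      exact h1))
  -- `y n₂ y⁻¹ = n`
  have a₂' : ∀ v ∈ V, ∃ p, Tp p ∧ (M₂.cj y).Ind v p := by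
    intro v hv
    obtain ⟨p, hp, hi⟩ := a₂ (y⁻¹ * v * y) (by rw [mem_cj, inv_inv]; convert hv using 1; group)
    refine ⟨p, hp, ?_⟩
    have h1 := M₂.cj_ind (g := y) hi
    rwa [show y * (y⁻¹ * v * y) * y⁻¹ = v by group] at h1
  have hn : y * M₂.e nn * y⁻¹ = M₁.e nn := comm_eq (M := M₁) (M' := M₂.cj y) e₁ a₂'
  have nc : ∀ P : Sylow 2 G, ¬ (P : Subgroup G) ≤ centralizer ({M₁.e nn} : Set G) :=
    fun P hP => hC ⟨P, comm_le a₁ hP⟩
  obtain ⟨g, k, hy, hgS, hk, hgn, hga⟩ := exists_align s₁ s₂ hn nc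
  refine ⟨g, k, M₁, M₂.cj g, hgS, hG, s₁, s₂.cj hgS, hgn.symm, hga.symm, hk, ?_, ?_, ?_, nc⟩
  · rw [cj_cj, ← hy]
    exact a₁
  · intro v hv
    obtain ⟨p, hp, hi⟩ := a₂' v hv
    refine ⟨p, hp, fun x => ?_⟩
    have h1 := hi x
    rw [M₂.cj_e, M₂.cj_e] at h1
    change v * (k * (g * M₂.e x * g⁻¹) * k⁻¹) * v⁻¹ = k * (g * M₂.e (x ∘ p.symm) * g⁻¹) * k⁻¹
    calc v * (k * (g * M₂.e x * g⁻¹) * k⁻¹) * v⁻¹ = v * (y * M₂.e x * y⁻¹) * v⁻¹ := by rw [hy]; group
      _ = y * M₂.e (x ∘ p.symm) * y⁻¹ := h1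
      _ = k * (g * M₂.e (x ∘ p.symm) * g⁻¹) * k⁻¹ := by rw [hy]; group
  · rw [cj_cj, ← hy]
    exact e₁

/-- `C_G(Ω₁(Z(S))) = C_G(s)` -/
theorem Dih.cent_zc {S : Sylow 2 G} {V L : Subgroup G} {M : FiveMod V L} (t : Dih S M) :
    centralizer (zc (S : Subgroup G) : Set G) = centralizer ({M.e ss} : Set G) := by
  have hs : M.e ss ∈ zc (S : Subgroup G) :=
    MinSimple.VModule.mem_zc.2 ⟨t.V_le_S (M.e_mem _), fun b hb => t.S_comm hb, e_sq' M ss⟩
  refine le_antisymm (centralizer_le (Set.singleton_subset_iff.2 hs)) fun g hg => ?_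
  rw [mem_centralizer_iff]
  intro x hx
  rcases t.zS_le hx with rfl | rfl
  · rw [one_mul, mul_one]
  · exact (mem_C.1 hg).symm

/-- `AllIn S` : `V_P ≤ O₂(C_G(s))` -/
theorem Dih.le_Qs {S : Sylow 2 G} {V L : Subgroup G} {M : FiveMod V L} (t : Dih S M)
    (hV : V ≤ o2 (centralizer (zc (S : Subgroup G) : Set G))) : V ≤ Q (M.e ss) := by
  rwa [t.cent_zc] at hV

end Cfsg.Agent.Omega.TTn

end

section


/-!
# #15257 (4): `a` is the only element of `a ^ C_G(n)` centralised by `T`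
-/

set_option autoImplicit false
set_option linter.unusedSectionVars false

namespace Cfsg.Agent.Omega.TTn.Z.Fus

open Subgroup Cfsg Cfsg.Agent.ZN Cfsg.Agent.ZN.ChoiceBase
open Cfsg.Agent.Omega.S5.Mod Cfsg.Agent.Omega.S5.TT
open Cfsg.Agent.Omega.S5.TT.Pos (na ns as sn n_ne s_ne a_ne n_ne_a n_ne_s a_ne_s e_sq' mem_C)

/-! ### Groups of order not divisible by 4 -/

/-- two commuting involutions in a group of order not divisible by 4 are equal -/
theorem eq_of_comm {Q : Type*} [Group Q] {R : Subgroup Q} [Finite R] (h4 : ¬ 4 ∣ Nat.card R) {u w : Q}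
    (huR : u ∈ R) (hwR : w ∈ R) (hu : u * u = 1) (hw : w * w = 1) (hu1 : u ≠ 1) (hw1 : w ≠ 1)
    (h : u * w = w * u) : u = w := by
  classical
  by_contra hne
  have hui : u⁻¹ = u := inv_eq_of_mul_eq_one_left hu
  have hwi : w⁻¹ = w := inv_eq_of_mul_eq_one_left hw
  let K : Subgroup Q :=
    { carrier := ({1, u, w, u * w} : Finset Q)
      one_mem' := by simp
      mul_mem' := by
        intro a b ha hb
        have e1 : ∀ y, u * (u * y) = y := fun y => by rw [← mul_assoc, hu, one_mul]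
        have e2 : ∀ y, w * (w * y) = y := fun y => by rw [← mul_assoc, hw, one_mul]
        have e3 : w * (u * w) = u := by rw [h, e2]
        simp only [Finset.coe_insert, Finset.coe_singleton, Set.mem_insert_iff, Set.mem_singleton_iff] at ha hb ⊢
        rcases ha with rfl | rfl | rfl | rfl <;> rcases hb with rfl | rfl | rfl | rfl <;>
          simp [mul_assoc, hu, hw, e1, e3, ← h]
      inv_mem' := by
        intro a ha
        simp only [Finset.coe_insert, Finset.coe_singleton, Set.mem_insert_iff, Set.mem_singleton_iff] at ha ⊢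
        rcases ha with rfl | rfl | rfl | rfl <;> simp [hui, hwi, ← h] }
  have hK : K ≤ R := by
    intro a ha
    change a ∈ (({1, u, w, u * w} : Finset Q) : Set Q) at ha
    simp only [Finset.coe_insert, Finset.coe_singleton, Set.mem_insert_iff, Set.mem_singleton_iff] at ha
    rcases ha with rfl | rfl | rfl | rfl
    · exact one_mem _
    · exact huR
    · exact hwR
    · exact mul_mem huR hwR
  have hc : Nat.card K = 4 := by
    change Nat.card ((({1, u, w, u * w} : Finset Q) : Set Q)) = 4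
    rw [Nat.card_coe_set_eq, Set.ncard_coe_finset]
    have h1 : (1 : Q) ≠ u * w := fun h1 => hne (by
      have := congrArg (u * ·) h1
      simp only [mul_one, ← mul_assoc, hu, one_mul] at this
      exact this)
    have h2 : u ≠ u * w := fun h1 => hw1 (by simpa using h1.symm)
    have h3 : w ≠ u * w := fun h1 => hu1 (by simpa using h1.symm)
    rw [Finset.card_insert_of_notMem, Finset.card_insert_of_notMem, Finset.card_insert_of_notMem,
      Finset.card_singleton]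
    · simpa using h3
    · simp only [Finset.mem_insert, Finset.mem_singleton, not_or]
      exact ⟨hne, h2⟩
    · simp only [Finset.mem_insert, Finset.mem_singleton, not_or]
      exact ⟨Ne.symm hu1, Ne.symm hw1, h1⟩
  exact h4 (hc ▸ Subgroup.card_dvd_of_le hK)

/-- the same, if `(u w) ^ 4 = 1` -/
theorem eq_of_pow {Q : Type*} [Group Q] {R : Subgroup Q} [Finite R] (h4 : ¬ 4 ∣ Nat.card R) {u w : Q}
    (huR : u ∈ R) (hwR : w ∈ R) (hu : u * u = 1) (hw : w * w = 1) (hu1 : u ≠ 1) (hw1 : w ≠ 1)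
    (h : (u * w) ^ 4 = 1) : u = w := by
  refine eq_of_comm h4 huR hwR hu hw hu1 hw1 ?_
  have hui : u⁻¹ = u := inv_eq_of_mul_eq_one_left hu
  have hwi : w⁻¹ = w := inv_eq_of_mul_eq_one_left hw
  have h1 : orderOf (u * w) ∣ 2 ^ 2 := orderOf_dvd_of_pow_eq_one h
  have h2 : orderOf (u * w) ∣ Nat.card R := by
    have h3 := orderOf_dvd_natCard (⟨u * w, mul_mem huR hwR⟩ : R)
    rwa [Subgroup.orderOf_mk] at h3
  have h3 : orderOf (u * w) ∣ 2 := by
    obtain ⟨k, hk, he⟩ := (Nat.dvd_prime_pow Nat.prime_two).1 h1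
    rw [he] at h2 ⊢
    interval_cases k
    · exact ⟨2, rfl⟩
    · exact ⟨1, rfl⟩
    · exact absurd h2 h4
  have h5 : (u * w) ^ 2 = 1 := orderOf_dvd_iff_pow_eq_one.1 h3
  have h6 : u * w = (u * w)⁻¹ := eq_inv_of_mul_eq_one_left (by rw [← pow_two]; exact h5)
  rw [h6, mul_inv_rev, hui, hwi]

/-! ### Transvections -/

section tv

variable {X V : Type*} [Group X] [AddCommGroup V]

/-- an action by additive maps -/
structure Act (act : X → V → V) : Prop where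
  one : ∀ d, act 1 d = d
  mul : ∀ g h d, act (g * h) d = act g (act h d)
  add : ∀ g d e, act g (d + e) = act g d + act g e

variable {act : X → V → V} (A : Act act)
include A

theorem Act.inv_l (g : X) (d : V) : act g⁻¹ (act g d) = d := by
  rw [← A.mul, inv_mul_cancel, A.one]

theorem Act.inv_r (g : X) (d : V) : act g (act g⁻¹ d) = d := by
  rw [← A.mul, mul_inv_cancel, A.one]

theorem Act.inj {g : X} {d e : V} (h : act g d = act g e) : d = e := by
  rw [← A.inv_l g d, h, A.inv_l]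

theorem Act.zero (g : X) : act g 0 = 0 := by
  have h := A.add g 0 0
  rw [add_zero] at h
  exact left_eq_add.1 h

/-- `u`, `w` transvections with centres `c`, `c'`, and `u` fixes `c'`; then `(u w) ^ 4 = 1` -/
theorem Act.tv4 (h2 : ∀ v : V, v + v = 0) {u w : X} {c c' : V} (hu : ∀ d, act u d = d ∨ act u d = d + c)
    (hw : ∀ d, act w d = d ∨ act w d = d + c') (huc : act u c = c) (hwc' : act w c' = c')
    (huc' : act u c' = c') (d : V) : act ((u * w) ^ 4) d = d := by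
  have hf : ∀ d, act (u * w) d = act u (act w d) := fun d => A.mul _ _ _
  have fc' : act (u * w) c' = c' := by rw [hf, hwc', huc']
  have fc : act (u * w) c = c ∨ act (u * w) c = c + c' := by
    rcases hw c with h | h
    · left; rw [hf, h, huc]
    · right; rw [hf, h, A.add, huc, huc']
  have hcc : c' + c' = 0 := h2 c'
  have hc0 : c + c = 0 := h2 c
  have key : ∀ d, act (u * w) (act (u * w) d) = d ∨ act (u * w) (act (u * w) d) = d + c' := by
    intro d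
    have hd : act (u * w) d = d ∨ act (u * w) d = d + c ∨ act (u * w) d = d + c' ∨
        act (u * w) d = d + (c + c') := by
      rcases hw d with h | h <;> rcases hu d with h' | h'
      · left; rw [hf, h, h']
      · right; left; rw [hf, h, h']
      · right; right; left; rw [hf, h, A.add, h', huc']
      · right; right; right; rw [hf, h, A.add, h', huc']; abel
    rcases hd with h | h | h | h
    · left; rw [h, h]
    · rcases fc with h' | h'
      · left; rw [h, A.add, h, h', add_assoc, hc0, add_zero]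
      · right
        rw [h, A.add, h, h', add_assoc, ← add_assoc c c c', hc0, zero_add]
    · left; rw [h, A.add, h, fc', add_assoc, hcc, add_zero]
    · rcases fc with h' | h'
      · left
        rw [h, A.add, h, A.add, h', fc', add_assoc, h2, add_zero]
      · right
        rw [h, A.add, h, A.add, h', fc', add_assoc, add_assoc c c' c', hcc, add_zero,
          add_comm c c', add_assoc c' c c, hc0, add_zero]
  have e : (u * w) ^ 4 = (u * w) * ((u * w) * ((u * w) * (u * w))) := by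
    simp only [pow_succ, pow_zero, one_mul, mul_assoc]
  rw [e, A.mul (u * w), A.mul (u * w), A.mul (u * w) (u * w)]
  rcases key d with h | h
  · rw [h]
    rcases key d with h' | h'
    · exact h'
    · rw [h]
  · rw [h, A.add, A.add, fc', fc', h, add_assoc, hcc, add_zero]

/-- **The core of (4)** -/
theorem Act.core (h2 : ∀ v : V, v + v = 0) {x k : X} {n s : V} (hx : ∀ d, act x d = d ∨ act x d = d + s)
    (hxs : act x s = s) (hxn : act x n = n + s) (hs : s ≠ 0) (hkn : act k n = n)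
    (hk2 : act k (act k s) = s → act k s = s)
    (hstar : ∀ g h : X, (∀ d, act (((g * x * g⁻¹) * (h * x * h⁻¹)) ^ 4) d = d) →
      ∀ d, act (g * x * g⁻¹) d = act (h * x * h⁻¹) d) : act k s = s := by
  by_contra hne
  -- the conjugates of `x` are transvections
  have hg : ∀ g d, act (g * x * g⁻¹) d = d ∨ act (g * x * g⁻¹) d = d + act g s := by
    intro g d
    rw [A.mul, A.mul]
    rcases hx (act g⁻¹ d) with h | h
    · left; rw [h, A.inv_r]
    · right; rw [h, A.add, A.inv_r]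
  have hgs : ∀ g, act (g * x * g⁻¹) (act g s) = act g s := by
    intro g
    rw [A.mul, A.mul, A.inv_l, hxs]
  have hgn : ∀ g, act (g * x * g⁻¹) (act g n) = act g n + act g s := by
    intro g
    rw [A.mul, A.mul, A.inv_l, hxn, A.add]
  have hgs0 : ∀ g, act g s ≠ 0 := fun g h => hs (A.inj (h.trans (A.zero g).symm))
  -- if `g x g⁻¹` fixes the centre of `h x h⁻¹` the two transvections are equal
  have L0 : ∀ g h, act (g * x * g⁻¹) (act h s) = act h s →
      ∀ d, act (g * x * g⁻¹) d = act (h * x * h⁻¹) d := fun g h hfix =>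
    hstar g h (A.tv4 h2 (hg g) (hg h) (hgs g) (hgs h) hfix)
  have L1 : ∀ g h, act g s ≠ act h s → act (g * x * g⁻¹) (act h s) = act h s + act g s := by
    intro g h hgh
    rcases hg g (act h s) with h1 | h1
    · exfalso
      have h3 := L0 g h h1 (act g n)
      rw [hgn] at h3
      rcases hg h (act g n) with h4 | h4
      · rw [h4] at h3
        exact hgs0 g (left_eq_add.1 h3.symm)
      · rw [h4] at h3
        exact hgh (add_left_cancel h3)
    · exact h1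
  have hone : act 1 s = s := A.one s
  have hkk : act (k * k) s = act k (act k s) := A.mul _ _ _
  have n0 : act (1 : X) s ≠ act k s := by rw [hone]; exact fun h => hne h.symm
  have n1 : act (1 : X) s ≠ act (k * k) s := by
    rw [hone, hkk]; exact fun h => hne (hk2 h.symm)
  have n2 : act k s ≠ act (k * k) s := by
    rw [hkk]; exact fun h => hne (A.inj h).symm
  have e1 : (1 : X) * x * 1⁻¹ = x := by group
  have x1 : act x (act k s) = act k s + s := by
    have := L1 1 k n0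
    rwa [e1, hone] at this
  have x2 : act x (act (k * k) s) = act (k * k) s + s := by
    have := L1 1 (k * k) n1
    rwa [e1, hone] at this
  have y1 : act (k * x * k⁻¹) s = s + act k s := by
    have := L1 k 1 n0.symm
    rwa [hone] at this
  have y2 : act (k * x * k⁻¹) (act (k * k) s) = act (k * k) s + act k s := L1 k (k * k) n2
  have z1 : act (k * k * x * (k * k)⁻¹) s = s + act (k * k) s := by
    have := L1 (k * k) 1 n1.symm
    rwa [hone] at this
  -- `x' x x'⁻¹ = x''`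
  have hyy : ∀ d, act (k * x * k⁻¹)⁻¹ d = act (k * x * k⁻¹) d := by
    intro d
    have h1 : act (k * x * k⁻¹) (act (k * x * k⁻¹) d) = d := by
      rcases hg k d with h | h
      · rw [h, h]
      · rw [h, A.add, h, hgs, add_assoc, h2, add_zero]
    have h3 := A.inv_l (k * x * k⁻¹) (act (k * x * k⁻¹) d)
    rwa [h1] at h3
  have hu : ∀ d, act ((k * x * k⁻¹) * x * (k * x * k⁻¹)⁻¹) d = act (k * k * x * (k * k)⁻¹) d := by
    refine L0 (k * x * k⁻¹) (k * k) ?_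
    rw [A.mul, A.mul, hyy, y2, A.add, x2, x1]
    have e3 : act (k * k) s + s + (act k s + s) = act (k * k) s + act k s := by
      calc act (k * k) s + s + (act k s + s) = act (k * k) s + act k s + (s + s) := by abel
        _ = _ := by rw [h2, add_zero]
    rw [e3, A.add, y2, hgs, add_assoc, h2, add_zero]
  -- `a = n + s` is fixed by `x'` and `x''`
  have ya : act (k * x * k⁻¹) (n + s) = n + s := by
    have h3 := hgn k
    rw [hkn] at h3
    rw [A.add, h3, y1]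
    calc n + act k s + (s + act k s) = n + s + (act k s + act k s) := by abel
      _ = n + s := by rw [h2, add_zero]
  have hkkn : act (k * k) n = n := by rw [A.mul, hkn, hkn]
  have za : act (k * k * x * (k * k)⁻¹) (n + s) = n + s := by
    have h3 := hgn (k * k)
    rw [hkkn] at h3
    rw [A.add, h3, z1]
    calc n + act (k * k) s + (s + act (k * k) s) = n + s + (act (k * k) s + act (k * k) s) := by abel
      _ = n + s := by rw [h2, add_zero]
  have xa : act x (n + s) = n + s := by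
    have h3 := hu (n + s)
    rw [za, A.mul, A.mul, hyy, ya] at h3
    have h4 := congrArg (act (k * x * k⁻¹)⁻¹) h3
    rw [A.inv_l, hyy, ya] at h4
    exact h4
  rw [A.add, hxn, hxs, add_assoc, h2, add_zero] at xa
  exact hs (left_eq_add.1 xa)

end tv

/-! ### The 2-part of the induced group -/

/-- the property `hstar`, if a subgroup of index not divisible by 4 acts trivially -/
theorem Act.star {X V : Type*} [Group X] [Finite X] [AddCommGroup V] {act : X → V → V} (A : Act act)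
    (h2 : ∀ v : V, v + v = 0) {T' : Subgroup X} (hT' : ¬ 4 ∣ T'.index) (hT : ∀ t ∈ T', ∀ d, act t d = d)
    {x : X} {n s : V} (hx : ∀ d, act x d = d ∨ act x d = d + s) (hxs : act x s = s)
    (hxn : act x n = n + s) (hs : s ≠ 0) :
    ∀ g h : X, (∀ d, act (((g * x * g⁻¹) * (h * x * h⁻¹)) ^ 4) d = d) →
      ∀ d, act (g * x * g⁻¹) d = act (h * x * h⁻¹) d := by
  intro g h hgh
  let ρ : X →* Equiv.Perm V :=
    { toFun := fun g => ⟨act g, act g⁻¹, A.inv_l g, A.inv_r g⟩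
      map_one' := Equiv.ext fun d => A.one d
      map_mul' := fun g h => Equiv.ext fun d => A.mul g h d }
  have hρ : ∀ g d, ρ g d = act g d := fun _ _ => rfl
  have h4 : ¬ 4 ∣ Nat.card ρ.range := by
    intro h4
    rw [← Subgroup.index_ker] at h4
    refine hT' (h4.trans (index_dvd_of_le fun t ht => ?_))
    exact MonoidHom.mem_ker.2 (Equiv.ext fun d => hT t ht d)
  have hfin : Finite ρ.range := Set.finite_range ρ
  have hxx : ρ x * ρ x = 1 := by
    refine Equiv.ext fun d => ?_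
    change act x (act x d) = d
    rcases hx d with h | h
    · rw [h, h]
    · rw [h, A.add, h, hxs, add_assoc, h2, add_zero]
  have hx1 : ρ x ≠ 1 := by
    intro h1
    have h3 : act x n = n := by
      have := congrArg (fun f : Equiv.Perm V => f n) h1
      exact this
    rw [hxn] at h3
    exact hs (left_eq_add.1 h3.symm)
  have hc : ∀ g, ρ (g * x * g⁻¹) * ρ (g * x * g⁻¹) = 1 := by
    intro g
    rw [← map_mul]
    have e : g * x * g⁻¹ * (g * x * g⁻¹) = g * (x * x) * g⁻¹ := by group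
    rw [e, map_mul, map_mul, map_mul, hxx, mul_one, ← map_mul, mul_inv_cancel, map_one]
  have hc1 : ∀ g, ρ (g * x * g⁻¹) ≠ 1 := by
    intro g h1
    apply hx1
    rw [map_mul, map_mul, mul_eq_one_iff_eq_inv, ← map_inv, inv_inv] at h1
    exact mul_eq_left.1 h1
  have h5 := eq_of_pow h4 ⟨g * x * g⁻¹, rfl⟩ ⟨h * x * h⁻¹, rfl⟩
    (hc g) (hc h) (hc1 g) (hc1 h) (by
      rw [← map_mul, ← map_pow]
      exact Equiv.ext fun d => hgh d)
  intro d
  exact congrArg (fun f : Equiv.Perm V => f d) h5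

/-! ### The configuration -/

universe u

variable {G : Type u} [Group G] [Finite G]

/-- a 2-element of `N` normalising the Sylow 2-subgroup `T` of `N` is in `T` -/
theorem mem_of_two {T N : Subgroup G} (hT : IsPGroup 2 T) (hTN : T ≤ N) (hd : ¬ 2 ∣ T.relIndex N) {y : G}
    (hyN : y ∈ N) (hyT : y ∈ normalizer (T : Set G)) (hy : ∃ j : ℕ, y ^ 2 ^ j = 1) : y ∈ T := by
  have hf : Fact (Nat.Prime 2) := ⟨Nat.prime_two⟩
  obtain ⟨j, hj⟩ := hy
  have h1 : IsPGroup 2 (zpowers y) := by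
    refine IsPGroup.of_card (n := (Nat.factorization (orderOf y)) 2) ?_
    rw [Nat.card_zpowers]
    obtain ⟨i, -, hi⟩ := (Nat.dvd_prime_pow Nat.prime_two).1 (orderOf_dvd_of_pow_eq_one hj)
    rw [hi, Nat.prime_two.factorization_pow]
    simp
  have h2 : IsPGroup 2 (zpowers y ⊔ T : Subgroup G) :=
    IsPGroup.to_sup_of_normal_right' h1 hT (by rwa [zpowers_le])
  have h3 : zpowers y ⊔ T ≤ N := sup_le (by rwa [zpowers_le]) hTN
  have h4 : T.relIndex (zpowers y ⊔ T) ∣ T.relIndex N := by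
    rw [← relIndex_mul_relIndex T (zpowers y ⊔ T) N le_sup_right h3]
    exact Dvd.intro _ rfl
  have h5 : T.relIndex (zpowers y ⊔ T) = 1 := by
    obtain ⟨i, hi⟩ := IsPGroup.iff_card.1 h2
    have h6 : T.relIndex (zpowers y ⊔ T) ∣ 2 ^ i := by
      rw [← hi]; exact relIndex_dvd_card _ _
    obtain ⟨k, -, hk⟩ := (Nat.dvd_prime_pow Nat.prime_two).1 h6
    rcases Nat.eq_zero_or_pos k with rfl | hk0
    · simpa using hk
    · exfalso
      apply hd
      refine dvd_trans ?_ h4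
      rw [hk]
      exact dvd_pow_self 2 hk0.ne'
  exact (relIndex_eq_one.1 h5) (mem_sup_left (mem_zpowers y))

section

variable {S : Sylow 2 G} {V₁ V₂ L₁ L₂ : Subgroup G} {M₁ : FiveMod V₁ L₁} {M₂ : FiveMod V₂ L₂} {h : G}
  (b : Z.Base S M₁ M₂ h) {V₀ : Subgroup G}
include b

/-- `N_G(T) ∩ C_G(n)` centralises `s`. -/
theorem norm_s (hV0S : ∀ v ∈ V₀, ∀ g ∈ (S : Subgroup G), g * v = v * g)
    (hz : ∀ d ∈ zc ((S : Subgroup G) ⊓ centralizer ({M₁.e nn} : Set G)),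
      ∃ v ∈ V₀, d = v ∨ d = v * M₁.e nn ∨ d = v * M₁.e aa ∨ d = v * M₁.e ss)
    {k : G} (hk : k ∈ normalizer (((S : Subgroup G) ⊓ centralizer ({M₁.e nn} : Set G) : Subgroup G) : Set G))
    (hkn : k * M₁.e nn = M₁.e nn * k) : k * M₁.e ss = M₁.e ss * k := by
  classical
  obtain ⟨x, hxS, hx⟩ := b.dih₁.exists_swap
  set T := (S : Subgroup G) ⊓ centralizer ({M₁.e nn} : Set G) with hTdef
  set X := normalizer (T : Set G) with hX
  have hSX : (S : Subgroup G) ≤ X := b.dih₁.S_le_normalizer_T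
  have hxX : x ∈ X := hSX hxS
  have hXD : ∀ g ∈ X, ∀ d ∈ zc T, g * d * g⁻¹ ∈ zc T := fun g hg d hd =>
    (mem_normalizer_iff.1 (MinSimple.VModule.normalizer_le_normalizer_zc T hg) d).1 hd
  let _ : CommGroup (zc T) := { (inferInstance : Group (zc T)) with
    mul_comm := fun x y => Subtype.ext (MinSimple.VModule.zc_comm T x x.2 y y.2) }
  let act : X → Additive (zc T) → Additive (zc T) := fun g d =>
    Additive.ofMul (⟨g * (Additive.toMul d : zc T) * (g : G)⁻¹, hXD g g.2 _ (Additive.toMul d).2⟩ : zc T)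
  have hact : ∀ (g : X) (d : zc T), act g (Additive.ofMul d) =
      Additive.ofMul (⟨g * d * (g : G)⁻¹, hXD g g.2 _ d.2⟩ : zc T) := fun _ _ => rfl
  have A : Act act :=
    { one := fun d => by
        refine congrArg Additive.ofMul (Subtype.ext ?_)
        change (1 : G) * ((Additive.toMul d : zc T) : G) * (1 : G)⁻¹ = ((Additive.toMul d : zc T) : G)
        rw [one_mul, inv_one, mul_one]
      mul := fun g g' d => by
        refine congrArg Additive.ofMul (Subtype.ext ?_)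
        change ((g : G) * g') * ((Additive.toMul d : zc T) : G) * ((g : G) * g')⁻¹ =
          g * (g' * ((Additive.toMul d : zc T) : G) * (g' : G)⁻¹) * (g : G)⁻¹
        group
      add := fun g d e => by
        refine congrArg Additive.ofMul (Subtype.ext ?_)
        change (g : G) * (((Additive.toMul d : zc T) : G) * ((Additive.toMul e : zc T) : G)) * (g : G)⁻¹ =
          (g * ((Additive.toMul d : zc T) : G) * (g : G)⁻¹) * (g * ((Additive.toMul e : zc T) : G) * (g : G)⁻¹)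
        group }
  have h2 : ∀ v : Additive (zc T), v + v = 0 := by
    intro v
    refine congrArg Additive.ofMul (Subtype.ext ?_ : (Additive.toMul v : zc T) * Additive.toMul v = 1)
    change ((Additive.toMul v : zc T) : G) * ((Additive.toMul v : zc T) : G) = 1
    rw [← pow_two]
    exact MinSimple.VModule.zc_sq T _ (Additive.toMul v).2
  have hnz : M₁.e nn ∈ zc T := b.dih₁.n_mem_zT
  have hsz : M₁.e ss ∈ zc T := b.dih₁.s_mem_zT
  let n' : Additive (zc T) := Additive.ofMul (⟨M₁.e nn, hnz⟩ : zc T)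
  let s' : Additive (zc T) := Additive.ofMul (⟨M₁.e ss, hsz⟩ : zc T)
  let x' : X := ⟨x, hxX⟩
  have hs : s' ≠ 0 := fun h0 => s_ne M₁ (congrArg Subtype.val (Additive.ofMul.injective h0 :
    (⟨M₁.e ss, hsz⟩ : zc T) = 1))
  have hmk : ∀ {d e : zc T}, (d : G) = e → Additive.ofMul d = Additive.ofMul e := fun h0 =>
    congrArg Additive.ofMul (Subtype.ext h0)
  have hxs : act x' s' = s' := hmk (Dih.tt_s hx)
  have hxn : act x' n' = n' + s' := by
    refine hmk ((Dih.tt_n hx).trans ?_)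
    exact (ns M₁).symm
  have hx' : ∀ d, act x' d = d ∨ act x' d = d + s' := by
    intro d
    have hd := (Additive.toMul d : zc T).2
    obtain ⟨v, hv, h1⟩ := hz _ hd
    have hxv : x * v * x⁻¹ = v := by rw [hV0S v hv x hxS, mul_inv_cancel_right]
    have hc : ∀ y, x * (v * y) * x⁻¹ = v * (x * y * x⁻¹) := by
      intro y
      calc x * (v * y) * x⁻¹ = (x * v * x⁻¹) * (x * y * x⁻¹) := by group
        _ = _ := by rw [hxv]
    rcases h1 with h1 | h1 | h1 | h1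
    · left
      refine hmk ?_
      change x * ((Additive.toMul d : zc T) : G) * x⁻¹ = ((Additive.toMul d : zc T) : G)
      rw [h1]; exact hxv
    · right
      refine hmk ?_
      change x * ((Additive.toMul d : zc T) : G) * x⁻¹ = ((Additive.toMul d : zc T) : G) * M₁.e ss
      rw [h1, hc, Dih.tt_n hx, mul_assoc, ns]
    · right
      refine hmk ?_
      change x * ((Additive.toMul d : zc T) : G) * x⁻¹ = ((Additive.toMul d : zc T) : G) * M₁.e ss
      rw [h1, hc, Dih.tt_a hx, mul_assoc, as]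
    · left
      refine hmk ?_
      change x * ((Additive.toMul d : zc T) : G) * x⁻¹ = ((Additive.toMul d : zc T) : G)
      rw [h1, hc, Dih.tt_s hx]
  have hTX : T ≤ X := Subgroup.le_normalizer
  have hT' : ¬ 4 ∣ (T.subgroupOf X).index := by
    have e1 : T.relIndex X = T.relIndex S * (S : Subgroup G).relIndex X :=
      (relIndex_mul_relIndex T S X inf_le_left hSX).symm
    have e2 : T.relIndex (S : Subgroup G) = 2 := by
      have h3 := card_mul_index (T.subgroupOf (S : Subgroup G))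
      have h4 : Nat.card (T.subgroupOf (S : Subgroup G)) = Nat.card T :=
        Nat.card_congr (subgroupOfEquivOfLe inf_le_left).toEquiv
      rw [h4, b.card_S, mul_comm 2] at h3
      exact Nat.eq_of_mul_eq_mul_left Nat.card_pos h3
    have e3 := MinSimple.Basic.not_dvd_relIndex S hSX
    change ¬ 4 ∣ T.relIndex X
    rw [e1, e2]
    intro h4
    apply e3
    have h5 : 2 * 2 ∣ 2 * (S : Subgroup G).relIndex X := h4
    exact Nat.dvd_of_mul_dvd_mul_left (by norm_num) h5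
  have hT : ∀ t ∈ T.subgroupOf X, ∀ d, act t d = d := by
    intro t ht d
    refine hmk ?_
    change (t : G) * ((Additive.toMul d : zc T) : G) * (t : G)⁻¹ = ((Additive.toMul d : zc T) : G)
    rw [(MinSimple.VModule.mem_zc.1 (Additive.toMul d : zc T).2).2.1 t (mem_subgroupOf.1 ht),
      mul_inv_cancel_right]
  have hstar := A.star h2 hT' hT hx' hxs hxn hs
  let k' : X := ⟨k, hk⟩
  have hkn' : act k' n' = n' := by
    refine hmk ?_
    change k * M₁.e nn * k⁻¹ = M₁.e nn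
    rw [hkn, mul_inv_cancel_right]
  -- `k ^ r ∈ T` with `r` odd
  have hk2 : act k' (act k' s') = s' → act k' s' = s' := by
    intro h0
    obtain ⟨j, r, hr, hjr⟩ := Nat.exists_eq_two_pow_mul_odd (orderOf_pos k).ne'
    have hkr : k ^ r ∈ T := by
      refine mem_of_two (S.isPGroup'.to_le inf_le_left) inf_le_right b.not_dvd (pow_mem (mem_C.2 hkn) r)
        (pow_mem hk r) ⟨j, ?_⟩
      rw [← pow_mul, mul_comm, ← hjr, pow_orderOf_eq_one]
    have h1 : act (k' ^ r) s' = s' := hT _ (mem_subgroupOf.2 (by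
      rw [SubmonoidClass.coe_pow]; exact hkr)) _
    obtain ⟨i, hi⟩ := hr
    have h3 : ∀ i : ℕ, act (k' ^ (2 * i)) s' = s' := by
      intro i
      induction i with
      | zero => rw [mul_zero, pow_zero]; exact A.one _
      | succ i ih =>
        rw [mul_add, mul_one, pow_add, A.mul, pow_two, A.mul, h0, ih]
    rw [hi, pow_succ', A.mul, h3] at h1
    exact h1
  have h5 := A.core h2 hx' hxs hxn hs hkn' hk2 hstar
  have h6 : k * M₁.e ss * k⁻¹ = M₁.e ss :=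
    congrArg (fun d : Additive (zc T) => ((Additive.toMul d : zc T) : G)) h5
  rwa [mul_inv_eq_iff_eq_mul] at h6

/-- **(4)**: `a` is the only element of `a ^ C_G(n)` centralised by `T`. -/
theorem eq_a (hV0S : ∀ v ∈ V₀, ∀ g ∈ (S : Subgroup G), g * v = v * g)
    (hz : ∀ d ∈ zc ((S : Subgroup G) ⊓ centralizer ({M₁.e nn} : Set G)),
      ∃ v ∈ V₀, d = v ∨ d = v * M₁.e nn ∨ d = v * M₁.e aa ∨ d = v * M₁.e ss)
    {g : G} (hg : g * M₁.e nn = M₁.e nn * g)
    (hc : ∀ t ∈ (S : Subgroup G) ⊓ centralizer ({M₁.e nn} : Set G),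
      t * (g * M₁.e aa * g⁻¹) = g * M₁.e aa * g⁻¹ * t) : g * M₁.e aa * g⁻¹ = M₁.e aa := by
  set T := (S : Subgroup G) ⊓ centralizer ({M₁.e nn} : Set G) with hTdef
  set c := g * M₁.e aa * g⁻¹ with hcdef
  set Y := centralizer ({M₁.e nn} : Set G) ⊓ centralizer ({c} : Set G) with hY
  have hTp : IsPGroup 2 T := S.isPGroup'.to_le inf_le_left
  have hTY : T ≤ Y := le_inf inf_le_right fun t ht => mem_C.2 (hc t ht)
  have hd : ¬ 2 ∣ T.relIndex Y := by
    intro h2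
    apply b.not_dvd
    refine dvd_trans h2 ?_
    rw [← relIndex_mul_relIndex T Y (centralizer ({M₁.e nn} : Set G)) hTY inf_le_left]
    exact Dvd.intro _ rfl
  have hgT : cj g T ≤ Y := by
    rintro _ ⟨t, ht, rfl⟩
    change g * t * g⁻¹ ∈ Y
    have h1 : t * M₁.e nn = M₁.e nn * t := mem_C.1 ht.2
    have h3 := b.dih₁.T_comm_a ht
    have hg' : M₁.e nn = g * M₁.e nn * g⁻¹ := by rw [hg, mul_inv_cancel_right]
    refine mem_inf.2 ⟨mem_C.2 ?_, mem_C.2 ?_⟩
    · rw [hg']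
      calc g * t * g⁻¹ * (g * M₁.e nn * g⁻¹) = g * (t * M₁.e nn) * g⁻¹ := by group
        _ = g * (M₁.e nn * t) * g⁻¹ := by rw [h1]
        _ = g * M₁.e nn * g⁻¹ * (g * t * g⁻¹) := by group
    · calc g * t * g⁻¹ * (g * M₁.e aa * g⁻¹) = g * (t * M₁.e aa) * g⁻¹ := by group
        _ = g * (M₁.e aa * t) * g⁻¹ := by rw [h3]
        _ = g * M₁.e aa * g⁻¹ * (g * t * g⁻¹) := by group
  have hgTp : IsPGroup 2 (cj g T) := hTp.map _
  obtain ⟨k, hk, hkT⟩ := exists_conj_le_of_odd_relIndex hTp hd hgTp hgT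
  have hkg : k * g ∈ normalizer (T : Set G) := by
    refine mem_normalizer_of_cj_le ?_
    rintro _ ⟨t, ht, rfl⟩
    change k * g * t * (k * g)⁻¹ ∈ T
    have h1 := hkT (g * t * g⁻¹) ⟨t, ht, rfl⟩
    have e : k * g * t * (k * g)⁻¹ = k * (g * t * g⁻¹) * k⁻¹ := by group
    rwa [e]
  have hkn : k * M₁.e nn = M₁.e nn * k := mem_C.1 hk.1
  have hkc : k * c = c * k := mem_C.1 hk.2
  have h1 : k * g * M₁.e nn = M₁.e nn * (k * g) := by
    calc k * g * M₁.e nn = k * (g * M₁.e nn) := by group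
      _ = k * M₁.e nn * g := by rw [hg]; group
      _ = M₁.e nn * (k * g) := by rw [hkn]; group
  have h3 := norm_s b hV0S hz hkg h1
  have h4 : k * g * M₁.e aa * (k * g)⁻¹ = M₁.e aa := by
    rw [mul_inv_eq_iff_eq_mul, ← ns M₁]
    calc k * g * (M₁.e nn * M₁.e ss) = k * g * M₁.e nn * M₁.e ss := by group
      _ = M₁.e nn * (k * g * M₁.e ss) := by rw [h1]; group
      _ = M₁.e nn * M₁.e ss * (k * g) := by rw [h3]; group
  have h5 : k * g * M₁.e aa * (k * g)⁻¹ = c := by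
    calc k * g * M₁.e aa * (k * g)⁻¹ = k * c * k⁻¹ := by rw [hcdef]; group
      _ = c := by rw [hkc, mul_inv_cancel_right]
  rw [← h5, h4]

end

end Cfsg.Agent.Omega.TTn.Z.Fus

end

section


/-!
# #15257: the normal form of a T-T pair, `n` not 2-central, `V_P = V₀ × A`: alignment

`exists_align` of `TTn/Norm.lean` with `[Ω₁(Z(T)), S] ≤ ⟨s⟩` instead of `Ω₁(Z(T)) = E₄`.
-/

set_option autoImplicit false
set_option linter.unusedSectionVars false

namespace Cfsg.Agent.Omega.TTn.Z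

open Subgroup Cfsg Cfsg.Agent.ZN Cfsg.Agent.ZN.ChoiceBase
open Cfsg.Agent.Omega.S5.Mod Cfsg.Agent.Omega.S5.TT
open Cfsg.Agent.Omega.S5.TT.Pos (na ns as sn n_ne s_ne a_ne n_ne_a n_ne_s a_ne_s e_sq' mem_C)
open Cfsg.Agent.MinSimple.VModule (o2_isPGroup le_o2 o2_le le_normalizer_o2 o2_le_of_sylow
  normalizer_le_normalizer_zc le_centralizer_zc mem_zc)

universe u

/-- commuting involutions in a group with Sylow 2-subgroups of order 2 are equal -/
theorem eq_of_sylow_two {Γ : Type*} [Group Γ] [Finite Γ] (P : Sylow 2 Γ)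
    (hP : Nat.card (P : Subgroup Γ) ≤ 2) {t t' : Γ} (ht : t * t = 1) (ht' : t' * t' = 1)
    (hc : t * t' = t' * t) (h1 : t ≠ 1) (h1' : t' ≠ 1) : t = t' := by
  have hf : Fact (Nat.Prime 2) := ⟨Nat.prime_two⟩
  by_contra hne
  have hz : ∀ x : Γ, x * x = 1 → IsPGroup 2 (zpowers x) := by
    rintro x hx ⟨y, hy⟩
    obtain ⟨k, rfl⟩ := mem_zpowers_iff.1 hy
    refine ⟨1, Subtype.ext ?_⟩
    change (x ^ k) ^ 2 ^ 1 = 1
    rw [pow_one, pow_two, ← zpow_add, ← two_mul, zpow_mul, zpow_two, hx, one_zpow]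
  have hQ : IsPGroup 2 (zpowers t ⊔ zpowers t' : Subgroup Γ) := by
    refine (hz t ht).to_sup_of_normal_right' (hz t' ht') ?_
    rw [zpowers_le]
    refine centralizer_le_normalizer _ (mem_centralizer_iff.2 ?_)
    rintro _ ⟨k, rfl⟩
    exact ((show Commute t t' from hc).zpow_right k).symm
  obtain ⟨R, hR⟩ := hQ.exists_le_sylow
  have hcR : Nat.card (R : Subgroup Γ) = Nat.card (P : Subgroup Γ) :=
    Nat.card_congr (Sylow.equiv R P).toEquiv
  have h3 : Nat.card (Fin 3) ≤ Nat.card (R : Subgroup Γ) := by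
    have hm1 : t ∈ (R : Subgroup Γ) := hR ((le_sup_left : zpowers t ≤ _) (mem_zpowers t))
    have hm2 : t' ∈ (R : Subgroup Γ) := hR ((le_sup_right : zpowers t' ≤ _) (mem_zpowers t'))
    let f : Fin 3 → (R : Subgroup Γ) := ![1, ⟨t, hm1⟩, ⟨t', hm2⟩]
    refine Nat.card_le_card_of_injective f ?_
    have e0 : ((f 0 : (R : Subgroup Γ)) : Γ) = 1 := rfl
    have e1 : ((f 1 : (R : Subgroup Γ)) : Γ) = t := rfl
    have e2 : ((f 2 : (R : Subgroup Γ)) : Γ) = t' := rfl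
    intro i j hij
    have hij' := congrArg Subtype.val hij
    fin_cases i <;> fin_cases j <;> first
      | rfl
      | (exfalso; first
          | exact h1 (by simpa [e0, e1, e2] using hij')
          | exact h1 (by simpa [e0, e1, e2] using hij'.symm)
          | exact h1' (by simpa [e0, e1, e2] using hij')
          | exact h1' (by simpa [e0, e1, e2] using hij'.symm)
          | exact hne (by simpa [e0, e1, e2] using hij')
          | exact hne (by simpa [e0, e1, e2] using hij'.symm))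
  rw [Nat.card_fin, hcR] at h3
  omega

variable {G : Type u} [Group G]

/-! ### One module -/

namespace Dih

variable {S : Sylow 2 G} {V L : Subgroup G} {M : FiveMod V L} (t : Dih S M)
include t

theorem card_S [Finite G] : Nat.card (S : Subgroup G) =
    2 * Nat.card ((S : Subgroup G) ⊓ centralizer ({M.e nn} : Set G) : Subgroup G) := by
  obtain ⟨g, hgS, hg⟩ := t.exists_swap
  set T := (S : Subgroup G) ⊓ centralizer ({M.e nn} : Set G) with hT
  have h1 : (T.subgroupOf S).index = 2 := by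
    rw [index_eq_two_iff]
    refine ⟨⟨g, hgS⟩, fun x => ?_⟩
    have hgT : g ∉ T := by
      intro h0
      have h2 := Dih.tt_n hg
      rw [mem_C.1 h0.2, mul_inv_cancel_right] at h2
      exact n_ne_a M h2
    by_cases hx : (x : G) ∈ T
    · right
      refine ⟨mem_subgroupOf.2 hx, fun h0 => hgT ?_⟩
      have h2 := mem_subgroupOf.1 h0
      have h3 := mul_mem (inv_mem hx) h2
      have h4 : (x : G)⁻¹ * ((x * ⟨g, hgS⟩ : (S : Subgroup G)) : G) = g := by
        rw [coe_mul]; group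
      rwa [h4] at h3
    · left
      refine ⟨mem_subgroupOf.2 ?_, fun h0 => hx (mem_subgroupOf.1 h0)⟩
      rcases t.mem_or hgS hg x.2 with h2 | h2
      · exact absurd h2 hx
      · exact h2
  have h2 := (T.subgroupOf (S : Subgroup G)).card_mul_index
  rw [h1] at h2
  have h3 : Nat.card (T.subgroupOf (S : Subgroup G)) = Nat.card T :=
    Nat.card_congr (subgroupOfEquivOfLe inf_le_left).toEquiv
  rw [← h2, h3, mul_comm]

/-- `T = C_S(n)` is a Sylow 2-subgroup of `C_G(n)`, if `n` is not 2-central. -/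
theorem not_dvd [Finite G] (nc : ∀ P : Sylow 2 G, ¬ (P : Subgroup G) ≤ centralizer ({M.e nn} : Set G)) :
    ¬ 2 ∣ ((S : Subgroup G) ⊓ centralizer ({M.e nn} : Set G)).relIndex
      (centralizer ({M.e nn} : Set G)) := by
  have hf : Fact (Nat.Prime 2) := ⟨Nat.prime_two⟩
  set N := centralizer ({M.e nn} : Set G) with hN
  set T := (S : Subgroup G) ⊓ N with hT
  have hTp : IsPGroup 2 (T.subgroupOf N) :=
    (S.isPGroup'.to_le inf_le_left).comap_of_injective _ N.subtype_injective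
  obtain ⟨P, hP⟩ := hTp.exists_le_sylow
  have hPG : IsPGroup 2 ((P : Subgroup N).map N.subtype) := P.isPGroup'.map _
  obtain ⟨R, hR⟩ := hPG.exists_le_sylow
  have hlt : (P : Subgroup N).map N.subtype < (R : Subgroup G) := by
    refine lt_of_le_of_ne hR fun h0 => nc R ?_
    rw [← h0]
    exact map_subtype_le _
  have hcR : Nat.card (R : Subgroup G) = Nat.card (S : Subgroup G) :=
    Nat.card_congr (Sylow.equiv R S).toEquiv
  have h2 : 2 * Nat.card ((P : Subgroup N).map N.subtype) ≤ Nat.card (R : Subgroup G) := by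
    obtain ⟨k, hk⟩ := card_dvd_of_le hR
    rw [hk, mul_comm]
    refine Nat.mul_le_mul_left _ ?_
    rcases k with _ | _ | k
    · rw [mul_zero] at hk
      exact absurd hk Nat.card_pos.ne'
    · rw [zero_add, mul_one] at hk
      exact absurd (eq_of_le_of_card_ge hR hk.le) hlt.ne
    · omega
  have h3 : Nat.card ((P : Subgroup N).map N.subtype) = Nat.card (P : Subgroup N) :=
    Nat.card_congr (equivMapOfInjective _ _ N.subtype_injective).symm.toEquiv
  have h4 : Nat.card (T.subgroupOf N) = Nat.card T :=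
    Nat.card_congr (subgroupOfEquivOfLe inf_le_right).toEquiv
  have h5 : (P : Subgroup N) = T.subgroupOf N := by
    refine (eq_of_le_of_card_ge hP ?_).symm
    rw [h4, ← h3]
    have h6 := t.card_S
    rw [← hN, ← hT] at h6
    omega
  have h6 := P.not_dvd_index
  rw [h5] at h6
  exact h6

/-- Conjugating the module by an element of `N_G(S)`. -/
theorem cj [Finite G] {g : G} (hg : ∀ x ∈ (S : Subgroup G), g * x * g⁻¹ ∈ (S : Subgroup G)) :
    Dih S (M.cj g) := by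
  have hgN : g ∈ normalizer ((S : Subgroup G) : Set G) := by
    refine mem_normalizer_of_cj_le ?_
    rintro _ ⟨x, hx, rfl⟩
    exact hg x hx
  have hg' : ∀ x ∈ (S : Subgroup G), g⁻¹ * x * g ∈ (S : Subgroup G) := by
    intro x hx
    have := (mem_normalizer_iff.1 (inv_mem hgN) x).1 hx
    rwa [inv_inv] at this
  refine ⟨?_, ?_, ?_⟩
  · intro x hx
    rw [mem_cj]
    exact t.S_le (hg' x hx)
  · intro x hx p hp
    exact t.d8 _ (hg' x hx) p (ind_of_cj hp)
  · intro p hp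
    obtain ⟨b, hb, hi⟩ := t.d8' p hp
    exact ⟨_, hg b hb, M.cj_ind hi⟩

end Dih

/-! ### Two modules with the same `n` -/

/-- conjugates of `n` are not 2-central -/
theorem nc_conj {n : G} (nc : ∀ P : Sylow 2 G, ¬ (P : Subgroup G) ≤ centralizer ({n} : Set G)) (g : G)
    (P : Sylow 2 G) : ¬ (P : Subgroup G) ≤ centralizer ({g * n * g⁻¹} : Set G) := by
  intro hP
  refine nc (g⁻¹ • P) ?_
  rintro _ ⟨y, hy, rfl⟩
  have h1 := mem_C.1 (hP hy)
  refine mem_C.2 ?_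
  change g⁻¹ * y * g⁻¹⁻¹ * n = n * (g⁻¹ * y * g⁻¹⁻¹)
  calc g⁻¹ * y * g⁻¹⁻¹ * n = g⁻¹ * (y * (g * n * g⁻¹)) * g := by group
    _ = g⁻¹ * (g * n * g⁻¹ * y) * g := by rw [h1]
    _ = n * (g⁻¹ * y * g⁻¹⁻¹) := by group

/-- two Sylow subgroups `S`, `S'` over the same `T ⊴`, acting on `B` as transvections `n ↦ n s`, `n ↦ n s'` -/
theorem same_action [Finite G] {S : Sylow 2 G} {H B : Subgroup G} {x x' n s s' : G}
    (hSH : (S : Subgroup G) ≤ H) (hBH : H ≤ normalizer (B : Set G)) (hBc : ∀ b ∈ B, ∀ b' ∈ B, b * b' = b' * b)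
    (hB2 : ∀ b ∈ B, b * b = 1)
    (hS : ∀ g ∈ (S : Subgroup G), (∀ b ∈ B, g * b * g⁻¹ = b) ∨ ∀ b ∈ B, g * x * b * (g * x)⁻¹ = b)
    (hx : x ∈ H) (hx' : x' ∈ H) (hn : n ∈ B) (hs : s ∈ B) (hs' : s' ∈ B) (hs1 : s ≠ 1) (hs1' : s' ≠ 1)
    (ax : ∀ b ∈ B, x * b * x⁻¹ = b ∨ x * b * x⁻¹ = b * s) (ax' : ∀ b ∈ B, x' * b * x'⁻¹ = b ∨ x' * b * x'⁻¹ = b * s')
    (xn : x * n * x⁻¹ = n * s) (xn' : x' * n * x'⁻¹ = n * s') (xs : x * s * x⁻¹ = s) (xs' : x * s' * x⁻¹ = s')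
    (ys : x' * s * x'⁻¹ = s) (ys' : x' * s' * x'⁻¹ = s') : ∀ b ∈ B, x * b * x⁻¹ = x' * b * x'⁻¹ := by
  have hf : Fact (Nat.Prime 2) := ⟨Nat.prime_two⟩
  obtain ⟨C, hC⟩ : ∃ C, C = centralizer (B : Set G) := ⟨_, rfl⟩
  have hCm : ∀ g, g ∈ C ↔ ∀ b ∈ B, g * b * g⁻¹ = b := by
    intro g
    rw [hC, mem_centralizer_iff]
    exact forall₂_congr fun b _ => by rw [mul_inv_eq_iff_eq_mul]; exact eq_comm
  have hCn : (C.subgroupOf H).Normal := by
    refine ⟨fun g hg h => ?_⟩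
    rw [mem_subgroupOf, hCm] at hg ⊢
    intro b hb
    have h1 : (h : G)⁻¹ * b * h ∈ B := by
      have := (mem_normalizer_iff.1 (inv_mem (hBH h.2)) b).1 hb
      rwa [inv_inv] at this
    have h2 := hg _ h1
    calc ((h * g * h⁻¹ : H) : G) * b * ((h * g * h⁻¹ : H) : G)⁻¹ = h * (g * ((h : G)⁻¹ * b * h) * (g : G)⁻¹) * (h : G)⁻¹ := by
          simp only [coe_mul, coe_inv]; group
      _ = b := by rw [h2]; group
  let q := QuotientGroup.mk' (C.subgroupOf H)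
  have hq1 : ∀ g : H, q g = 1 ↔ (g : G) ∈ C := fun g => by
    change (QuotientGroup.mk g : H ⧸ C.subgroupOf H) = 1 ↔ _
    rw [QuotientGroup.eq_one_iff, mem_subgroupOf]
  let P : Sylow 2 (H ⧸ C.subgroupOf H) := (S.subtype hSH).mapSurjective (f := q) (QuotientGroup.mk'_surjective _)
  have hP : ∀ y, y ∈ (P : Subgroup (H ⧸ C.subgroupOf H)) → y = 1 ∨ y * q ⟨x, hx⟩ = 1 := by
    rintro _ ⟨g, hg, rfl⟩
    rcases hS g hg with h1 | h1
    · exact Or.inl ((hq1 g).2 ((hCm _).2 h1))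
    · right
      change q g * q ⟨x, hx⟩ = 1
      rw [← map_mul, hq1]
      exact (hCm _).2 h1
  have hcP : Nat.card (P : Subgroup (H ⧸ C.subgroupOf H)) ≤ 2 := by
    have h1 : ((P : Subgroup (H ⧸ C.subgroupOf H)) : Set (H ⧸ C.subgroupOf H)) ⊆ {1, (q ⟨x, hx⟩)⁻¹} := by
      intro y hy
      rcases hP y hy with h1 | h1
      · exact Or.inl h1
      · exact Or.inr (eq_inv_of_mul_eq_one_left h1)
    calc Nat.card (P : Subgroup (H ⧸ C.subgroupOf H)) = Set.ncard ((P : Subgroup (H ⧸ C.subgroupOf H)) : Set _) := rfl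
      _ ≤ Set.ncard {1, (q ⟨x, hx⟩)⁻¹} := Set.ncard_le_ncard h1 (Set.toFinite _)
      _ ≤ 2 := Set.ncard_insert_le _ _ |>.trans (by rw [Set.ncard_singleton])
  have hconj : ∀ g b c : G, g * (b * c) * g⁻¹ = g * b * g⁻¹ * (g * c * g⁻¹) := fun g b c => by group
  have hxx : ∀ b ∈ B, x * (x * b * x⁻¹) * x⁻¹ = b := by
    intro b hb
    rcases ax b hb with h1 | h1
    · rw [h1, h1]
    · rw [h1, hconj, h1, xs, mul_assoc, hB2 s hs, mul_one]
  have hxx' : ∀ b ∈ B, x' * (x' * b * x'⁻¹) * x'⁻¹ = b := by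
    intro b hb
    rcases ax' b hb with h1 | h1
    · rw [h1, h1]
    · rw [h1, hconj, h1, ys', mul_assoc, hB2 s' hs', mul_one]
  have hxy : ∀ b ∈ B, x * (x' * b * x'⁻¹) * x⁻¹ = x' * (x * b * x⁻¹) * x'⁻¹ := by
    intro b hb
    rcases ax b hb with h1 | h1 <;> rcases ax' b hb with h2 | h2
    · rw [h1, h2, h1]
    · rw [h1, h2, hconj, h1, xs']
    · rw [h1, h2, h1, hconj, h2, ys]
    · rw [h1, h2, hconj, h1, xs', hconj, h2, ys, mul_assoc, mul_assoc, hBc s hs s' hs']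
  have key : q ⟨x, hx⟩ = q ⟨x', hx'⟩ := by
    refine eq_of_sylow_two P hcP ?_ ?_ ?_ ?_ ?_
    · rw [← map_mul, hq1, hCm]
      intro b hb
      calc x * x * b * (x * x)⁻¹ = x * (x * b * x⁻¹) * x⁻¹ := by group
        _ = b := hxx b hb
    · rw [← map_mul, hq1, hCm]
      intro b hb
      calc x' * x' * b * (x' * x')⁻¹ = x' * (x' * b * x'⁻¹) * x'⁻¹ := by group
        _ = b := hxx' b hb
    · rw [← map_mul, ← map_mul, ← inv_mul_eq_one, ← map_inv, ← map_mul, hq1, hCm]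
      intro b hb
      change (x * x')⁻¹ * (x' * x) * b * ((x * x')⁻¹ * (x' * x))⁻¹ = b
      calc (x * x')⁻¹ * (x' * x) * b * ((x * x')⁻¹ * (x' * x))⁻¹ =
          x'⁻¹ * x⁻¹ * (x' * (x * b * x⁻¹) * x'⁻¹) * x * x' := by group
        _ = b := by rw [← hxy b hb]; group
    · intro h
      rw [hq1, hCm] at h
      have h1 := h n hn
      rw [xn, mul_eq_left] at h1
      exact hs1 h1
    · intro h
      rw [hq1, hCm] at h
      have h1 := h n hn
      rw [xn', mul_eq_left] at h1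
      exact hs1' h1
  have h1 : x⁻¹ * x' ∈ C := by
    rw [← inv_mul_eq_one, ← map_inv, ← map_mul, hq1] at key
    exact key
  intro b hb
  have h2 := (hCm _).1 h1 b hb
  calc x * b * x⁻¹ = x * (x⁻¹ * x' * b * (x⁻¹ * x')⁻¹) * x⁻¹ := by rw [h2]
    _ = x' * b * x'⁻¹ := by group

theorem exists_align [Finite G] {S : Sylow 2 G} {V₁ L₁ V₂ L₂ : Subgroup G} {M₁ : FiveMod V₁ L₁}
    {M₂ : FiveMod V₂ L₂} (t₁ : Dih S M₁) (t₂ : Dih S M₂) {y : G}
    (hy : y * M₂.e nn * y⁻¹ = M₁.e nn)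
    (nc : ∀ P : Sylow 2 G, ¬ (P : Subgroup G) ≤ centralizer ({M₁.e nn} : Set G))
    (hB₁ : ∀ b ∈ zc ((S : Subgroup G) ⊓ centralizer ({M₁.e nn} : Set G)), ∀ g ∈ (S : Subgroup G),
      g * b * g⁻¹ = b ∨ g * b * g⁻¹ = b * M₁.e ss)
    (hB₂ : ∀ b ∈ zc ((S : Subgroup G) ⊓ centralizer ({M₂.e nn} : Set G)), ∀ g ∈ (S : Subgroup G),
      g * b * g⁻¹ = b ∨ g * b * g⁻¹ = b * M₂.e ss) :
    ∃ g h : G, y = h * g ∧ (∀ x ∈ (S : Subgroup G), g * x * g⁻¹ ∈ (S : Subgroup G)) ∧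
      h * M₁.e nn = M₁.e nn * h ∧ g * M₂.e nn * g⁻¹ = M₁.e nn ∧ g * M₂.e aa * g⁻¹ = M₁.e aa := by
  set N := centralizer ({M₁.e nn} : Set G) with hN
  set T := (S : Subgroup G) ⊓ N with hT
  set T₂ := (S : Subgroup G) ⊓ centralizer ({M₂.e nn} : Set G) with hT₂
  have hcard : Nat.card T = Nat.card T₂ := by
    have h1 := t₁.card_S
    have h2 := t₂.card_S
    rw [← hN, ← hT] at h1
    rw [← hT₂] at h2
    omega
  have hTp : IsPGroup 2 T := S.isPGroup'.to_le inf_le_left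
  have hT₂p : IsPGroup 2 T₂ := S.isPGroup'.to_le inf_le_left
  -- conjugate `T₂ ^ y` to `T` in `N`
  have h1 : cj y T₂ ≤ N := by
    rintro _ ⟨x, hx, rfl⟩
    refine mem_C.2 ?_
    have h2 := mem_C.1 hx.2
    change y * x * y⁻¹ * M₁.e nn = M₁.e nn * (y * x * y⁻¹)
    rw [← hy]
    calc y * x * y⁻¹ * (y * M₂.e nn * y⁻¹) = y * (x * M₂.e nn) * y⁻¹ := by group
      _ = y * (M₂.e nn * x) * y⁻¹ := by rw [h2]
      _ = y * M₂.e nn * y⁻¹ * (y * x * y⁻¹) := by group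
  obtain ⟨c, hcN, hc⟩ := TTn.exists_conj_le_of_odd_relIndex hTp (t₁.not_dvd nc)
    (isPGroup_cj y hT₂p) h1
  have hcn : c * M₁.e nn = M₁.e nn * c := mem_C.1 hcN
  obtain ⟨k, hk⟩ : ∃ k, k = c * y := ⟨_, rfl⟩
  have hkT : cj k T₂ = T := by
    refine eq_of_le_of_card_ge ?_ ?_
    · rintro _ ⟨x, hx, rfl⟩
      have h2 := hc (y * x * y⁻¹) ⟨x, hx, rfl⟩
      have h3 : c * (y * x * y⁻¹) * c⁻¹ = k * x * k⁻¹ := by rw [hk]; group
      rw [h3] at h2
      exact h2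
    · rw [hcard]
      exact (Nat.card_congr (T₂.equivMapOfInjective _ (MulAut.conj k).injective).toEquiv).le
  have hkn : k * M₂.e nn * k⁻¹ = M₁.e nn := by
    have h2 : k * M₂.e nn * k⁻¹ = c * (y * M₂.e nn * y⁻¹) * c⁻¹ := by rw [hk]; group
    rw [h2, hy, hcn, mul_inv_cancel_right]
  -- transport of `zc T₂`
  have hkz : ∀ {b : G}, b ∈ zc T₂ → k * b * k⁻¹ ∈ zc T := by
    intro b hb
    obtain ⟨h3, h4, h5⟩ := MinSimple.VModule.mem_zc.1 hb
    refine MinSimple.VModule.mem_zc.2 ⟨?_, ?_, ?_⟩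
    · rw [← hkT]; exact ⟨_, h3, rfl⟩
    · intro u hu
      rw [← hkT] at hu
      obtain ⟨u', hu', rfl⟩ := hu
      have h6 := h4 u' hu'
      change k * u' * k⁻¹ * (k * b * k⁻¹) = k * b * k⁻¹ * (k * u' * k⁻¹)
      calc k * u' * k⁻¹ * (k * b * k⁻¹) = k * (u' * b) * k⁻¹ := by group
        _ = k * (b * u') * k⁻¹ := by rw [h6]
        _ = k * b * k⁻¹ * (k * u' * k⁻¹) := by group
    · rw [pow_two] at h5 ⊢
      calc k * b * k⁻¹ * (k * b * k⁻¹) = k * (b * b) * k⁻¹ := by group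
        _ = 1 := by rw [h5]; group
  have hkz' : ∀ {b : G}, b ∈ zc T → k⁻¹ * b * k ∈ zc T₂ := by
    intro b hb
    obtain ⟨h3, h4, h5⟩ := MinSimple.VModule.mem_zc.1 hb
    have hT2k : ∀ u, u ∈ T₂ ↔ k * u * k⁻¹ ∈ T := by
      intro u
      rw [← hkT, mem_cj]
      have e : k⁻¹ * (k * u * k⁻¹) * k = u := by group
      rw [e]
    refine MinSimple.VModule.mem_zc.2 ⟨?_, ?_, ?_⟩
    · rw [hT2k]
      have e : k * (k⁻¹ * b * k) * k⁻¹ = b := by group
      rwa [e]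
    · intro u hu
      have h6 := h4 _ ((hT2k u).1 hu)
      calc u * (k⁻¹ * b * k) = k⁻¹ * (k * u * k⁻¹ * b) * k := by group
        _ = k⁻¹ * (b * (k * u * k⁻¹)) * k := by rw [h6]
        _ = k⁻¹ * b * k * u := by group
    · rw [pow_two] at h5 ⊢
      calc k⁻¹ * b * k * (k⁻¹ * b * k) = k⁻¹ * (b * b) * k := by group
        _ = 1 := by rw [h5]; group
  have hzc : ∀ b ∈ zc T, ∀ b' ∈ zc T, b * b' = b' * b := MinSimple.VModule.zc_comm T
  have hz2 : ∀ b ∈ zc T, b * b = 1 := fun b hb => by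
    rw [← pow_two]; exact MinSimple.VModule.zc_sq T b hb
  obtain ⟨x, hxS, hx⟩ := t₁.exists_swap
  obtain ⟨x₂, hx₂S, hx₂⟩ := t₂.exists_swap
  obtain ⟨x', hx'⟩ : ∃ x', x' = k * x₂ * k⁻¹ := ⟨_, rfl⟩
  obtain ⟨s', hs'⟩ : ∃ s', s' = k * M₂.e ss * k⁻¹ := ⟨_, rfl⟩
  have hconj : ∀ g b c : G, g * (b * c) * g⁻¹ = g * b * g⁻¹ * (g * c * g⁻¹) := fun g b c => by group
  have hnB : M₁.e nn ∈ zc T := t₁.n_mem_zT
  have hsB : M₁.e ss ∈ zc T := t₁.s_mem_zT
  have hs'B : s' ∈ zc T := hs' ▸ hkz t₂.s_mem_zT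
  have hs'1 : s' ≠ 1 := by
    rw [hs', Ne, mul_inv_eq_one, mul_eq_left]
    exact s_ne M₂
  have ha' : k * M₂.e aa * k⁻¹ = M₁.e nn * s' := by rw [← ns M₂, hconj, hkn, hs']
  have hSH : (S : Subgroup G) ≤ normalizer (T : Set G) := t₁.S_le_normalizer_T
  have hS₂H : cj k (S : Subgroup G) ≤ normalizer (T : Set G) := by
    rw [← hkT, ← cj_normalizer]
    exact cj_mono k t₂.S_le_normalizer_T
  have hx'S : x' ∈ cj k (S : Subgroup G) := ⟨x₂, hx₂S, hx'.symm⟩
  have ax : ∀ b ∈ zc T, x * b * x⁻¹ = b ∨ x * b * x⁻¹ = b * M₁.e ss := fun b hb => hB₁ b hb x hxS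
  have ax' : ∀ b ∈ zc T, x' * b * x'⁻¹ = b ∨ x' * b * x'⁻¹ = b * s' := by
    intro b hb
    have e1 : x' * b * x'⁻¹ = k * (x₂ * (k⁻¹ * b * k) * x₂⁻¹) * k⁻¹ := by rw [hx']; group
    have e2 : k * (k⁻¹ * b * k) * k⁻¹ = b := by group
    rcases hB₂ _ (hkz' hb) x₂ hx₂S with h2 | h2
    · left
      rw [e1, h2, e2]
    · right
      rw [e1, h2, hconj, e2, hs']
  have xn : x * M₁.e nn * x⁻¹ = M₁.e nn * M₁.e ss := by rw [Dih.tt_n hx, ns]
  have xs : x * M₁.e ss * x⁻¹ = M₁.e ss := Dih.tt_s hx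
  have xn' : x' * M₁.e nn * x'⁻¹ = M₁.e nn * s' := by
    have e1 : x' * M₁.e nn * x'⁻¹ = k * (x₂ * (k⁻¹ * M₁.e nn * k) * x₂⁻¹) * k⁻¹ := by rw [hx']; group
    have e2 : k⁻¹ * M₁.e nn * k = M₂.e nn := by rw [← hkn]; group
    rw [e1, e2, Dih.tt_n hx₂, ha']
  have ys' : x' * s' * x'⁻¹ = s' := by
    have e1 : x' * s' * x'⁻¹ = k * (x₂ * M₂.e ss * x₂⁻¹) * k⁻¹ := by rw [hx', hs']; group
    rw [e1, Dih.tt_s hx₂, hs']
  -- elements of `S` and of `S ^ k`
  have hTb : ∀ g ∈ T, ∀ b ∈ zc T, g * b * g⁻¹ = b := by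
    intro g hg b hb
    rw [(MinSimple.VModule.mem_zc.1 hb).2.1 g hg, mul_inv_cancel_right]
  have hmem : ∀ g ∈ (S : Subgroup G), g ∈ T ∨ g * x ∈ T := fun g hg => t₁.mem_or hxS hx hg
  have hmem' : ∀ g ∈ cj k (S : Subgroup G), g ∈ T ∨ g * x' ∈ T := by
    rintro _ ⟨g, hg, rfl⟩
    change k * g * k⁻¹ ∈ T ∨ k * g * k⁻¹ * x' ∈ T
    rcases t₂.mem_or hx₂S hx₂ hg with h2 | h2
    · left
      rw [← hkT]
      exact ⟨g, h2, rfl⟩
    · right
      rw [← hkT]
      refine ⟨g * x₂, h2, ?_⟩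
      change k * (g * x₂) * k⁻¹ = _
      rw [hx']
      group
  -- (i)
  have xs' : x * s' * x⁻¹ = s' := by
    rcases ax s' hs'B with h2 | h2
    · exact h2
    exfalso
    refine nc_conj nc x' S ?_
    rw [xn']
    have h3 : x * (M₁.e nn * s') * x⁻¹ = M₁.e nn * s' := by
      rw [hconj, xn, h2, hzc s' hs'B _ hsB, mul_assoc, ← mul_assoc (M₁.e ss), M₁.e_sq, one_mul]
    intro g hg
    refine mem_C.2 ?_
    rcases hmem g hg with h4 | h4
    · exact (MinSimple.VModule.mem_zc.1 (mul_mem hnB hs'B)).2.1 g h4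
    · have h5 := (MinSimple.VModule.mem_zc.1 (mul_mem hnB hs'B)).2.1 _ h4
      rw [mul_inv_eq_iff_eq_mul] at h3
      have h6 : g * (M₁.e nn * s') * x = M₁.e nn * s' * g * x := by
        calc g * (M₁.e nn * s') * x = g * (M₁.e nn * s' * x) := by group
          _ = g * (x * (M₁.e nn * s')) := by rw [h3]
          _ = g * x * (M₁.e nn * s') := by group
          _ = M₁.e nn * s' * (g * x) := h5
          _ = M₁.e nn * s' * g * x := by group
      exact mul_right_cancel h6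
  -- (ii)
  have ys : x' * M₁.e ss * x'⁻¹ = M₁.e ss := by
    rcases ax' _ hsB with h2 | h2
    · exact h2
    exfalso
    refine nc_conj nc x (k • S) ?_
    rw [xn]
    have h3 : x' * (M₁.e nn * M₁.e ss) * x'⁻¹ = M₁.e nn * M₁.e ss := by
      rw [hconj, xn', h2, hzc _ hsB s' hs'B, mul_assoc, ← mul_assoc s', hz2 s' hs'B, one_mul]
    intro g hg
    have hg' : g ∈ cj k (S : Subgroup G) := hg
    refine mem_C.2 ?_
    rcases hmem' g hg' with h4 | h4
    · exact (MinSimple.VModule.mem_zc.1 (mul_mem hnB hsB)).2.1 g h4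
    · have h5 := (MinSimple.VModule.mem_zc.1 (mul_mem hnB hsB)).2.1 _ h4
      rw [mul_inv_eq_iff_eq_mul] at h3
      have h6 : g * (M₁.e nn * M₁.e ss) * x' = M₁.e nn * M₁.e ss * g * x' := by
        calc g * (M₁.e nn * M₁.e ss) * x' = g * (M₁.e nn * M₁.e ss * x') := by group
          _ = g * (x' * (M₁.e nn * M₁.e ss)) := by rw [h3]
          _ = g * x' * (M₁.e nn * M₁.e ss) := by group
          _ = M₁.e nn * M₁.e ss * (g * x') := h5
          _ = M₁.e nn * M₁.e ss * g * x' := by group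
      exact mul_right_cancel h6
  -- (iii)
  have hsame := same_action (S := S) (H := normalizer (T : Set G)) (B := zc T) hSH
    (normalizer_le_normalizer_zc T) hzc hz2 (x := x) (x' := x') (n := M₁.e nn) (s := M₁.e ss) (s' := s')
    (fun g hg => (hmem g hg).imp (fun h4 => hTb g h4) fun h4 => hTb _ h4) (hSH hxS) (hS₂H hx'S) hnB hsB hs'B
    (s_ne M₁) hs'1 ax ax' xn xn' xs xs' ys ys'
  -- (iv)
  have hss : s' = M₁.e ss := by
    have h2 := hsame _ hnB
    rw [xn, xn'] at h2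
    exact (mul_left_cancel h2).symm
  have hks : k * M₂.e ss * k⁻¹ = M₁.e ss := by rw [← hs', hss]
  -- (v)
  obtain ⟨C, hC⟩ : ∃ C, C = normalizer (T : Set G) ⊓ centralizer (zc T : Set G) := ⟨_, rfl⟩
  have hSK : (S : Subgroup G) ≤ C ⊔ S := le_sup_right
  have hTC : T ≤ C := by
    rw [hC]
    exact le_inf le_normalizer (le_centralizer_zc T)
  have hxx' : x⁻¹ * x' ∈ C := by
    rw [hC]
    refine ⟨(normalizer (T : Set G)).mul_mem ((normalizer (T : Set G)).inv_mem (hSH hxS)) (hS₂H hx'S),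
      mem_centralizer_iff.2 fun b hb => ?_⟩
    have h2 := hsame b hb
    calc b * (x⁻¹ * x') = x⁻¹ * (x * b * x⁻¹) * x' := by group
      _ = x⁻¹ * (x' * b * x'⁻¹) * x' := by rw [h2]
      _ = x⁻¹ * x' * b := by group
  have hx'K : x' ∈ C ⊔ (S : Subgroup G) := by
    have e : x' = x * (x⁻¹ * x') := by group
    rw [e]
    exact mul_mem (mem_sup_right hxS) (mem_sup_left hxx')
  have hS₂K : cj k (S : Subgroup G) ≤ C ⊔ S := by
    intro g hg
    rcases hmem' g hg with h4 | h4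
    · exact mem_sup_left (hTC h4)
    · have h5 := mul_mem (mem_sup_left (hTC h4) : g * x' ∈ C ⊔ (S : Subgroup G)) (inv_mem hx'K)
      rwa [mul_inv_cancel_right] at h5
  obtain ⟨c', hc'K, hc'⟩ := exists_conj_le_sylow S _ _ hSK (isPGroup_cj k S.isPGroup') hS₂K
  let Pr : Subgroup G :=
    { carrier := {g | (g * M₁.e nn * g⁻¹ = M₁.e nn ∧ g * M₁.e aa * g⁻¹ = M₁.e aa) ∨
        (g * M₁.e nn * g⁻¹ = M₁.e aa ∧ g * M₁.e aa * g⁻¹ = M₁.e nn)}
      one_mem' := Or.inl ⟨by group, by group⟩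
      mul_mem' := by
        intro a b ha hb
        have e : ∀ z : G, a * b * z * (a * b)⁻¹ = a * (b * z * b⁻¹) * a⁻¹ := fun z => by group
        rcases hb with ⟨h2, h3⟩ | ⟨h2, h3⟩ <;> rcases ha with ⟨h4, h5⟩ | ⟨h4, h5⟩
        · exact Or.inl ⟨by rw [e, h2, h4], by rw [e, h3, h5]⟩
        · exact Or.inr ⟨by rw [e, h2, h4], by rw [e, h3, h5]⟩
        · exact Or.inr ⟨by rw [e, h2, h5], by rw [e, h3, h4]⟩
        · exact Or.inl ⟨by rw [e, h2, h5], by rw [e, h3, h4]⟩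
      inv_mem' := by
        intro a ha
        have e : ∀ z w : G, a * z * a⁻¹ = w → a⁻¹ * w * a⁻¹⁻¹ = z := fun z w h => by rw [← h]; group
        rcases ha with ⟨h4, h5⟩ | ⟨h4, h5⟩
        · exact Or.inl ⟨e _ _ h4, e _ _ h5⟩
        · exact Or.inr ⟨e _ _ h5, e _ _ h4⟩ }
  have hPr : C ⊔ (S : Subgroup G) ≤ Pr := by
    have haB : M₁.e aa ∈ zc T := by rw [← ns M₁]; exact mul_mem hnB hsB
    have hCP : C ≤ Pr := by
      intro g hg
      rw [hC] at hg
      refine Or.inl ⟨?_, ?_⟩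
      · rw [← mem_centralizer_iff.1 hg.2 _ hnB, mul_inv_cancel_right]
      · rw [← mem_centralizer_iff.1 hg.2 _ haB, mul_inv_cancel_right]
    have hxP : x ∈ Pr := Or.inr ⟨Dih.tt_n hx, Dih.tt_a hx⟩
    refine sup_le hCP fun g hg => ?_
    rcases hmem g hg with h4 | h4
    · exact hCP (hTC h4)
    · have h5 := Pr.mul_mem (hCP (hTC h4)) (Pr.inv_mem hxP)
      rwa [mul_inv_cancel_right] at h5
  have hc's : ∀ {g : G}, g ∈ Pr → g * M₁.e ss * g⁻¹ = M₁.e ss := by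
    intro g hg
    rw [← na M₁, hconj]
    rcases hg with ⟨h2, h3⟩ | ⟨h2, h3⟩
    · rw [h2, h3]
    · rw [h2, h3, M₁.e_comm]
  -- the element `r`
  obtain ⟨r, hrS, hrn, hrs⟩ : ∃ r : G, (∀ x ∈ cj k (S : Subgroup G), r * x * r⁻¹ ∈ (S : Subgroup G)) ∧
      r * M₁.e nn * r⁻¹ = M₁.e nn ∧ r * M₁.e ss * r⁻¹ = M₁.e ss := by
    have h5 := hPr hc'K
    have h6 := hc's h5
    rcases h5 with ⟨h2, h3⟩ | ⟨h2, h3⟩
    · exact ⟨c', hc', h2, h6⟩
    · refine ⟨x * c', fun z hz => ?_, ?_, ?_⟩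
      · have h7 := mul_mem (mul_mem hxS (hc' z hz)) (inv_mem hxS)
        have h8 : x * (c' * z * c'⁻¹) * x⁻¹ = x * c' * z * (x * c')⁻¹ := by group
        rwa [h8] at h7
      · calc x * c' * M₁.e nn * (x * c')⁻¹ = x * (c' * M₁.e nn * c'⁻¹) * x⁻¹ := by group
          _ = M₁.e nn := by rw [h2, Dih.tt_a hx]
      · calc x * c' * M₁.e ss * (x * c')⁻¹ = x * (c' * M₁.e ss * c'⁻¹) * x⁻¹ := by group
          _ = M₁.e ss := by rw [h6, Dih.tt_s hx]
  have hrn' : r * M₁.e nn = M₁.e nn * r := by rwa [mul_inv_eq_iff_eq_mul] at hrn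
  refine ⟨r * k, y * (r * k)⁻¹, by group, ?_, ?_, ?_, ?_⟩
  · intro x hx
    have h2 := hrS (k * x * k⁻¹) ⟨x, hx, rfl⟩
    have h3 : r * (k * x * k⁻¹) * r⁻¹ = r * k * x * (r * k)⁻¹ := by group
    rwa [h3] at h2
  · have h2 : y * (r * k)⁻¹ = c⁻¹ * r⁻¹ := by rw [hk]; group
    rw [h2]
    have h3 : (r * c) * M₁.e nn = M₁.e nn * (r * c) := by
      rw [mul_assoc, hcn, ← mul_assoc, hrn', mul_assoc]
    have h4 : c⁻¹ * r⁻¹ = (r * c)⁻¹ := by group
    rw [h4, inv_mul_eq_iff_eq_mul, ← mul_assoc, h3, mul_inv_cancel_right]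
  · calc r * k * M₂.e nn * (r * k)⁻¹ = r * (k * M₂.e nn * k⁻¹) * r⁻¹ := by group
      _ = M₁.e nn := by rw [hkn, hrn]
  · rw [← ns M₂, ← ns M₁]
    calc r * k * (M₂.e nn * M₂.e ss) * (r * k)⁻¹ =
          (r * (k * M₂.e nn * k⁻¹) * r⁻¹) * (r * (k * M₂.e ss * k⁻¹) * r⁻¹) := by group
      _ = M₁.e nn * M₁.e ss := by rw [hkn, hks, hrn, hrs]

end Cfsg.Agent.Omega.TTn.Z

end

section


/-!
# #15257: a labelled T-T pair with `n` not 2-central, `V_P = V₀ × A`, is a `Z.Base`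

* `two_of_labZ` : the position `NoTk.Two` for `A`, `A₂ ^ y`;
* `exists_one_side`, `exists_base` : the normal form.
-/

set_option autoImplicit false
set_option linter.unusedSectionVars false

namespace Cfsg.Agent.Omega.TTn.Z

open Subgroup Cfsg Cfsg.Agent.ZN Cfsg.Agent.ZN.ChoiceBase
open Cfsg.Agent.Omega.S5.Mod Cfsg.Agent.Omega.S5.TT
open Cfsg.Agent.Omega.S5.TT.Pos (na ns as sn n_ne s_ne a_ne n_ne_a n_ne_s a_ne_s e_sq' mem_C)
open Cfsg.Agent.Omega.S5.Def Cfsg.Agent.Omega.S5.Syl Cfsg.Agent.Omega.S5.Pair Cfsg.Agent.Omega.S5.Main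
open Cfsg.Agent.Omega.F4Leaf.Def Cfsg.Agent.Omega.MinPar
open Cfsg.Agent.Omega.FrameFF (cv)
open scoped commutatorElement

universe u

variable {G : Type u} [Group G]

/-! ### The position of `A` and `A₂ ^ y` -/

theorem _root_.Cfsg.Agent.Omega.F4Leaf.Def.Split.A_le_S [Finite G] {S : Sylow 2 G} {P A : Subgroup G} {m : ℕ}
    {ε : (Fin (2 ^ m + 1) → ZMod 2) → G} (h : Split (S : Subgroup G) P m A ε) (hP : IsParS (S : Subgroup G) P) :
    A ≤ (S : Subgroup G) :=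
  NSix.NoTk.le_sylow S h.even.isPGroup (hP.le.trans h.even.le_normalizer)

theorem _root_.Cfsg.Agent.Omega.F4Leaf.Def.Split.A_le_P [Finite G] {S : Sylow 2 G} {P A : Subgroup G} {m : ℕ}
    {ε : (Fin (2 ^ m + 1) → ZMod 2) → G} (h : Split (S : Subgroup G) P m A ε) (hP : IsParS (S : Subgroup G) P) :
    A ≤ P := (h.A_le_S hP).trans hP.le

/-- an offender `v a`, `v` centralising `V`: the transpositions are induced by the `a`'s -/
theorem side_of {n : ℕ} {ε : (Fin n → ZMod 2) → G} {W W' D V L : Subgroup G} (h : EvenSet n V L ε)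
    (hW : W' ≤ W) (hD : D ≤ centralizer (V : Set G)) (hWD : ∀ w ∈ W, ∃ d ∈ D, ∃ a ∈ W', w = d * a)
    (hs : Side W ε) : Side W' ε := by
  intro a ha
  obtain ⟨τ, h1, h2⟩ := hs a (hW ha)
  refine ⟨τ, h1, fun i hi => ⟨(h2 i hi).1, ?_⟩⟩
  obtain ⟨b, hb, h3⟩ := (h2 i hi).2
  obtain ⟨d, hd, a', ha', rfl⟩ := hWD b hb
  refine ⟨a', ha', ?_⟩
  have h4 : Acts ε d⁻¹ 1 := h.acts_one_iff.2 (inv_mem (hD hd))
  have h5 := h4.mul h3
  rwa [inv_mul_cancel_left, one_mul] at h5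

section labZ

variable [Finite G] {S : Sylow 2 G} {P₁ P₂ : Subgroup G} {y : G} {m m' : ℕ} {A A₂ : Subgroup G}
  {ε : (Fin (2 ^ m + 1) → ZMod 2) → G} {ε₂ : (Fin (2 ^ m' + 1) → ZMod 2) → G}

/-- `V₀' ^ y` centralises `V`, `V₀` centralises `V' ` -/
theorem two_of_labZ (hG : IsCharacteristicTwoType G) (hl : LabTwoZ S P₁ P₂ y m m' A ε A₂ ε₂) :
    NSix.NoTk.Two A (cj y A₂) P₁ (cj y P₂) (S : Subgroup G) ((y • S : Sylow 2 G) : Subgroup G) ε
      fun x => y * ε₂ x * y⁻¹ := by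
  have hA : A ≤ zl (S : Subgroup G) P₁ := hl.split.A_le
  have hA₂ : A₂ ≤ zl (S : Subgroup G) P₂ := hl.split₂.A_le
  have hcA : ∀ v ∈ cv (S : Subgroup G) P₁, ∀ s ∈ (S : Subgroup G), s * v = v * s := fun v hv s hs =>
    hl.split.comm (hl.pair.star₁.le hs) hv
  have hcA₂ : ∀ v ∈ cv (S : Subgroup G) P₂, ∀ s ∈ (S : Subgroup G), s * v = v * s := fun v hv s hs =>
    hl.split₂.comm (hl.pair.star₂.le hs) hv
  have hin : A ≤ cj y (S : Subgroup G) := hA.trans hl.ge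
  have hin' : cj y A₂ ≤ (S : Subgroup G) := (cj_mono y hA₂).trans hl.le
  refine
    { even := hl.split.even
      even' := hl.split₂.even.conj y
      le := hl.pair.star₁.le
      le' := by rw [NSix.NoTk.coe_smul]; exact cj_mono y hl.pair.star₂.le
      fix := hl.split.fix0
      fix' := by rw [NSix.NoTk.coe_smul]; exact NSix.NoTk.fix0_conj hl.split₂.fix0 y
      in' := hin'
      in_ := by rw [NSix.NoTk.coe_smul]; exact hin
      side := ?_
      side' := ?_ }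
  · refine side_of hl.split.even (cj_mono y hA₂) (D := cj y (cv (S : Subgroup G) P₂)) ?_ ?_ hl.side
    · rintro _ ⟨v, hv, rfl⟩
      refine mem_centralizer_iff.2 fun a ha => ?_
      have h1 : y⁻¹ * a * y ∈ (S : Subgroup G) := by rw [← mem_cj]; exact hin ha
      have h2 := hcA₂ v hv _ h1
      change a * (y * v * y⁻¹) = y * v * y⁻¹ * a
      calc a * (y * v * y⁻¹) = y * (y⁻¹ * a * y * v) * y⁻¹ := by group
        _ = y * (v * (y⁻¹ * a * y)) * y⁻¹ := by rw [h2]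
        _ = y * v * y⁻¹ * a := by group
    · rintro _ ⟨w, hw, rfl⟩
      obtain ⟨v, hv, a, ha, rfl⟩ := hl.split₂.mul_eq hG hl.pair.star₂ hw
      exact ⟨_, ⟨v, hv, rfl⟩, _, ⟨a, ha, rfl⟩, map_mul _ _ _⟩
  · refine side_of (hl.split₂.even.conj y) hA (D := cv (S : Subgroup G) P₁) ?_ ?_ hl.side₂
    · intro v hv
      refine mem_centralizer_iff.2 fun a ha => hcA v hv a (hin' ha)
    · intro w hw
      exact hl.split.mul_eq hG hl.pair.star₁ hw

/-- `[V, V'] = [A, A₂ ^ y]` -/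
theorem comm_labZ (hG : IsCharacteristicTwoType G) (hl : LabTwoZ S P₁ P₂ y m m' A ε A₂ ε₂) :
    ⁅zl (S : Subgroup G) P₁, cj y (zl (S : Subgroup G) P₂)⁆ = ⁅A, cj y A₂⁆ := by
  have hA : A ≤ zl (S : Subgroup G) P₁ := hl.split.A_le
  have hA₂ : A₂ ≤ zl (S : Subgroup G) P₂ := hl.split₂.A_le
  have hcA : ∀ v ∈ cv (S : Subgroup G) P₁, ∀ s ∈ (S : Subgroup G), s * v = v * s := fun v hv s hs =>
    hl.split.comm (hl.pair.star₁.le hs) hv
  have hcA₂ : ∀ v ∈ cv (S : Subgroup G) P₂, ∀ s ∈ (S : Subgroup G), s * v = v * s := fun v hv s hs =>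
    hl.split₂.comm (hl.pair.star₂.le hs) hv
  refine le_antisymm ?_ (commutator_mono hA (cj_mono y hA₂))
  rw [commutator_le]
  rintro v hv _ ⟨w, hw, rfl⟩
  obtain ⟨d, hd, a, ha, rfl⟩ := hl.split.mul_eq hG hl.pair.star₁ hv
  obtain ⟨d', hd', a', ha', rfl⟩ := hl.split₂.mul_eq hG hl.pair.star₂ hw
  change ⁅d * a, y * (d' * a') * y⁻¹⁆ ∈ _
  have hwS : y * (d' * a') * y⁻¹ ∈ (S : Subgroup G) := hl.le ⟨_, hw, rfl⟩
  have h1 : y * (d' * a') * y⁻¹ * d = d * (y * (d' * a') * y⁻¹) := hcA d hd _ hwS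
  have haS : y⁻¹ * a * y ∈ (S : Subgroup G) := by rw [← mem_cj]; exact hl.ge (hA ha)
  have h2 : y⁻¹ * a * y * d' = d' * (y⁻¹ * a * y) := hcA₂ d' hd' _ haS
  have h3 : a * (y * d' * y⁻¹) = y * d' * y⁻¹ * a := by
    calc a * (y * d' * y⁻¹) = y * (y⁻¹ * a * y * d') * y⁻¹ := by group
      _ = y * (d' * (y⁻¹ * a * y)) * y⁻¹ := by rw [h2]
      _ = y * d' * y⁻¹ * a := by group
  have h4 : d * a = a * d := (hl.split.comm (hl.split.A_le_P hl.pair.star₁ ha) hd).symm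
  have h5 : d' * a' = a' * d' := (hl.split₂.comm (hl.split₂.A_le_P hl.pair.star₂ ha') hd').symm
  have e : ⁅d * a, y * (d' * a') * y⁻¹⁆ = ⁅a, y * a' * y⁻¹⁆ := by
    rw [commutatorElement_def, commutatorElement_def]
    calc d * a * (y * (d' * a') * y⁻¹) * (d * a)⁻¹ * (y * (d' * a') * y⁻¹)⁻¹ =
        a * (d * (y * (d' * a') * y⁻¹)) * d⁻¹ * a⁻¹ * (y * (d' * a') * y⁻¹)⁻¹ := by rw [h4]; group
      _ = a * (y * (d' * a') * y⁻¹ * d) * d⁻¹ * a⁻¹ * (y * (d' * a') * y⁻¹)⁻¹ := by rw [h1]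
      _ = a * (y * (d' * a') * y⁻¹) * a⁻¹ * (y * (d' * a') * y⁻¹)⁻¹ := by group
      _ = a * (y * (a' * d') * y⁻¹) * a⁻¹ * (y * (a' * d') * y⁻¹)⁻¹ := by rw [h5]
      _ = a * (y * a' * y⁻¹) * (y * d' * y⁻¹ * a * (y * d' * y⁻¹)⁻¹ )⁻¹ * (y * a' * y⁻¹)⁻¹ := by group
      _ = a * (y * a' * y⁻¹) * (a * (y * d' * y⁻¹) * (y * d' * y⁻¹)⁻¹ )⁻¹ * (y * a' * y⁻¹)⁻¹ := by rw [h3]
      _ = a * (y * a' * y⁻¹) * a⁻¹ * (y * a' * y⁻¹)⁻¹ := by group
  rw [e]
  exact commutator_mem_commutator ha ⟨a', ha', rfl⟩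

end labZ

/-! ### One side of a T-T pair -/

theorem exists_one_side [Finite G] {S : Sylow 2 G} {V L W : Subgroup G} (M : FiveMod V L)
    (hS : (S : Subgroup G) ≤ L) (hWS : W ≤ (S : Subgroup G)) {i j : Fin 5} (hij : i ≠ j)
    (hex : ∃ b ∈ W, M.Ind b (Equiv.swap i j)) (hall : ∀ b ∈ W, M.Ind b 1 ∨ M.Ind b (Equiv.swap i j)) :
    ∃ M' : FiveMod V L, Dih S M' ∧ (∀ w ∈ W, ∃ p, Tp p ∧ M'.Ind w p) ∧
      ∃ w ∈ W, M'.Ind w (Equiv.swap 0 1) := by
  obtain ⟨σ, hd, hd'⟩ := Cfsg.Agent.Omega.S5.Types.exists_relabel M S hS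
  have t : Dih S (M.relabel σ) := ⟨hS, hd, hd'⟩
  obtain ⟨w₀, hw₀, hi₀⟩ := hex
  have e0 : σ⁻¹ * Equiv.swap i j * σ = Equiv.swap (σ⁻¹ i) (σ⁻¹ j) := by
    rw [Equiv.swap_apply_apply, inv_inv]
  have hij' : σ⁻¹ i ≠ σ⁻¹ j := fun h => hij (σ⁻¹.injective h)
  obtain ⟨i', hi'⟩ : ∃ i', i' = σ⁻¹ i := ⟨_, rfl⟩
  obtain ⟨j', hj'⟩ : ∃ j', j' = σ⁻¹ j := ⟨_, rfl⟩
  rw [← hi', ← hj'] at e0 hij'
  have hp₀ : (M.relabel σ).Ind w₀ (Equiv.swap i' j') := by
    have := FiveMod.relabel_ind σ hi₀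
    rwa [e0] at this
  have hp₀d := hd w₀ (hWS hw₀) _ hp₀
  have hW : ∀ w ∈ W, (M.relabel σ).Ind w 1 ∨ (M.relabel σ).Ind w (Equiv.swap i' j') := by
    intro w hw
    rcases hall w hw with h1 | h1
    · left
      have := FiveMod.relabel_ind σ h1
      rwa [show σ⁻¹ * 1 * σ = (1 : Equiv.Perm (Fin 5)) by group] at this
    · right
      have := FiveMod.relabel_ind σ h1
      rwa [e0] at this
  rcases TTn.swap_d8 i' j' hij' hp₀d with h1 | h1
  · rw [h1] at hW hp₀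
    refine ⟨M.relabel σ, t, fun w hw => ?_, w₀, hw₀, hp₀⟩
    rcases hW w hw with h2 | h2
    · exact ⟨1, Or.inl rfl, h2⟩
    · exact ⟨_, Or.inr rfl, h2⟩
  · rw [h1] at hW hp₀
    have e : tt⁻¹ * Equiv.swap 2 3 * tt = (Equiv.swap 0 1 : Equiv.Perm (Fin 5)) := by decide
    refine ⟨(M.relabel σ).relabel tt, t.relabel, fun w hw => ?_, w₀, hw₀, ?_⟩
    · rcases hW w hw with h2 | h2
      · refine ⟨1, Or.inl rfl, ?_⟩
        have := FiveMod.relabel_ind tt h2
        rwa [show tt⁻¹ * 1 * tt = (1 : Equiv.Perm (Fin 5)) by group] at this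
      · refine ⟨_, Or.inr rfl, ?_⟩
        have := FiveMod.relabel_ind tt h2
        rwa [e] at this
    · have := FiveMod.relabel_ind tt hp₀
      rwa [e] at this

/-- **The normal form.** -/
theorem exists_base [Finite G] (hG : IsCharacteristicTwoType G) {S : Sylow 2 G} {P₁ P₂ : Subgroup G} {y : G}
    {A A₂ : Subgroup G} {ε ε₂ : (Fin (2 ^ 2 + 1) → ZMod 2) → G} (hl : LabTwoZ S P₁ P₂ y 2 2 A ε A₂ ε₂)
    (hB₁ : ∀ M : FiveMod A P₁, Dih S M → ∀ b ∈ zc ((S : Subgroup G) ⊓ centralizer ({M.e nn} : Set G)),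
      ∀ g ∈ (S : Subgroup G), g * b * g⁻¹ = b ∨ g * b * g⁻¹ = b * M.e ss)
    (hB₂ : ∀ M : FiveMod A₂ P₂, Dih S M → ∀ b ∈ zc ((S : Subgroup G) ⊓ centralizer ({M.e nn} : Set G)),
      ∀ g ∈ (S : Subgroup G), g * b * g⁻¹ = b ∨ g * b * g⁻¹ = b * M.e ss)
    (hC : ¬ Cen (zl (S : Subgroup G) P₁) (cj y (zl (S : Subgroup G) P₂))) :
    ∃ (g k : G) (M₁ : FiveMod A P₁) (M₂ : FiveMod (cj g A₂) (cj g P₂)),
      (∀ x ∈ (S : Subgroup G), g * x * g⁻¹ ∈ (S : Subgroup G)) ∧ Base S M₁ M₂ k := by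
  have h2 := two_of_labZ hG hl
  have hcomm := comm_labZ hG hl
  have hS : (S : Subgroup G) ≤ P₁ := hl.pair.star₁.le
  have hS₂ : (S : Subgroup G) ≤ P₂ := hl.pair.star₂.le
  have hne : ⁅A, cj y A₂⁆ ≠ ⊥ := by
    rw [← hcomm]
    exact hl.pair.ne
  have hge : A ≤ cj y (S : Subgroup G) := hl.split.A_le.trans hl.ge
  -- the first side
  obtain ⟨i, j, hij, hex, hall⟩ := NSix.NoTk.acts_one_or hG le_rfl le_rfl h2
    (fun h0 => hne (by rw [commutator_comm]; exact commutator_eq_bot_iff_le_centralizer.2 h0))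
  obtain ⟨M₁, s₁, a₁, e₁⟩ := exists_one_side (S := S) (S5.OfEven.ofEven hl.split.even) hS h2.in' hij hex hall
  -- the second side
  obtain ⟨i', j', hij', ⟨b', hb', hb''⟩, hall'⟩ := NSix.NoTk.acts_one_or hG le_rfl le_rfl h2.symm
    (fun h0 => hne (commutator_eq_bot_iff_le_centralizer.2 h0))
  have hconj : ∀ (b : G) (p : Equiv.Perm (Fin 5)), Acts (fun x => y * ε₂ x * y⁻¹) b p →
      (S5.OfEven.ofEven hl.split₂.even).Ind (y⁻¹ * b * y) p := by
    intro b p hp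
    rw [S5.OfEven.ofEven_ind]
    rw [← acts_conj_label_iff y]
    have e : y * (y⁻¹ * b * y) * y⁻¹ = b := by group
    rw [e]
    exact hp
  have hAy : cj y⁻¹ A ≤ (S : Subgroup G) := by rw [cj_le_iff, inv_inv]; exact hge
  obtain ⟨M₂, s₂, a₂, e₂⟩ := exists_one_side (S := S) (W := cj y⁻¹ A) (S5.OfEven.ofEven hl.split₂.even) hS₂ hAy
    hij' ⟨y⁻¹ * b' * y, ⟨b', hb', by simp⟩, hconj _ _ hb''⟩ (by
      rintro _ ⟨b, hb, rfl⟩
      change (S5.OfEven.ofEven hl.split₂.even).Ind (y⁻¹ * b * y⁻¹⁻¹) 1 ∨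
        (S5.OfEven.ofEven hl.split₂.even).Ind (y⁻¹ * b * y⁻¹⁻¹) _
      rw [inv_inv]
      exact (hall' b hb).imp (hconj _ _) (hconj _ _))
  -- `y n₂ y⁻¹ = n`
  have a₂' : ∀ v ∈ A, ∃ p, Tp p ∧ (M₂.cj y).Ind v p := by
    intro v hv
    obtain ⟨p, hp, hi⟩ := a₂ (y⁻¹ * v * y) (by rw [mem_cj, inv_inv]; convert hv using 1; group)
    refine ⟨p, hp, ?_⟩
    have h1 := M₂.cj_ind (g := y) hi
    rwa [show y * (y⁻¹ * v * y) * y⁻¹ = v by group] at h1
  have hn : y * M₂.e nn * y⁻¹ = M₁.e nn := TTn.comm_eq (M := M₁) (M' := M₂.cj y) e₁ a₂'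
  have nc : ∀ P : Sylow 2 G, ¬ (P : Subgroup G) ≤ centralizer ({M₁.e nn} : Set G) := by
    intro P hP
    refine hC ⟨P, ?_⟩
    rw [hcomm]
    exact TTn.comm_le a₁ hP
  obtain ⟨g, k, hy, hgS, hk, hgn, hga⟩ := exists_align s₁ s₂ hn nc (hB₁ M₁ s₁) (hB₂ M₂ s₂)
  refine ⟨g, k, M₁, M₂.cj g, hgS, hG, s₁, s₂.cj hgS, hgn.symm, hga.symm, hk, ?_, ?_, ?_, nc⟩
  · rw [cj_cj, ← hy]
    exact a₁
  · intro v hv
    obtain ⟨p, hp, hi⟩ := a₂' v hv
    refine ⟨p, hp, fun x => ?_⟩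
    have h1 := hi x
    rw [M₂.cj_e, M₂.cj_e] at h1
    change v * (k * (g * M₂.e x * g⁻¹) * k⁻¹) * v⁻¹ = k * (g * M₂.e (x ∘ p.symm) * g⁻¹) * k⁻¹
    calc v * (k * (g * M₂.e x * g⁻¹) * k⁻¹) * v⁻¹ = v * (y * M₂.e x * y⁻¹) * v⁻¹ := by rw [hy]; group
      _ = y * M₂.e (x ∘ p.symm) * y⁻¹ := h1
      _ = k * (g * M₂.e (x ∘ p.symm) * g⁻¹) * k⁻¹ := by rw [hy]; group
  · rw [cj_cj, ← hy]
    exact e₁

end Cfsg.Agent.Omega.TTn.Z

end
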