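import Cfsg.Agent.Mrg.Omega.S5.Syl
import Cfsg.Agent.Mrg.Omega.VP
import Cfsg.Agent.Mrg.Omega.TTn.DiCoreAbs
import Cfsg.Agent.Lib.NormalAbelian

section


/-!
# A natural `O₄⁻(2)`-module normalised by a Sylow 2-subgroup

`Dih S M` (`M : FiveMod V L`): `S ≤ L` induces the dihedral group `C((0 1)(2 3))` on `V` and `Ω₁(Z(S)) ≤ V`; `T = C_S(n)`,
`n = {0 1}`, `a = {2 3}`, `s = n a`. Then `|S : T| = 2` and `Ω₁(Z(T)) = {1, n, a, s}`
(text of helper375, `S5/TT.lean`, without the partner of the pair).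
-/

set_option autoImplicit false
set_option linter.unusedSectionVars false

namespace Cfsg.Agent.Omega.TTn

open Subgroup Cfsg Cfsg.Agent.ZN Cfsg.Agent.ZN.ChoiceBase
open Cfsg.Agent.Omega.S5.Mod Cfsg.Agent.Omega.S5.TT
open Cfsg.Agent.Omega.S5.TT.Pos (na ns as sn n_ne s_ne a_ne n_ne_a n_ne_s a_ne_s e_sq' mem_C)
open Cfsg.Agent.MinSimple.VModule (o2_isPGroup le_o2 o2_le le_normalizer_o2 o2_le_of_sylow
  normalizer_le_normalizer_zc)

universe u

variable {G : Type u} [Group G]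

/-- `S ≤ L` induces `C((0 1)(2 3))` on the `O₄⁻(2)`-module `V ≥ Ω₁(Z(S))`. -/
structure Dih (S : Sylow 2 G) {V L : Subgroup G} (M : FiveMod V L) : Prop where
  S_le : (S : Subgroup G) ≤ L
  zS : zc (S : Subgroup G) ≤ V
  d8 : ∀ g ∈ (S : Subgroup G), ∀ p, M.Ind g p → p * dd = dd * p
  d8' : ∀ p, p * dd = dd * p → ∃ g ∈ (S : Subgroup G), M.Ind g p

namespace Dih

variable {S : Sylow 2 G} {V L : Subgroup G} {M : FiveMod V L} (t : Dih S M)
include t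

theorem S_norm : (S : Subgroup G) ≤ normalizer (V : Set G) := t.S_le.trans M.le_normalizer

theorem S_comm {g : G} (hg : g ∈ (S : Subgroup G)) : g * M.e ss = M.e ss * g := by
  obtain ⟨p, hp⟩ := M.exists_ind (t.S_le hg)
  exact (hp.commute_iff _).2 (Or.inl (fix_ss p (t.d8 g hg p hp)))

theorem T_ind {g : G} (hg : g ∈ (S : Subgroup G) ⊓ centralizer ({M.e nn} : Set G)) :
    ∃ p, TTp p ∧ M.Ind g p := by
  obtain ⟨p, hp⟩ := M.exists_ind (t.S_le hg.1)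
  exact ⟨p, ttp_of p (t.d8 g hg.1 p hp) ((hp.commute_iff _).1 (mem_C.1 hg.2)), hp⟩

/-- an element of `S` swapping `n` and `a` -/
theorem exists_swap : ∃ g ∈ (S : Subgroup G), M.Ind g tt := t.d8' tt (by decide)

omit t in
theorem tt_n {g : G} (hg : M.Ind g tt) : g * M.e nn * g⁻¹ = M.e aa := by
  rw [hg, M.e_eq_iff]; decide

omit t in
theorem tt_a {g : G} (hg : M.Ind g tt) : g * M.e aa * g⁻¹ = M.e nn := by
  rw [hg, M.e_eq_iff]; decide

omit t in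
theorem tt_s {g : G} (hg : M.Ind g tt) : g * M.e ss * g⁻¹ = M.e ss := by
  rw [hg, M.e_eq_iff]; decide

theorem T_comm_a {g : G} (hg : g ∈ (S : Subgroup G) ⊓ centralizer ({M.e nn} : Set G)) :
    g * M.e aa = M.e aa * g := by
  obtain ⟨p, hp, hi⟩ := t.T_ind hg
  exact (hi.commute_iff _).2 (Or.inl (ttp_aa p hp))

/-- `g ∈ S` swapping `n`, `a` normalises `T`. -/
theorem conj_T {g : G} (hgS : g ∈ (S : Subgroup G)) (hg : M.Ind g tt) {x : G}
    (hx : x ∈ (S : Subgroup G) ⊓ centralizer ({M.e nn} : Set G)) :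
    g * x * g⁻¹ ∈ (S : Subgroup G) ⊓ centralizer ({M.e nn} : Set G) := by
  refine mem_inf.2 ⟨mul_mem (mul_mem hgS hx.1) (inv_mem hgS), mem_C.2 ?_⟩
  rw [← tt_a hg]
  calc g * x * g⁻¹ * (g * M.e aa * g⁻¹) = g * (x * M.e aa) * g⁻¹ := by group
    _ = g * (M.e aa * x) * g⁻¹ := by rw [t.T_comm_a hx]
    _ = g * M.e aa * g⁻¹ * (g * x * g⁻¹) := by group

omit t in
theorem mem_T_of_ind {g : G} (hg : g ∈ (S : Subgroup G)) {p : Equiv.Perm (Fin 5)} (hp : TTp p)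
    (hi : M.Ind g p) : g ∈ (S : Subgroup G) ⊓ centralizer ({M.e nn} : Set G) :=
  ⟨hg, mem_C.2 ((hi.commute_iff _).2 (Or.inl (ttp_nn p hp)))⟩

/-- `S = T ∪ T g`. -/
theorem mem_or {g : G} (hgS : g ∈ (S : Subgroup G)) (hg : M.Ind g tt) {x : G}
    (hx : x ∈ (S : Subgroup G)) : x ∈ (S : Subgroup G) ⊓ centralizer ({M.e nn} : Set G) ∨
      x * g ∈ (S : Subgroup G) ⊓ centralizer ({M.e nn} : Set G) := by
  obtain ⟨p, hp⟩ := M.exists_ind (t.S_le hx)
  rcases ttp_or p (t.d8 x hx p hp) with h1 | h1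
  · exact Or.inl (mem_T_of_ind hx h1 hp)
  · exact Or.inr (mem_T_of_ind (mul_mem hx hgS) h1 (hp.mul hg))

/-- `Ω₁(Z(S)) ≤ ⟨s⟩`. -/
theorem zS_le {x : G} (hx : x ∈ zc (S : Subgroup G)) : x = 1 ∨ x = M.e ss := by
  obtain ⟨y, rfl⟩ := (M.mem_iff x).1 (t.zS hx)
  have h1 : ∀ p, p * dd = dd * p → y ∘ p.symm = y ∨ y ∘ p.symm = y + 1 := by
    intro p hp
    obtain ⟨g, hg, hi⟩ := t.d8' p hp
    exact (hi.commute_iff y).1 ((MinSimple.VModule.mem_zc.1 hx).2.1 g hg)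
  rcases fix_all y (h1 _ (by decide)) (h1 _ (by decide)) (h1 _ (by decide)) with h2 | h2
  · exact Or.inl ((M.ker y).2 h2)
  · exact Or.inr (M.e_eq_iff.2 h2)

theorem V_le_S : V ≤ (S : Subgroup G) := by
  have h1 : IsPGroup 2 ((S : Subgroup G) ⊔ V : Subgroup G) :=
    IsPGroup.to_sup_of_normal_right' S.isPGroup' M.isPGroup t.S_norm
  have h2 := S.is_maximal' h1 le_sup_left
  rw [← h2]
  exact le_sup_right

/-- `x ∈ zc T`, `x x^g = 1`, then `x ∈ zc S`. -/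
theorem zT_aux {g : G} (hgS : g ∈ (S : Subgroup G)) (hg : M.Ind g tt) {x : G}
    (hx : x ∈ zc ((S : Subgroup G) ⊓ centralizer ({M.e nn} : Set G)))
    (h1 : x * (g * x * g⁻¹) = 1) : x ∈ zc (S : Subgroup G) := by
  obtain ⟨hxT, hxc, hx2⟩ := MinSimple.VModule.mem_zc.1 hx
  have hxx : x * x = 1 := by rw [← pow_two]; exact hx2
  have h2 : g * x * g⁻¹ = x := by
    have h3 := eq_inv_of_mul_eq_one_right h1
    rw [h3]
    exact inv_eq_of_mul_eq_one_left hxx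
  have h3 : g * x = x * g := by rwa [mul_inv_eq_iff_eq_mul] at h2
  refine MinSimple.VModule.mem_zc.2 ⟨hxT.1, fun b hb => ?_, hx2⟩
  rcases t.mem_or hgS hg hb with h4 | h4
  · exact hxc b h4
  · have h5 := hxc _ h4
    have h6 : b * x * g = x * b * g := by
      calc b * x * g = b * (x * g) := by group
        _ = b * (g * x) := by rw [h3]
        _ = b * g * x := by group
        _ = x * (b * g) := h5
        _ = x * b * g := by group
    exact mul_right_cancel h6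

/-- `Ω₁(Z(T)) ≤ R = {1, n, a, s}`. -/
theorem zT_le {x : G} (hx : x ∈ zc ((S : Subgroup G) ⊓ centralizer ({M.e nn} : Set G))) :
    x = 1 ∨ x = M.e nn ∨ x = M.e aa ∨ x = M.e ss := by
  obtain ⟨g, hgS, hg⟩ := t.exists_swap
  obtain ⟨hxT, hxc, hx2⟩ := MinSimple.VModule.mem_zc.1 hx
  have hxx : x * x = 1 := by rw [← pow_two]; exact hx2
  have hgg : g * g ∈ (S : Subgroup G) ⊓ centralizer ({M.e nn} : Set G) := by
    refine mem_T_of_ind (mul_mem hgS hgS) (p := tt * tt) (by decide) (hg.mul hg)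
  have hxg := t.conj_T hgS hg hxT
  -- `y = x x^g ∈ zc S`
  set y := x * (g * x * g⁻¹) with hy
  have hcomm : x * (g * x * g⁻¹) = g * x * g⁻¹ * x := (hxc _ hxg).symm
  have hgy : g * y = y * g := by
    have h1 : g * g * x = x * (g * g) := hxc _ hgg
    calc g * y = (g * x * g⁻¹) * (g * g * x) * g⁻¹ := by rw [hy]; group
      _ = (g * x * g⁻¹) * (x * (g * g)) * g⁻¹ := by rw [h1]
      _ = ((g * x * g⁻¹) * x) * g := by group
      _ = y * g := by rw [← hcomm]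
  have hyS : y ∈ (S : Subgroup G) := mul_mem hxT.1 hxg.1
  have hyc : ∀ b ∈ (S : Subgroup G) ⊓ centralizer ({M.e nn} : Set G), b * y = y * b := by
    intro b hb
    have h1 := hxc b hb
    have h2 : g⁻¹ * b * g ∈ (S : Subgroup G) ⊓ centralizer ({M.e nn} : Set G) := by
      -- `g⁻¹ = g⁻² g`
      have h3 := t.conj_T hgS hg hb
      have h4 := mul_mem (mul_mem (inv_mem hgg) h3) hgg
      have e : (g * g)⁻¹ * (g * b * g⁻¹) * (g * g) = g⁻¹ * b * g := by group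
      rwa [e] at h4
    have h3 := hxc _ h2
    have h4 : b * (g * x * g⁻¹) = g * x * g⁻¹ * b := by
      calc b * (g * x * g⁻¹) = g * (g⁻¹ * b * g * x) * g⁻¹ := by group
        _ = g * (x * (g⁻¹ * b * g)) * g⁻¹ := by rw [h3]
        _ = g * x * g⁻¹ * b := by group
    calc b * y = (b * x) * (g * x * g⁻¹) := by rw [hy]; group
      _ = x * (b * (g * x * g⁻¹)) := by rw [h1]; group
      _ = y * b := by rw [h4, hy]; group
  have hyz : y ∈ zc (S : Subgroup G) := by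
    refine MinSimple.VModule.mem_zc.2 ⟨hyS, fun b hb => ?_, ?_⟩
    · rcases t.mem_or hgS hg hb with h4 | h4
      · exact hyc b h4
      · have h5 := hyc _ h4
        have h6 : b * y * g = y * b * g := by
          calc b * y * g = b * (y * g) := by group
            _ = b * (g * y) := by rw [hgy]
            _ = b * g * y := by group
            _ = y * (b * g) := h5
            _ = y * b * g := by group
        exact mul_right_cancel h6
    · rw [pow_two]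
      calc y * y = x * ((g * x * g⁻¹) * x) * (g * x * g⁻¹) := by rw [hy]; group
        _ = x * (x * (g * x * g⁻¹)) * (g * x * g⁻¹) := by rw [← hcomm]
        _ = (x * x) * (g * (x * x) * g⁻¹) := by group
        _ = 1 := by rw [hxx]; group
  rcases t.zS_le hyz with h1 | h1
  · rcases t.zS_le (t.zT_aux hgS hg hx h1) with h2 | h2
    · exact Or.inl h2
    · exact Or.inr (Or.inr (Or.inr h2))
  · -- `x n`
    have hnT : M.e nn ∈ zc ((S : Subgroup G) ⊓ centralizer ({M.e nn} : Set G)) := by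
      have hnS : M.e nn ∈ (S : Subgroup G) := t.V_le_S (M.e_mem nn)
      exact MinSimple.VModule.mem_zc.2 ⟨⟨hnS, mem_C.2 rfl⟩, fun _ hb => mem_C.1 hb.2, e_sq' M nn⟩
    have h2 : x * M.e nn * (g * (x * M.e nn) * g⁻¹) = 1 := by
      have h3 : x * M.e nn = M.e nn * x := mem_C.1 hxT.2
      have h4 : M.e nn * (g * x * g⁻¹) = g * x * g⁻¹ * M.e nn := (mem_C.1 hxg.2).symm
      calc x * M.e nn * (g * (x * M.e nn) * g⁻¹) =
            x * (M.e nn * (g * x * g⁻¹)) * (g * M.e nn * g⁻¹) := by group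
        _ = x * (g * x * g⁻¹) * (M.e nn * M.e aa) := by rw [h4, tt_n hg]; group
        _ = 1 := by rw [na, ← hy, h1, M.e_sq]
    rcases t.zS_le (t.zT_aux hgS hg (mul_mem hx hnT) h2) with h3 | h3
    · right; left
      have := congrArg (· * M.e nn) h3
      simpa [mul_assoc, M.e_sq] using this
    · right; right; left
      have := congrArg (· * M.e nn) h3
      simpa [mul_assoc, M.e_sq, sn] using this

theorem S_le_normalizer_T [Finite G] : (S : Subgroup G) ≤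
    normalizer (((S : Subgroup G) ⊓ centralizer ({M.e nn} : Set G) : Subgroup G) : Set G) := by
  obtain ⟨g, hgS, hg⟩ := t.exists_swap
  have h1 : g ∈ normalizer
      (((S : Subgroup G) ⊓ centralizer ({M.e nn} : Set G) : Subgroup G) : Set G) := by
    refine mem_normalizer_of_cj_le ?_
    rintro _ ⟨x, hx, rfl⟩
    exact t.conj_T hgS hg hx
  intro x hx
  rcases t.mem_or hgS hg hx with h2 | h2
  · exact Subgroup.le_normalizer h2
  · have h3 := mul_mem (Subgroup.le_normalizer h2) (inv_mem h1)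
    have e : x * g * g⁻¹ = x := by group
    rwa [e] at h3

theorem n_mem_zT : M.e nn ∈ zc ((S : Subgroup G) ⊓ centralizer ({M.e nn} : Set G)) :=
  MinSimple.VModule.mem_zc.2 ⟨⟨t.V_le_S (M.e_mem nn), mem_C.2 rfl⟩, fun _ hb => mem_C.1 hb.2,
    e_sq' M nn⟩

theorem s_mem_zT : M.e ss ∈ zc ((S : Subgroup G) ⊓ centralizer ({M.e nn} : Set G)) :=
  MinSimple.VModule.mem_zc.2 ⟨⟨t.V_le_S (M.e_mem ss), mem_C.2 (M.e_comm _ _)⟩,
    fun _ hb => t.S_comm hb.1, e_sq' M ss⟩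

end Dih

end Cfsg.Agent.Omega.TTn

end

section


/-!
# T-T, `n` not 2-central: the structure of `C_G(n)` (#11330 A)

Two natural `O₄⁻(2)`-modules `V₁`, `V₂` over the same Sylow 2-subgroup `S`, with the same `n = {0 1}`,
`a = {2 3}` (`s = n a`); `h ∈ C_G(n)`, `V₁` and `V₂ ^ h` normalise each other and act on each other as
`⟨(0 1)⟩`; no Sylow 2-subgroup centralises `n`.

`Q x = O₂(C_G(x))`, `WW V₁ V₂ x = ⟨V₁ ^ C_G(x), V₂ ^ C_G(x)⟩`, `UU x y = ⟨x, y ^ C_G(x)⟩`.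
-/

set_option autoImplicit false
set_option linter.unusedSectionVars false

namespace Cfsg.Agent.Omega.TTn

open Subgroup Cfsg Cfsg.Agent.ZN Cfsg.Agent.ZN.ChoiceBase
open Cfsg.Agent.Omega.S5.Mod Cfsg.Agent.Omega.S5.TT
open Cfsg.Agent.Omega.S5.TT.Pos (na ns as sn n_ne s_ne a_ne n_ne_a n_ne_s a_ne_s e_sq' mem_C)
open Cfsg.Agent.MinSimple.VModule (o2_isPGroup le_o2 o2_le le_normalizer_o2 o2_le_of_sylow
  normalizer_le_normalizer_zc)

universe u

variable {G : Type u} [Group G]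

/-! ### The subgroups -/

/-- `O₂(C_G(x))` -/
abbrev Q (x : G) : Subgroup G := o2 (centralizer ({x} : Set G))

/-- `⟨V₁ ^ C_G(x), V₂ ^ C_G(x)⟩` -/
def WW (V₁ V₂ : Subgroup G) (x : G) : Subgroup G :=
  closure {y | ∃ g, g * x = x * g ∧ ∃ v, (v ∈ V₁ ∨ v ∈ V₂) ∧ y = g * v * g⁻¹}

/-- `⟨x, y ^ C_G(x)⟩` -/
def UU (x y : G) : Subgroup G := closure {w | w = x ∨ ∃ g, g * x = x * g ∧ w = g * y * g⁻¹}

section WWUU

variable {V₁ V₂ : Subgroup G} {x y g v w : G}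

theorem mem_WW₁ (hg : g * x = x * g) (hv : v ∈ V₁) : g * v * g⁻¹ ∈ WW V₁ V₂ x :=
  subset_closure ⟨g, hg, v, Or.inl hv, rfl⟩

theorem mem_WW₂ (hg : g * x = x * g) (hv : v ∈ V₂) : g * v * g⁻¹ ∈ WW V₁ V₂ x :=
  subset_closure ⟨g, hg, v, Or.inr hv, rfl⟩

theorem le_WW₁ (V₁ V₂ : Subgroup G) (x : G) : V₁ ≤ WW V₁ V₂ x := fun v hv => by
  have := mem_WW₁ (V₂ := V₂) (x := x) (g := 1) (by rw [one_mul, mul_one]) hv
  simpa using this

theorem le_WW₂ (V₁ V₂ : Subgroup G) (x : G) : V₂ ≤ WW V₁ V₂ x := fun v hv => by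
  have := mem_WW₂ (V₁ := V₁) (x := x) (g := 1) (by rw [one_mul, mul_one]) hv
  simpa using this

theorem WW_le {H : Subgroup G} (h1 : ∀ g, g * x = x * g → ∀ v ∈ V₁, g * v * g⁻¹ ∈ H)
    (h2 : ∀ g, g * x = x * g → ∀ v ∈ V₂, g * v * g⁻¹ ∈ H) : WW V₁ V₂ x ≤ H := by
  rw [WW, closure_le]
  rintro _ ⟨g, hg, v, hv | hv, rfl⟩
  · exact h1 g hg v hv
  · exact h2 g hg v hv

/-- conjugation by an element normalising `V₁` and `V₂` -/
theorem WW_conj (h1 : g ∈ normalizer (V₁ : Set G)) (h2 : g ∈ normalizer (V₂ : Set G))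
    (hw : w ∈ WW V₁ V₂ x) : g * w * g⁻¹ ∈ WW V₁ V₂ (g * x * g⁻¹) := by
  have key : WW V₁ V₂ x ≤ cj g⁻¹ (WW V₁ V₂ (g * x * g⁻¹)) := by
    refine WW_le ?_ ?_
    · intro k hk v hv
      rw [mem_cj, inv_inv]
      have h3 : g * (k * v * k⁻¹) * g⁻¹ = (g * k * g⁻¹) * (g * v * g⁻¹) * (g * k * g⁻¹)⁻¹ := by group
      rw [h3]
      refine mem_WW₁ ?_ ((mem_normalizer_iff.1 h1 v).1 hv)
      calc g * k * g⁻¹ * (g * x * g⁻¹) = g * (k * x) * g⁻¹ := by group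
        _ = g * (x * k) * g⁻¹ := by rw [hk]
        _ = g * x * g⁻¹ * (g * k * g⁻¹) := by group
    · intro k hk v hv
      rw [mem_cj, inv_inv]
      have h3 : g * (k * v * k⁻¹) * g⁻¹ = (g * k * g⁻¹) * (g * v * g⁻¹) * (g * k * g⁻¹)⁻¹ := by group
      rw [h3]
      refine mem_WW₂ ?_ ((mem_normalizer_iff.1 h2 v).1 hv)
      calc g * k * g⁻¹ * (g * x * g⁻¹) = g * (k * x) * g⁻¹ := by group
        _ = g * (x * k) * g⁻¹ := by rw [hk]
        _ = g * x * g⁻¹ * (g * k * g⁻¹) := by group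
  have h3 := key hw
  rwa [mem_cj, inv_inv] at h3

/-- `C_G(x)` normalises `WW x`. -/
theorem WW_norm (hg : g * x = x * g) (hw : w ∈ WW V₁ V₂ x) : g * w * g⁻¹ ∈ WW V₁ V₂ x := by
  have key : WW V₁ V₂ x ≤ cj g⁻¹ (WW V₁ V₂ x) := by
    have hc : ∀ {k : G}, k * x = x * k → g * k * x = x * (g * k) := fun {k} hk => by
      rw [mul_assoc, hk, ← mul_assoc, hg, mul_assoc]
    refine WW_le ?_ ?_
    · intro k hk v hv
      rw [mem_cj, inv_inv]
      have h3 : g * (k * v * k⁻¹) * g⁻¹ = (g * k) * v * (g * k)⁻¹ := by group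
      rw [h3]
      exact mem_WW₁ (hc hk) hv
    · intro k hk v hv
      rw [mem_cj, inv_inv]
      have h3 : g * (k * v * k⁻¹) * g⁻¹ = (g * k) * v * (g * k)⁻¹ := by group
      rw [h3]
      exact mem_WW₂ (hc hk) hv
  have h3 := key hw
  rwa [mem_cj, inv_inv] at h3

theorem self_mem_UU (x y : G) : x ∈ UU x y := subset_closure (Or.inl rfl)

theorem mem_UU (hg : g * x = x * g) : g * y * g⁻¹ ∈ UU x y := subset_closure (Or.inr ⟨g, hg, rfl⟩)

theorem mem_UU_self (x y : G) : y ∈ UU x y := by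
  have := mem_UU (x := x) (y := y) (g := 1) (by rw [one_mul, mul_one])
  simpa using this

theorem UU_le {H : Subgroup G} (hx : x ∈ H) (h : ∀ g, g * x = x * g → g * y * g⁻¹ ∈ H) :
    UU x y ≤ H := by
  rw [UU, closure_le]
  rintro _ (rfl | ⟨g, hg, rfl⟩)
  · exact hx
  · exact h g hg

theorem UU_conj (g : G) (hw : w ∈ UU x y) : g * w * g⁻¹ ∈ UU (g * x * g⁻¹) (g * y * g⁻¹) := by
  have key : UU x y ≤ cj g⁻¹ (UU (g * x * g⁻¹) (g * y * g⁻¹)) := by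
    refine UU_le ?_ ?_
    · rw [mem_cj, inv_inv]; exact self_mem_UU _ _
    · intro k hk
      rw [mem_cj, inv_inv]
      have h3 : g * (k * y * k⁻¹) * g⁻¹ = (g * k * g⁻¹) * (g * y * g⁻¹) * (g * k * g⁻¹)⁻¹ := by group
      rw [h3]
      refine mem_UU ?_
      calc g * k * g⁻¹ * (g * x * g⁻¹) = g * (k * x) * g⁻¹ := by group
        _ = g * (x * k) * g⁻¹ := by rw [hk]
        _ = g * x * g⁻¹ * (g * k * g⁻¹) := by group
  have h3 := key hw
  rwa [mem_cj, inv_inv] at h3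

/-- `C_G(x)` normalises `UU x y`. -/
theorem UU_norm (hg : g * x = x * g) (hw : w ∈ UU x y) : g * w * g⁻¹ ∈ UU x y := by
  have key : UU x y ≤ cj g⁻¹ (UU x y) := by
    refine UU_le ?_ ?_
    · rw [mem_cj, inv_inv, hg, mul_inv_cancel_right]; exact self_mem_UU _ _
    · intro k hk
      rw [mem_cj, inv_inv]
      have h3 : g * (k * y * k⁻¹) * g⁻¹ = (g * k) * y * (g * k)⁻¹ := by group
      rw [h3]
      refine mem_UU ?_
      rw [mul_assoc, hk, ← mul_assoc, hg, mul_assoc]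
  have h3 := key hw
  rwa [mem_cj, inv_inv] at h3

end WWUU

/-! ### Computations in `F₂⁵` -/

/-- `{2 4}` -/
def bb : Vec := ![0, 0, 1, 0, 1]
/-- `{3 4}` -/
def cc : Vec := ![0, 0, 0, 1, 1]
/-- `{0 2}` -/
def mm : Vec := ![1, 0, 1, 0, 0]

/-- vectors of `n^⊥` -/
theorem perp_cases : ∀ x : Vec, x 0 = x 1 → x = 0 ∨ x = 1 ∨ x = nn ∨ x = nn + 1 ∨
    x = aa ∨ x = aa + 1 ∨ x = bb ∨ x = bb + 1 ∨ x = cc ∨ x = cc + 1 ∨
    x = nn + aa ∨ x = nn + aa + 1 ∨ x = nn + bb ∨ x = nn + bb + 1 ∨ x = nn + cc ∨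
    x = nn + cc + 1 := by
  decide +kernel

/-- a permutation in `⟨(0 1), (2 3)⟩` fixing `b` is in `⟨(0 1)⟩` -/
theorem ttp_bb : ∀ p : Equiv.Perm (Fin 5), TTp p → (bb ∘ p.symm = bb ∨ bb ∘ p.symm = bb + 1) →
    p = 1 ∨ p = Equiv.swap 0 1 := by
  intro p hp
  rcases hp with rfl | rfl | rfl | rfl <;> decide

theorem swap_fix_iff : ∀ x : Vec, (x ∘ (Equiv.swap 0 1 : Equiv.Perm (Fin 5)).symm = x ∨
    x ∘ (Equiv.swap 0 1 : Equiv.Perm (Fin 5)).symm = x + 1) ↔ x 0 = x 1 := by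
  decide +kernel

/-- `p = 1` or `p = (0 1)` -/
def Tp (p : Equiv.Perm (Fin 5)) : Prop := p = 1 ∨ p = Equiv.swap 0 1

theorem Tp.comm {p : Equiv.Perm (Fin 5)} (hp : Tp p) (x : Vec) :
    (x ∘ p.symm + x = 0 ∨ x ∘ p.symm + x = 1) ∨ (x ∘ p.symm + x = nn ∨ x ∘ p.symm + x = nn + 1) := by
  rcases hp with rfl | rfl
  · left; left
    change x + x = 0
    exact Cfsg.Agent.Omega.S5.Mod.add_self x
  · exact swap_comm x

theorem Tp.fix {p : Equiv.Perm (Fin 5)} (hp : Tp p) {x : Vec} (hx : x 0 = x 1) :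
    x ∘ p.symm = x ∨ x ∘ p.symm = x + 1 := by
  rcases hp with rfl | rfl
  · left; rfl
  · exact (swap_fix_iff x).2 hx

/-! ### The configuration -/

/-- The configuration T-T with `n` not 2-central, for two modules over the same `S`. -/
structure Base (S : Sylow 2 G) {V₁ V₂ L₁ L₂ : Subgroup G} (M₁ : FiveMod V₁ L₁)
    (M₂ : FiveMod V₂ L₂) (h : G) : Prop where
  two : IsCharacteristicTwoType G
  dih₁ : Dih S M₁
  dih₂ : Dih S M₂
  en : M₁.e nn = M₂.e nn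
  ea : M₁.e aa = M₂.e aa
  hn : h * M₁.e nn = M₁.e nn * h
  act₁ : ∀ v ∈ cj h V₂, ∃ p, Tp p ∧ M₁.Ind v p
  act₂ : ∀ v ∈ V₁, ∃ p, Tp p ∧ (M₂.cj h).Ind v p
  ex : ∃ v ∈ cj h V₂, M₁.Ind v (Equiv.swap 0 1)
  nc : ∀ P : Sylow 2 G, ¬ (P : Subgroup G) ≤ centralizer ({M₁.e nn} : Set G)

namespace Base

variable {S : Sylow 2 G} {V₁ V₂ L₁ L₂ : Subgroup G} {M₁ : FiveMod V₁ L₁} {M₂ : FiveMod V₂ L₂} {h : G}
  (b : Base S M₁ M₂ h)
include b

theorem es : M₁.e ss = M₂.e ss := by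
  rw [← na M₁, ← na M₂, b.en, b.ea]

/-! ### The Sylow 2-subgroup `T` of `C_G(n)` -/

theorem card_S [Finite G] : Nat.card (S : Subgroup G) =
    2 * Nat.card ((S : Subgroup G) ⊓ centralizer ({M₁.e nn} : Set G) : Subgroup G) := by
  obtain ⟨g, hgS, hg⟩ := b.dih₁.exists_swap
  set T := (S : Subgroup G) ⊓ centralizer ({M₁.e nn} : Set G) with hT
  have h1 : (T.subgroupOf S).index = 2 := by
    rw [index_eq_two_iff]
    refine ⟨⟨g, hgS⟩, fun x => ?_⟩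
    have hgT : g ∉ T := by
      intro h0
      have h2 := Dih.tt_n hg
      rw [mem_C.1 h0.2, mul_inv_cancel_right] at h2
      exact n_ne_a M₁ h2
    by_cases hx : (x : G) ∈ T
    · right
      refine ⟨mem_subgroupOf.2 hx, fun h0 => hgT ?_⟩
      have h2 := mem_subgroupOf.1 h0
      have h3 := mul_mem (inv_mem hx) h2
      have h4 : (x : G)⁻¹ * ((x * ⟨g, hgS⟩ : (S : Subgroup G)) : G) = g := by
        rw [coe_mul]; group
      rwa [h4] at h3
    · left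
      refine ⟨mem_subgroupOf.2 ?_, fun h0 => hx (mem_subgroupOf.1 h0)⟩
      rcases b.dih₁.mem_or hgS hg x.2 with h2 | h2
      · exact absurd h2 hx
      · exact h2
  have h2 := (T.subgroupOf (S : Subgroup G)).card_mul_index
  rw [h1] at h2
  have h3 : Nat.card (T.subgroupOf (S : Subgroup G)) = Nat.card T :=
    Nat.card_congr (subgroupOfEquivOfLe inf_le_left).toEquiv
  rw [← h2, h3, mul_comm]

/-- `T = C_S(n)` is a Sylow 2-subgroup of `C_G(n)`. -/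
theorem not_dvd [Finite G] : ¬ 2 ∣ ((S : Subgroup G) ⊓ centralizer ({M₁.e nn} : Set G)).relIndex
    (centralizer ({M₁.e nn} : Set G)) := by
  have hf : Fact (Nat.Prime 2) := ⟨Nat.prime_two⟩
  set N := centralizer ({M₁.e nn} : Set G) with hN
  set T := (S : Subgroup G) ⊓ N with hT
  have hTp : IsPGroup 2 (T.subgroupOf N) :=
    (S.isPGroup'.to_le inf_le_left).comap_of_injective _ N.subtype_injective
  obtain ⟨P, hP⟩ := hTp.exists_le_sylow
  have hPG : IsPGroup 2 ((P : Subgroup N).map N.subtype) := P.isPGroup'.map _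
  obtain ⟨R, hR⟩ := hPG.exists_le_sylow
  have hlt : (P : Subgroup N).map N.subtype < (R : Subgroup G) := by
    refine lt_of_le_of_ne hR fun h0 => b.nc R ?_
    rw [← h0]
    exact map_subtype_le _
  have hcR : Nat.card (R : Subgroup G) = Nat.card (S : Subgroup G) :=
    Nat.card_congr (Sylow.equiv R S).toEquiv
  have h2 : 2 * Nat.card ((P : Subgroup N).map N.subtype) ≤ Nat.card (R : Subgroup G) := by
    obtain ⟨k, hk⟩ := card_dvd_of_le hR
    rw [hk, mul_comm]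
    refine Nat.mul_le_mul_left _ ?_
    rcases k with _ | _ | k
    · rw [mul_zero] at hk
      exact absurd hk Nat.card_pos.ne'
    · rw [zero_add, mul_one] at hk
      exact absurd (eq_of_le_of_card_ge hR hk.le) hlt.ne
    · omega
  have h3 : Nat.card ((P : Subgroup N).map N.subtype) = Nat.card (P : Subgroup N) :=
    Nat.card_congr (equivMapOfInjective _ _ N.subtype_injective).symm.toEquiv
  have h4 : Nat.card (T.subgroupOf N) = Nat.card T :=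
    Nat.card_congr (subgroupOfEquivOfLe inf_le_right).toEquiv
  have h5 : (P : Subgroup N) = T.subgroupOf N := by
    refine (eq_of_le_of_card_ge hP ?_).symm
    rw [h4, ← h3]
    have h6 := b.card_S
    rw [← hN, ← hT] at h6
    omega
  have h6 := P.not_dvd_index
  rw [h5] at h6
  exact h6

theorem Q_le_T [Finite G] : Q (M₁.e nn) ≤ (S : Subgroup G) ⊓ centralizer ({M₁.e nn} : Set G) :=
  o2_le_of_sylow (S.isPGroup'.to_le inf_le_left) b.not_dvd

/-! ### `U_n ≤ Z(Q_n)` -/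

theorem sq_n : (M₁.e nn) ^ 2 = 1 := e_sq' M₁ nn

theorem n_mem_Q [Finite G] : M₁.e nn ∈ Q (M₁.e nn) := by
  refine MinSimple.Basic.char2_centralizer b.two (e_sq' M₁ nn) (n_ne M₁)
    (mem_inf.2 ⟨mem_C.2 rfl, mem_centralizer_iff.2 fun q hq => ?_⟩)
  exact mem_C.1 (o2_le _ hq)

theorem a_comm_Q [Finite G] {q : G} (hq : q ∈ Q (M₁.e nn)) : q * M₁.e aa = M₁.e aa * q :=
  b.dih₁.T_comm_a (b.Q_le_T hq)

theorem a_comm_n : M₁.e aa * M₁.e nn = M₁.e nn * M₁.e aa := M₁.e_comm _ _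

theorem a_mem_Q [Finite G] : M₁.e aa ∈ Q (M₁.e nn) :=
  MinSimple.Basic.char2_centralizer b.two (e_sq' M₁ nn) (n_ne M₁)
    (mem_inf.2 ⟨mem_C.2 b.a_comm_n, mem_centralizer_iff.2 fun _ hq => b.a_comm_Q hq⟩)

theorem Q_conj [Finite G] {g q : G} (hg : g * M₁.e nn = M₁.e nn * g) (hq : q ∈ Q (M₁.e nn)) :
    g * q * g⁻¹ ∈ Q (M₁.e nn) :=
  (mem_normalizer_iff.1 (le_normalizer_o2 _ (mem_C.2 hg)) _).1 hq

theorem Q_conj' [Finite G] {g q : G} (hg : g * M₁.e nn = M₁.e nn * g) (hq : q ∈ Q (M₁.e nn)) :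
    g⁻¹ * q * g ∈ Q (M₁.e nn) := by
  have h1 : g⁻¹ * M₁.e nn = M₁.e nn * g⁻¹ := by
    rw [inv_mul_eq_iff_eq_mul, ← mul_assoc, hg, mul_inv_cancel_right]
  have h2 := b.Q_conj h1 hq
  rwa [inv_inv] at h2

/-- `U_n ≤ O₂(C_G(n))` -/
theorem UU_le_Q [Finite G] : UU (M₁.e nn) (M₁.e aa) ≤ Q (M₁.e nn) :=
  UU_le b.n_mem_Q fun _ hg => b.Q_conj hg b.a_mem_Q

/-- `U_n` centralises `O₂(C_G(n))`. -/
theorem UU_comm_Q [Finite G] {u q : G} (hu : u ∈ UU (M₁.e nn) (M₁.e aa)) (hq : q ∈ Q (M₁.e nn)) :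
    u * q = q * u := by
  have key : UU (M₁.e nn) (M₁.e aa) ≤ centralizer (Q (M₁.e nn) : Set G) := by
    refine UU_le ?_ ?_
    · rw [mem_centralizer_iff]
      intro q hq
      exact mem_C.1 (o2_le _ hq)
    · intro g hg
      rw [mem_centralizer_iff]
      intro q hq
      have h1 := b.a_comm_Q (b.Q_conj' hg hq)
      calc q * (g * M₁.e aa * g⁻¹) = g * (g⁻¹ * q * g * M₁.e aa) * g⁻¹ := by group
        _ = g * (M₁.e aa * (g⁻¹ * q * g)) * g⁻¹ := by rw [h1]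
        _ = g * M₁.e aa * g⁻¹ * q := by group
  exact (mem_centralizer_iff.1 (key hu) q hq).symm

theorem UU_comm [Finite G] {u v : G} (hu : u ∈ UU (M₁.e nn) (M₁.e aa))
    (hv : v ∈ UU (M₁.e nn) (M₁.e aa)) : u * v = v * u :=
  b.UU_comm_Q hu (b.UU_le_Q hv)

theorem UU_sq [Finite G] {u : G} (hu : u ∈ UU (M₁.e nn) (M₁.e aa)) : u * u = 1 := by
  induction hu using closure_induction with
  | mem x hx =>
    rcases hx with rfl | ⟨g, -, rfl⟩
    · exact M₁.e_sq _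
    · have h1 : g * M₁.e aa * g⁻¹ * (g * M₁.e aa * g⁻¹) = g * (M₁.e aa * M₁.e aa) * g⁻¹ := by group
      rw [h1, M₁.e_sq]; group
  | one => exact one_mul 1
  | mul x y hx hy h1 h2 =>
    have h3 : x * y = y * x := b.UU_comm hx hy
    calc x * y * (x * y) = x * (y * x) * y := by group
      _ = (x * x) * (y * y) := by rw [← h3]; group
      _ = 1 := by rw [h1, h2, one_mul]
  | inv x _ h1 => rw [← mul_inv_rev, h1, inv_one]

/-! ### `V₀ ≤ U_n` -/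

/-- `n^⊥ ≤ U_n` (first module) -/
theorem perp_mem₁ {x : Vec} (hx : x 0 = x 1) : M₁.e x ∈ UU (M₁.e nn) (M₁.e aa) := by
  have h1 : ∀ {y : Vec}, M₁.e y ∈ UU (M₁.e nn) (M₁.e aa) → M₁.e (y + 1) ∈ UU (M₁.e nn) (M₁.e aa) := by
    intro y hy
    rwa [M₁.e_add, M₁.e_one, mul_one]
  have hn : M₁.e nn ∈ UU (M₁.e nn) (M₁.e aa) := self_mem_UU _ _
  have ha : M₁.e aa ∈ UU (M₁.e nn) (M₁.e aa) := mem_UU_self _ _
  have hp : ∀ (p : Equiv.Perm (Fin 5)), nn ∘ p.symm = nn →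
      M₁.e (aa ∘ p.symm) ∈ UU (M₁.e nn) (M₁.e aa) := by
    intro p hp
    obtain ⟨g, -, hg⟩ := M₁.exists_lift p
    rw [← hg]
    exact mem_UU ((hg.commute_iff _).2 (Or.inl hp))
  have hb : M₁.e bb ∈ UU (M₁.e nn) (M₁.e aa) := by
    have := hp (Equiv.swap 3 4) (by decide)
    rwa [show aa ∘ (Equiv.swap 3 4 : Equiv.Perm (Fin 5)).symm = bb by decide] at this
  have hc : M₁.e cc ∈ UU (M₁.e nn) (M₁.e aa) := by
    have := hp (Equiv.swap 2 4) (by decide)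
    rwa [show aa ∘ (Equiv.swap 2 4 : Equiv.Perm (Fin 5)).symm = cc by decide] at this
  have hs : ∀ {y : Vec}, M₁.e y ∈ UU (M₁.e nn) (M₁.e aa) →
      M₁.e (nn + y) ∈ UU (M₁.e nn) (M₁.e aa) := by
    intro y hy
    rw [M₁.e_add]
    exact mul_mem hn hy
  rcases perp_cases x hx with rfl | rfl | rfl | rfl | rfl | rfl | rfl | rfl | rfl | rfl | rfl |
    rfl | rfl | rfl | rfl | rfl
  · rw [M₁.e_zero]; exact one_mem _
  · rw [M₁.e_one]; exact one_mem _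
  · exact hn
  · exact h1 hn
  · exact ha
  · exact h1 ha
  · exact hb
  · exact h1 hb
  · exact hc
  · exact h1 hc
  · exact hs ha
  · exact h1 (hs ha)
  · exact hs hb
  · exact h1 (hs hb)
  · exact hs hc
  · exact h1 (hs hc)

/-! ### The other module -/

end Base

theorem ind_of_cj {V L : Subgroup G} {M : FiveMod V L} {g x : G} {p : Equiv.Perm (Fin 5)}
    (hx : (M.cj g).Ind x p) : M.Ind (g⁻¹ * x * g) p := by
  intro y
  have h1 := hx y
  rw [M.cj_e, M.cj_e] at h1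
  calc g⁻¹ * x * g * M.e y * (g⁻¹ * x * g)⁻¹ = g⁻¹ * (x * (g * M.e y * g⁻¹) * x⁻¹) * g := by group
    _ = M.e (y ∘ p.symm) := by rw [h1]; group

theorem relabel_ind {V L : Subgroup G} {M : FiveMod V L} {g : G} {p : Equiv.Perm (Fin 5)}
    (σ : Equiv.Perm (Fin 5)) (hg : M.Ind g p) : (M.relabel σ).Ind g (σ⁻¹ * p * σ) := by
  intro x
  change g * M.e (x ∘ σ.symm) * g⁻¹ = M.e ((x ∘ (σ⁻¹ * p * σ).symm) ∘ σ.symm)
  rw [hg]
  congr 1
  funext i
  change x (σ⁻¹ (p⁻¹ i)) = x ((σ⁻¹ * p * σ)⁻¹ (σ⁻¹ i))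
  rw [← Equiv.Perm.mul_apply, ← Equiv.Perm.mul_apply]
  congr 2
  group

theorem ind_of_relabel {V L : Subgroup G} {M : FiveMod V L} {g : G} {p : Equiv.Perm (Fin 5)}
    (σ : Equiv.Perm (Fin 5)) (hg : (M.relabel σ).Ind g p) : M.Ind g (σ * p * σ⁻¹) := by
  intro x
  have h1 := hg (x ∘ σ)
  change g * M.e ((x ∘ σ) ∘ σ.symm) * g⁻¹ = M.e (((x ∘ σ) ∘ p.symm) ∘ σ.symm) at h1
  have h2 : (x ∘ σ) ∘ σ.symm = x := by
    funext i; simp
  rw [h2] at h1
  rw [h1]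
  congr 1

theorem tt_conj_dd : ∀ p : Equiv.Perm (Fin 5), tt * p * tt⁻¹ * dd = dd * (tt * p * tt⁻¹) → p * dd = dd * p := by
  decide +kernel

theorem tt_conj_dd' : ∀ p : Equiv.Perm (Fin 5), p * dd = dd * p → tt * p * tt⁻¹ * dd = dd * (tt * p * tt⁻¹) := by
  decide +kernel

theorem Dih.relabel {S : Sylow 2 G} {V L : Subgroup G} {M : FiveMod V L} (t : Dih S M) :
    Dih S (M.relabel tt) where
  S_le := t.S_le
  zS := t.zS
  d8 g hg p hp := tt_conj_dd p (t.d8 g hg _ (ind_of_relabel tt hp))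
  d8' p hp := by
    obtain ⟨g, hg, hi⟩ := t.d8' (tt * p * tt⁻¹) (tt_conj_dd' p hp)
    refine ⟨g, hg, ?_⟩
    have h1 := relabel_ind tt hi
    have h2 : tt⁻¹ * (tt * p * tt⁻¹) * tt = p := by group
    rwa [h2] at h1

theorem Tp.conj : ∀ {p : Equiv.Perm (Fin 5)}, Tp p → ∀ r : Equiv.Perm (Fin 5), TTp r → Tp (r⁻¹ * p * r) := by
  intro p hp r hr
  rcases hp with rfl | rfl <;> rcases hr with rfl | rfl | rfl | rfl
  · left; decide
  · left; decide
  · left; decide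
  · left; decide
  · right; decide
  · right; decide
  · right; decide
  · right; decide

theorem TTp_inv : ∀ {r : Equiv.Perm (Fin 5)}, TTp r → TTp r⁻¹ := by
  intro r hr
  rcases hr with rfl | rfl | rfl | rfl <;> decide

theorem ttp_of_aa : ∀ p : Equiv.Perm (Fin 5), p * dd = dd * p →
    (nn ∘ p.symm = aa ∨ nn ∘ p.symm = aa + 1) → TTp (tt⁻¹ * p) := by
  decide +kernel

theorem nn_tt : nn ∘ tt.symm = aa := by decide

theorem aa_tt : aa ∘ tt.symm = nn := by decide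

theorem ss_tt : ss ∘ tt.symm = ss := by decide

namespace Base

variable {S : Sylow 2 G} {V₁ V₂ L₁ L₂ : Subgroup G} {M₁ : FiveMod V₁ L₁} {M₂ : FiveMod V₂ L₂} {h : G}
  (b : Base S M₁ M₂ h)
include b

theorem symm : Base S M₂ M₁ h⁻¹ where
  two := b.two
  dih₁ := b.dih₂
  dih₂ := b.dih₁
  en := b.en.symm
  ea := b.ea.symm
  hn := by
    rw [← b.en, inv_mul_eq_iff_eq_mul, ← mul_assoc, b.hn, mul_inv_cancel_right]
  act₁ := by
    intro v hv
    rw [mem_cj, inv_inv] at hv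
    obtain ⟨p, hp, hi⟩ := b.act₂ _ hv
    refine ⟨p, hp, ?_⟩
    have h1 := ind_of_cj hi
    have h2 : h⁻¹ * (h * v * h⁻¹) * h = v := by group
    rwa [h2] at h1
  act₂ := by
    intro v hv
    obtain ⟨p, hp, hi⟩ := b.act₁ (h * v * h⁻¹) ⟨v, hv, rfl⟩
    refine ⟨p, hp, ?_⟩
    have h1 := M₁.cj_ind (g := h⁻¹) hi
    have h2 : h⁻¹ * (h * v * h⁻¹) * h⁻¹⁻¹ = v := by group
    rwa [h2] at h1
  ex := by
    obtain ⟨w, hw, hi⟩ := b.ex
    obtain ⟨p, hp, hj⟩ := b.act₂ _ (M₁.e_mem mm)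
    refine ⟨h⁻¹ * M₁.e mm * h, ?_, ?_⟩
    · rw [mem_cj, inv_inv]
      have h1 : h * (h⁻¹ * M₁.e mm * h) * h⁻¹ = M₁.e mm := by group
      rw [h1]; exact M₁.e_mem _
    · rcases hp with rfl | rfl
      · exfalso
        have h1 := mem_centralizer_iff.1 (FiveMod.ind_one_iff.1 hj) w hw
        rw [hi.commute_iff] at h1
        revert h1; decide
      · exact ind_of_cj hj
  nc := by rw [← b.en]; exact b.nc

/-- `n^⊥ ≤ U_n` (second module) -/
theorem perp_mem₂ {x : Vec} (hx : x 0 = x 1) : M₂.e x ∈ UU (M₁.e nn) (M₁.e aa) := by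
  have := b.symm.perp_mem₁ hx
  rwa [← b.en, ← b.ea] at this

theorem WW_symm (x : G) : WW V₂ V₁ x = WW V₁ V₂ x := by
  unfold WW
  congr 1
  ext y
  constructor
  · rintro ⟨g, hg, v, hv, rfl⟩
    exact ⟨g, hg, v, hv.symm, rfl⟩
  · rintro ⟨g, hg, v, hv, rfl⟩
    exact ⟨g, hg, v, hv.symm, rfl⟩

/-! ### The other point `a` -/

/-- The configuration with `n` and `a` exchanged. -/
theorem flip {g : G} (hgS : g ∈ (S : Subgroup G)) (hg : M₁.Ind g tt) :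
    Base S (M₁.relabel tt) (M₂.relabel tt) (g * h * g⁻¹) := by
  have hgn : g * M₁.e nn * g⁻¹ = M₁.e aa := Dih.tt_n hg
  -- the action of `g` on `V₂`
  obtain ⟨p₂, hp₂⟩ := M₂.exists_ind (b.dih₂.S_le hgS)
  have hr : TTp (tt⁻¹ * p₂) := by
    have h1 := b.dih₂.d8 g hgS p₂ hp₂
    have h2 : M₂.e (nn ∘ p₂.symm) = M₂.e aa := by
      rw [← hp₂, ← b.en, ← b.ea, hgn]
    exact ttp_of_aa p₂ h1 (M₂.e_eq_iff.1 h2)
  have hgV₂ : g ∈ normalizer (V₂ : Set G) := b.dih₂.S_norm hgS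
  have hgV₁ : g ∈ normalizer (V₁ : Set G) := b.dih₁.S_norm hgS
  refine ⟨b.two, b.dih₁.relabel, b.dih₂.relabel, ?_, ?_, ?_, ?_, ?_, ?_, ?_⟩
  · change M₁.e (nn ∘ tt.symm) = M₂.e (nn ∘ tt.symm)
    rw [nn_tt]; exact b.ea
  · change M₁.e (aa ∘ tt.symm) = M₂.e (aa ∘ tt.symm)
    rw [aa_tt]; exact b.en
  · change g * h * g⁻¹ * M₁.e (nn ∘ tt.symm) = M₁.e (nn ∘ tt.symm) * (g * h * g⁻¹)
    rw [nn_tt, ← hgn]
    calc g * h * g⁻¹ * (g * M₁.e nn * g⁻¹) = g * (h * M₁.e nn) * g⁻¹ := by group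
      _ = g * (M₁.e nn * h) * g⁻¹ := by rw [b.hn]
      _ = g * M₁.e nn * g⁻¹ * (g * h * g⁻¹) := by group
  · intro v hv
    rw [mem_cj] at hv
    have h1 : g⁻¹ * v * g ∈ cj h V₂ := by
      rw [mem_cj]
      have h2 := (mem_normalizer_iff.1 (inv_mem hgV₂) _).1 hv
      have h3 : g⁻¹ * ((g * h * g⁻¹)⁻¹ * v * (g * h * g⁻¹)) * g⁻¹⁻¹ = h⁻¹ * (g⁻¹ * v * g) * h := by group
      rwa [h3] at h2
    obtain ⟨p, hp, hi⟩ := b.act₁ _ h1
    refine ⟨p, hp, ?_⟩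
    have h4 := relabel_ind tt ((hg.mul hi).mul hg.inv)
    have h5 : g * (g⁻¹ * v * g) * g⁻¹ = v := by group
    have h6 : tt⁻¹ * (tt * p * tt⁻¹) * tt = p := by group
    rwa [h5, h6] at h4
  · intro v hv
    have h1 : g⁻¹ * v * g ∈ V₁ := by
      have := (mem_normalizer_iff.1 (inv_mem hgV₁) _).1 hv
      rwa [inv_inv] at this
    obtain ⟨p, hp, hi⟩ := b.act₂ _ h1
    obtain ⟨q, hq0⟩ : ∃ q, q = (tt⁻¹ * p₂) * p * (tt⁻¹ * p₂)⁻¹ := ⟨_, rfl⟩
    have hq : Tp q := by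
      have := hp.conj _ (TTp_inv hr)
      rwa [inv_inv, ← hq0] at this
    refine ⟨q, hq, ?_⟩
    intro x
    have h2 := hp₂.inv (x ∘ tt.symm)
    have h3 := hp₂.inv ((x ∘ q.symm) ∘ tt.symm)
    rw [inv_inv] at h2 h3
    have h4 := hi ((x ∘ tt.symm) ∘ (p₂⁻¹).symm)
    rw [M₂.cj_e, M₂.cj_e, ← h2] at h4
    change v * (g * h * g⁻¹ * M₂.e (x ∘ tt.symm) * (g * h * g⁻¹)⁻¹) * v⁻¹ =
      g * h * g⁻¹ * M₂.e ((x ∘ q.symm) ∘ tt.symm) * (g * h * g⁻¹)⁻¹
    calc v * (g * h * g⁻¹ * M₂.e (x ∘ tt.symm) * (g * h * g⁻¹)⁻¹) * v⁻¹ =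
          g * (g⁻¹ * v * g * (h * (g⁻¹ * M₂.e (x ∘ tt.symm) * g) * h⁻¹) * (g⁻¹ * v * g)⁻¹) * g⁻¹ := by
            group
      _ = g * h * (g⁻¹ * M₂.e ((x ∘ q.symm) ∘ tt.symm) * g) * h⁻¹ * g⁻¹ := by
            rw [h4, h3]
            have h5 : ((x ∘ tt.symm) ∘ (p₂⁻¹).symm) ∘ p.symm =
                ((x ∘ q.symm) ∘ tt.symm) ∘ (p₂⁻¹).symm := by
              funext i
              change x (tt⁻¹ (p₂ (p⁻¹ i))) = x (q⁻¹ (tt⁻¹ (p₂ i)))
              congr 1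
              rw [← Equiv.Perm.mul_apply, ← Equiv.Perm.mul_apply, ← Equiv.Perm.mul_apply,
                ← Equiv.Perm.mul_apply, hq0]
              congr 1
              group
            rw [h5]
            group
      _ = _ := by group
  · obtain ⟨w, hw, hi⟩ := b.ex
    refine ⟨g * w * g⁻¹, ?_, ?_⟩
    · rw [mem_cj] at hw ⊢
      have h2 := (mem_normalizer_iff.1 hgV₂ _).1 hw
      have h3 : (g * h * g⁻¹)⁻¹ * (g * w * g⁻¹) * (g * h * g⁻¹) = g * (h⁻¹ * w * h) * g⁻¹ := by group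
      rw [h3]
      exact h2
    · have h4 := relabel_ind tt ((hg.mul hi).mul hg.inv)
      have h6 : tt⁻¹ * (tt * Equiv.swap 0 1 * tt⁻¹) * tt = Equiv.swap 0 1 := by group
      rwa [h6] at h4
  · intro P hP
    change (P : Subgroup G) ≤ centralizer ({M₁.e (nn ∘ tt.symm)} : Set G) at hP
    rw [nn_tt, ← hgn] at hP
    refine b.nc (g⁻¹ • P) ?_
    rintro _ ⟨x, hx, rfl⟩
    have h1 := mem_C.1 (hP hx)
    refine mem_C.2 ?_
    change g⁻¹ * x * g⁻¹⁻¹ * M₁.e nn = M₁.e nn * (g⁻¹ * x * g⁻¹⁻¹)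
    rw [inv_inv]
    calc g⁻¹ * x * g * M₁.e nn = g⁻¹ * (x * (g * M₁.e nn * g⁻¹)) * g := by group
      _ = g⁻¹ * (g * M₁.e nn * g⁻¹ * x) * g := by rw [h1]
      _ = M₁.e nn * (g⁻¹ * x * g) := by group

/-! ### `V_i ≤ Q_n`, `W_n ≤ Q_n`, `[W_n, Q_n] ≤ ⟨n⟩` -/

variable [Finite G]

/-- `Q_n` acts on `V₁` inside `⟨(0 1)⟩`. -/
theorem Q_ind₁ {q : G} (hq : q ∈ Q (M₁.e nn)) : ∃ p, Tp p ∧ M₁.Ind q p := by
  obtain ⟨p, hp, hi⟩ := b.dih₁.T_ind (b.Q_le_T hq)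
  refine ⟨p, ttp_bb p hp ((hi.commute_iff _).1 ?_), hi⟩
  exact (b.UU_comm_Q (b.perp_mem₁ (x := bb) (by decide)) hq).symm

theorem Q_ind₂ {q : G} (hq : q ∈ Q (M₁.e nn)) : ∃ p, Tp p ∧ M₂.Ind q p :=
  b.symm.Q_ind₁ (by rwa [← b.en])

omit b [Finite G] in
theorem comm_of_ind {V L : Subgroup G} {M : FiveMod V L} {q : G} {p : Equiv.Perm (Fin 5)} (hp : Tp p)
    (hi : M.Ind q p) {v : G} (hv : v ∈ V) :
    v * q * v⁻¹ * q⁻¹ = 1 ∨ v * q * v⁻¹ * q⁻¹ = M.e nn := by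
  obtain ⟨x, rfl⟩ := (M.mem_iff v).1 hv
  have h1 : M.e x * q * (M.e x)⁻¹ * q⁻¹ = (q * M.e x * q⁻¹ * (M.e x)⁻¹)⁻¹ := by group
  rw [h1, hi.comm_eq, M.e_inv]
  rcases hp.comm x with h2 | h2
  · exact Or.inl ((M.ker _).2 h2)
  · exact Or.inr (M.e_eq_iff.2 h2)

theorem V₁_le_Q : V₁ ≤ Q (M₁.e nn) := fun v hv => by
  refine le_o2_of_comm b.two (e_sq' M₁ nn) (n_ne M₁) (M₁.comm hv (M₁.e_mem _)) fun q hq => ?_
  obtain ⟨p, hp, hi⟩ := b.Q_ind₁ hq
  exact comm_of_ind hp hi hv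

theorem V₂_le_Q : V₂ ≤ Q (M₁.e nn) := by
  have := b.symm.V₁_le_Q
  rwa [← b.en] at this

theorem comm_V {v q : G} (hv : v ∈ V₁ ∨ v ∈ V₂) (hq : q ∈ Q (M₁.e nn)) :
    v * q * v⁻¹ * q⁻¹ = 1 ∨ v * q * v⁻¹ * q⁻¹ = M₁.e nn := by
  rcases hv with hv | hv
  · obtain ⟨p, hp, hi⟩ := b.Q_ind₁ hq
    exact comm_of_ind hp hi hv
  · obtain ⟨p, hp, hi⟩ := b.Q_ind₂ hq
    rw [b.en]
    exact comm_of_ind hp hi hv

/-- `W_n ≤ Q_n` -/
theorem WW_le_Q : WW V₁ V₂ (M₁.e nn) ≤ Q (M₁.e nn) :=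
  WW_le (fun _ hg _ hv => b.Q_conj hg (b.V₁_le_Q hv)) fun _ hg _ hv => b.Q_conj hg (b.V₂_le_Q hv)

/-- `[W_n, Q_n] ≤ ⟨n⟩` -/
theorem WW_comm {w q : G} (hw : w ∈ WW V₁ V₂ (M₁.e nn)) (hq : q ∈ Q (M₁.e nn)) :
    w * q * w⁻¹ * q⁻¹ = 1 ∨ w * q * w⁻¹ * q⁻¹ = M₁.e nn := by
  have hn : ∀ {y : G}, y ∈ Q (M₁.e nn) → y * M₁.e nn = M₁.e nn * y := fun hy => mem_C.1 (o2_le _ hy)
  revert q
  induction hw using closure_induction with
  | mem y hy =>
    obtain ⟨g, hg, v, hv, rfl⟩ := hy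
    intro q hq
    have h1 : g * v * g⁻¹ * q * (g * v * g⁻¹)⁻¹ * q⁻¹ =
        g * (v * (g⁻¹ * q * g) * v⁻¹ * (g⁻¹ * q * g)⁻¹) * g⁻¹ := by group
    rw [h1]
    rcases b.comm_V hv (b.Q_conj' hg hq) with h2 | h2
    · left; rw [h2]; group
    · right; rw [h2, hg, mul_inv_cancel_right]
  | one => intro q _; left; group
  | mul x y hx hy h1 h2 =>
    intro q hq
    have hxQ : x ∈ Q (M₁.e nn) := b.WW_le_Q hx
    have e : x * y * q * (x * y)⁻¹ * q⁻¹ = x * (y * q * y⁻¹ * q⁻¹) * x⁻¹ * (x * q * x⁻¹ * q⁻¹) := by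
      group
    rw [e]
    rcases h1 hq with h3 | h3 <;> rcases h2 hq with h4 | h4 <;> rw [h3, h4]
    · left; group
    · right; rw [hn hxQ]; group
    · right; group
    · left
      rw [hn hxQ, mul_inv_cancel_right, M₁.e_sq]
  | inv x hx h1 =>
    intro q hq
    have hxQ : x ∈ Q (M₁.e nn) := b.WW_le_Q hx
    have e : x⁻¹ * q * x⁻¹⁻¹ * q⁻¹ = x⁻¹ * (x * q * x⁻¹ * q⁻¹)⁻¹ * x := by group
    rw [e]
    rcases h1 hq with h3 | h3 <;> rw [h3]
    · left; group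
    · right
      rw [M₁.e_inv, mul_assoc, ← hn hxQ, ← mul_assoc, inv_mul_cancel, one_mul]

/-- `U_n ≤ W_n` -/
theorem UU_le_WW : UU (M₁.e nn) (M₁.e aa) ≤ WW V₁ V₂ (M₁.e nn) :=
  UU_le (le_WW₁ V₁ V₂ _ (M₁.e_mem _)) fun _ hg => mem_WW₁ hg (M₁.e_mem _)

/-- `U_n` centralises `W_n`. -/
theorem UU_comm_WW {u w : G} (hu : u ∈ UU (M₁.e nn) (M₁.e aa)) (hw : w ∈ WW V₁ V₂ (M₁.e nn)) :
    u * w = w * u :=
  b.UU_comm_Q hu (b.WW_le_Q hw)

theorem T_le : (S : Subgroup G) ⊓ centralizer ({M₁.e nn} : Set G) ≤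
    centralizer ({M₁.e nn} : Set G) ⊓ centralizer ({M₁.e aa} : Set G) := fun _ hg =>
  mem_inf.2 ⟨hg.2, mem_C.2 (b.dih₁.T_comm_a hg)⟩

/-- `Ω₁(Z(T)) = {1, n, a, s}` on `U_n`: an element of `U_n` centralised by `T` is in `{1, n, a, s}`. -/
theorem mem_E4 {u : G} (hu : u ∈ UU (M₁.e nn) (M₁.e aa))
    (hT : ∀ g ∈ (S : Subgroup G) ⊓ centralizer ({M₁.e nn} : Set G), g * u = u * g) :
    u = 1 ∨ u = M₁.e nn ∨ u = M₁.e aa ∨ u = M₁.e ss := by
  refine b.dih₁.zT_le (MinSimple.VModule.mem_zc.2 ⟨b.Q_le_T (b.UU_le_Q hu), hT, ?_⟩)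
  rw [pow_two]; exact b.UU_sq hu

/-! ### The action of `W_n` on `V_i` -/

theorem exists_move₁ : ∃ w ∈ WW V₁ V₂ (M₁.e nn), M₁.Ind w (Equiv.swap 0 1) := by
  obtain ⟨w, hw, hi⟩ := b.ex
  refine ⟨w, ?_, hi⟩
  rw [mem_cj] at hw
  have h1 := mem_WW₂ (V₁ := V₁) (V₂ := V₂) b.hn hw
  have h2 : h * (h⁻¹ * w * h) * h⁻¹ = w := by group
  rwa [h2] at h1

theorem exists_move₂ : ∃ w ∈ WW V₁ V₂ (M₁.e nn), M₂.Ind w (Equiv.swap 0 1) := by
  obtain ⟨w, hw, hi⟩ := b.symm.exists_move₁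
  refine ⟨w, ?_, hi⟩
  rwa [b.WW_symm, ← b.en] at hw

/-- `V₁ ∩ U_n = n^⊥` -/
theorem perp_of_mem₁ {x : Vec} (hx : M₁.e x ∈ UU (M₁.e nn) (M₁.e aa)) : x 0 = x 1 := by
  obtain ⟨w, hw, hi⟩ := b.exists_move₁
  have h1 := b.UU_comm_WW hx hw
  exact (swap_fix_iff x).1 ((hi.commute_iff x).1 h1.symm)

theorem perp_of_mem₂ {x : Vec} (hx : M₂.e x ∈ UU (M₁.e nn) (M₁.e aa)) : x 0 = x 1 := by
  obtain ⟨w, hw, hi⟩ := b.exists_move₂
  have h1 := b.UU_comm_WW hx hw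
  exact (swap_fix_iff x).1 ((hi.commute_iff x).1 h1.symm)

/-! ### The other point `a` -/

omit b [Finite G] in
theorem rel_nn {V L : Subgroup G} (M : FiveMod V L) : (M.relabel tt).e nn = M.e aa := by
  change M.e (nn ∘ tt.symm) = M.e aa
  rw [nn_tt]

omit b [Finite G] in
theorem rel_aa {V L : Subgroup G} (M : FiveMod V L) : (M.relabel tt).e aa = M.e nn := by
  change M.e (aa ∘ tt.symm) = M.e nn
  rw [aa_tt]

omit b [Finite G] in
theorem rel_ss {V L : Subgroup G} (M : FiveMod V L) : (M.relabel tt).e ss = M.e ss := by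
  change M.e (ss ∘ tt.symm) = M.e ss
  rw [ss_tt]

theorem exists_flip : ∃ h', Base S (M₁.relabel tt) (M₂.relabel tt) h' := by
  obtain ⟨g, hgS, hg⟩ := b.dih₁.exists_swap
  exact ⟨_, b.flip hgS hg⟩

/-- `T = C_S(a)` -/
theorem T_eq : (S : Subgroup G) ⊓ centralizer ({M₁.e nn} : Set G) =
    (S : Subgroup G) ⊓ centralizer ({M₁.e aa} : Set G) := by
  obtain ⟨h', b'⟩ := b.exists_flip
  refine le_antisymm (fun g hg => ⟨hg.1, mem_C.2 (b.dih₁.T_comm_a hg)⟩) fun g hg => ⟨hg.1, ?_⟩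
  have h1 : g ∈ (S : Subgroup G) ⊓ centralizer ({(M₁.relabel tt).e nn} : Set G) := by
    rwa [rel_nn]
  have h2 := b'.dih₁.T_comm_a h1
  rw [rel_aa] at h2
  exact mem_C.2 h2

theorem not_dvd_a : ¬ 2 ∣ ((S : Subgroup G) ⊓ centralizer ({M₁.e nn} : Set G)).relIndex
    (centralizer ({M₁.e aa} : Set G)) := by
  obtain ⟨h', b'⟩ := b.exists_flip
  have h1 := b'.not_dvd
  rwa [rel_nn, ← b.T_eq] at h1

theorem Qa_le_T : Q (M₁.e aa) ≤ (S : Subgroup G) ⊓ centralizer ({M₁.e nn} : Set G) := by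
  obtain ⟨h', b'⟩ := b.exists_flip
  have h1 := b'.Q_le_T
  rwa [rel_nn, ← b.T_eq] at h1

theorem WWa_le_Qa : WW V₁ V₂ (M₁.e aa) ≤ Q (M₁.e aa) := by
  obtain ⟨h', b'⟩ := b.exists_flip
  have h1 := b'.WW_le_Q
  rwa [rel_nn] at h1

theorem WWa_comm {w q : G} (hw : w ∈ WW V₁ V₂ (M₁.e aa)) (hq : q ∈ Q (M₁.e aa)) :
    w * q * w⁻¹ * q⁻¹ = 1 ∨ w * q * w⁻¹ * q⁻¹ = M₁.e aa := by
  obtain ⟨h', b'⟩ := b.exists_flip
  have h1 := b'.WW_comm (w := w) (q := q) (by rwa [rel_nn]) (by rwa [rel_nn])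
  rwa [rel_nn] at h1

theorem UUa_le_WWa : UU (M₁.e aa) (M₁.e nn) ≤ WW V₁ V₂ (M₁.e aa) := by
  obtain ⟨h', b'⟩ := b.exists_flip
  have h1 := b'.UU_le_WW
  rwa [rel_nn, rel_aa] at h1

theorem UUa_comm_Qa {u q : G} (hu : u ∈ UU (M₁.e aa) (M₁.e nn)) (hq : q ∈ Q (M₁.e aa)) :
    u * q = q * u := by
  obtain ⟨h', b'⟩ := b.exists_flip
  exact b'.UU_comm_Q (by rwa [rel_nn, rel_aa]) (by rwa [rel_nn])

theorem UUa_sq {u : G} (hu : u ∈ UU (M₁.e aa) (M₁.e nn)) : u * u = 1 := by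
  obtain ⟨h', b'⟩ := b.exists_flip
  exact b'.UU_sq (by rwa [rel_nn, rel_aa])

/-- `Q_a` acts on `V₁` inside `⟨(2 3)⟩`. -/
theorem Qa_ind₁ {q : G} (hq : q ∈ Q (M₁.e aa)) : ∃ p, (p = 1 ∨ p = Equiv.swap 2 3) ∧ M₁.Ind q p := by
  obtain ⟨h', b'⟩ := b.exists_flip
  obtain ⟨p, hp, hi⟩ := b'.Q_ind₁ (q := q) (by rwa [rel_nn])
  refine ⟨_, ?_, ind_of_relabel tt hi⟩
  rcases hp with rfl | rfl
  · left; decide
  · right; decide

theorem Qa_ind₂ {q : G} (hq : q ∈ Q (M₁.e aa)) : ∃ p, (p = 1 ∨ p = Equiv.swap 2 3) ∧ M₂.Ind q p :=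
  b.symm.Qa_ind₁ (by rwa [← b.ea])

theorem exists_move_a₁ : ∃ w ∈ WW V₁ V₂ (M₁.e aa), M₁.Ind w (Equiv.swap 2 3) := by
  obtain ⟨h', b'⟩ := b.exists_flip
  obtain ⟨w, hw, hi⟩ := b'.exists_move₁
  refine ⟨w, by rwa [rel_nn] at hw, ?_⟩
  have h1 := ind_of_relabel tt hi
  rwa [show tt * Equiv.swap 0 1 * tt⁻¹ = Equiv.swap 2 3 by decide] at h1

theorem exists_move_a₂ : ∃ w ∈ WW V₁ V₂ (M₁.e aa), M₂.Ind w (Equiv.swap 2 3) := by
  obtain ⟨h', b'⟩ := b.exists_flip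
  obtain ⟨w, hw, hi⟩ := b'.exists_move₂
  refine ⟨w, by rwa [rel_nn] at hw, ?_⟩
  have h1 := ind_of_relabel tt hi
  rwa [show tt * Equiv.swap 0 1 * tt⁻¹ = Equiv.swap 2 3 by decide] at h1

/-! ### Normal subgroups of `C_G(n)` inside `Y = C_G(n) ⊓ C_G(a)` -/

/-- #11330 (3) -/
theorem inf_le_Q {X : Subgroup G} (hX : X ≤ centralizer ({M₁.e nn} : Set G))
    (hn : centralizer ({M₁.e nn} : Set G) ≤ normalizer (X : Set G))
    (ha : X ≤ centralizer ({M₁.e aa} : Set G)) : WW V₁ V₂ (M₁.e aa) ⊓ X ≤ Q (M₁.e nn) := by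
  have h1 : WW V₁ V₂ (M₁.e aa) ⊓ X ≤ o2 X := by
    refine le_o2 inf_le_right ((o2_isPGroup _).to_le (inf_le_left.trans b.WWa_le_Qa)) ?_
    intro x hx
    refine mem_normalizer_of_cj_le ?_
    rintro _ ⟨w, hw, rfl⟩
    exact mem_inf.2 ⟨WW_norm (mem_C.1 (ha hx)) hw.1, X.mul_mem (X.mul_mem hx hw.2) (X.inv_mem hx)⟩
  refine h1.trans (le_o2 ((o2_le X).trans hX) (o2_isPGroup X) ?_)
  exact hn.trans (normalizer_le_normalizer_o2' X)

theorem centralizer_UU_le : centralizer (UU (M₁.e nn) (M₁.e aa) : Set G) ≤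
    centralizer ({M₁.e nn} : Set G) ⊓ centralizer ({M₁.e aa} : Set G) := by
  intro g hg
  rw [mem_centralizer_iff] at hg
  exact mem_inf.2 ⟨mem_C.2 (hg _ (self_mem_UU _ _)).symm, mem_C.2 (hg _ (mem_UU_self _ _)).symm⟩

theorem normalizer_centralizer_UU : centralizer ({M₁.e nn} : Set G) ≤
    normalizer (centralizer (UU (M₁.e nn) (M₁.e aa) : Set G) : Set G) := by
  intro g hg
  refine mem_normalizer_of_cj_le ?_
  rintro _ ⟨x, hx, rfl⟩
  refine mem_centralizer_iff.2 fun u hu => ?_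
  have hg' : g⁻¹ * M₁.e nn = M₁.e nn * g⁻¹ := by
    rw [inv_mul_eq_iff_eq_mul, ← mul_assoc, mem_C.1 hg, mul_inv_cancel_right]
  have h1 := UU_norm (y := M₁.e aa) hg' hu
  rw [inv_inv] at h1
  have h2 := mem_centralizer_iff.1 hx _ h1
  change u * (g * x * g⁻¹) = g * x * g⁻¹ * u
  calc u * (g * x * g⁻¹) = g * (g⁻¹ * u * g * x) * g⁻¹ := by group
    _ = g * (x * (g⁻¹ * u * g)) * g⁻¹ := by rw [h2]
    _ = g * x * g⁻¹ * u := by group

/-- `C_{W_a}(U_n) ≤ Q_n` -/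
theorem WWa_inf_centralizer_le : WW V₁ V₂ (M₁.e aa) ⊓ centralizer (UU (M₁.e nn) (M₁.e aa) : Set G) ≤
    Q (M₁.e nn) :=
  b.inf_le_Q (b.centralizer_UU_le.trans inf_le_left) b.normalizer_centralizer_UU
    (b.centralizer_UU_le.trans inf_le_right)

/-- `C_{W_a}(U_n) = W_a ∩ Q_n` -/
theorem mem_Q_iff {w : G} (hw : w ∈ WW V₁ V₂ (M₁.e aa)) :
    w ∈ Q (M₁.e nn) ↔ ∀ u ∈ UU (M₁.e nn) (M₁.e aa), u * w = w * u :=
  ⟨fun h1 _ hu => b.UU_comm_Q hu h1, fun h1 => b.WWa_inf_centralizer_le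
    ⟨hw, mem_centralizer_iff.2 h1⟩⟩

/-- #11330 (4): `[W_a ∩ Q_n, W_n ∩ Q_a] = 1` -/
theorem comm_of_mem {w w' : G} (hw : w ∈ WW V₁ V₂ (M₁.e aa)) (hwQ : w ∈ Q (M₁.e nn))
    (hw' : w' ∈ WW V₁ V₂ (M₁.e nn)) (hwQ' : w' ∈ Q (M₁.e aa)) : w * w' = w' * w := by
  have h1 := b.WWa_comm hw hwQ'
  have h2 := b.WW_comm hw' hwQ
  have h3 : w' * w * w'⁻¹ * w⁻¹ = (w * w' * w⁻¹ * w'⁻¹)⁻¹ := by group
  rcases h1 with h1 | h1
  · rw [mul_inv_eq_one, mul_inv_eq_iff_eq_mul] at h1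
    exact h1
  · exfalso
    rw [h3, h1, M₁.e_inv] at h2
    rcases h2 with h2 | h2
    · exact a_ne M₁ h2
    · exact n_ne_a M₁ h2.symm

/-! ### The class of `a` -/

omit [Finite G] in
/-- `s` is not conjugate to `a`. -/
theorem conj_a_ne_s (g : G) : g * M₁.e aa * g⁻¹ ≠ M₁.e ss := by
  intro h0
  obtain ⟨k, hkS, hk⟩ := b.dih₁.exists_swap
  have h1 : k * M₁.e nn * k⁻¹ = M₁.e aa := Dih.tt_n hk
  refine b.nc ((g * k)⁻¹ • S) ?_
  rintro _ ⟨x, hx, rfl⟩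
  refine mem_C.2 ?_
  have h2 := b.dih₁.S_comm hx
  have h3 : (g * k) * M₁.e nn * (g * k)⁻¹ = M₁.e ss := by
    rw [← h0, ← h1]; group
  rw [← h3] at h2
  change (g * k)⁻¹ * x * (g * k)⁻¹⁻¹ * M₁.e nn = M₁.e nn * ((g * k)⁻¹ * x * (g * k)⁻¹⁻¹)
  rw [inv_inv]
  calc (g * k)⁻¹ * x * (g * k) * M₁.e nn = (g * k)⁻¹ * (x * (g * k * M₁.e nn * (g * k)⁻¹)) * (g * k) := by
        group
    _ = (g * k)⁻¹ * (g * k * M₁.e nn * (g * k)⁻¹ * x) * (g * k) := by rw [h2]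
    _ = M₁.e nn * ((g * k)⁻¹ * x * (g * k)) := by group

omit b [Finite G] in
theorem conj_a_ne_n {g : G} (hg : g * M₁.e nn = M₁.e nn * g) : g * M₁.e aa * g⁻¹ ≠ M₁.e nn := by
  intro h0
  have h1 : g * M₁.e nn * g⁻¹ = M₁.e nn := by rw [hg, mul_inv_cancel_right]
  have h2 : M₁.e aa = M₁.e nn := by
    have h3 : g * M₁.e aa * g⁻¹ = g * M₁.e nn * g⁻¹ := h0.trans h1.symm
    exact mul_left_cancel (mul_right_cancel h3)
  exact n_ne_a M₁ h2.symm

/-- `a` is the only member of `a ^ C_G(n)` centralised by `T`. -/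
theorem eq_a {g : G} (hg : g * M₁.e nn = M₁.e nn * g)
    (hT : ∀ t ∈ (S : Subgroup G) ⊓ centralizer ({M₁.e nn} : Set G),
      t * (g * M₁.e aa * g⁻¹) = g * M₁.e aa * g⁻¹ * t) : g * M₁.e aa * g⁻¹ = M₁.e aa := by
  rcases b.mem_E4 (mem_UU hg) hT with h1 | h1 | h1 | h1
  · exfalso
    have h2 : M₁.e aa = 1 := by
      rw [mul_inv_eq_one] at h1
      exact mul_eq_left.mp h1
    exact a_ne M₁ h2
  · exact absurd h1 (conj_a_ne_n hg)
  · exact h1
  · exact absurd h1 (b.conj_a_ne_s g)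

end Base

end Cfsg.Agent.Omega.TTn

end

section


/-!
# T-T, `n` not 2-central, without `Ω₁(Z(S)) ≤ V`

`Omega/TTn/{Dih,Base}.lean` of helper421 without the hypothesis `zc S ≤ V` (for `V_P = V₀ × A`, #15257): the same
structures `Dih`, `Base` and theorems in the namespace `TTn.Z` (all except `mem_E4`, `eq_a`).
-/

set_option autoImplicit false
set_option linter.unusedSectionVars false

namespace Cfsg.Agent.Omega.TTn.Z

open Subgroup Cfsg Cfsg.Agent.ZN Cfsg.Agent.ZN.ChoiceBase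
open Cfsg.Agent.Omega.S5.Mod Cfsg.Agent.Omega.S5.TT
open Cfsg.Agent.Omega.S5.TT.Pos (na ns as sn n_ne s_ne a_ne n_ne_a n_ne_s a_ne_s e_sq' mem_C)
open Cfsg.Agent.MinSimple.VModule (o2_isPGroup le_o2 o2_le le_normalizer_o2 o2_le_of_sylow
  normalizer_le_normalizer_zc)

universe u

variable {G : Type u} [Group G]

/-- `S ≤ L` induces `C((0 1)(2 3))` on the `O₄⁻(2)`-module `V`. -/
structure Dih (S : Sylow 2 G) {V L : Subgroup G} (M : FiveMod V L) : Prop where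
  S_le : (S : Subgroup G) ≤ L
  d8 : ∀ g ∈ (S : Subgroup G), ∀ p, M.Ind g p → p * dd = dd * p
  d8' : ∀ p, p * dd = dd * p → ∃ g ∈ (S : Subgroup G), M.Ind g p

namespace Dih

variable {S : Sylow 2 G} {V L : Subgroup G} {M : FiveMod V L} (t : Dih S M)
include t

theorem S_norm : (S : Subgroup G) ≤ normalizer (V : Set G) := t.S_le.trans M.le_normalizer

theorem S_comm {g : G} (hg : g ∈ (S : Subgroup G)) : g * M.e ss = M.e ss * g := by
  obtain ⟨p, hp⟩ := M.exists_ind (t.S_le hg)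
  exact (hp.commute_iff _).2 (Or.inl (fix_ss p (t.d8 g hg p hp)))

theorem T_ind {g : G} (hg : g ∈ (S : Subgroup G) ⊓ centralizer ({M.e nn} : Set G)) :
    ∃ p, TTp p ∧ M.Ind g p := by
  obtain ⟨p, hp⟩ := M.exists_ind (t.S_le hg.1)
  exact ⟨p, ttp_of p (t.d8 g hg.1 p hp) ((hp.commute_iff _).1 (mem_C.1 hg.2)), hp⟩

/-- an element of `S` swapping `n` and `a` -/
theorem exists_swap : ∃ g ∈ (S : Subgroup G), M.Ind g tt := t.d8' tt (by decide)

omit t in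
theorem tt_n {g : G} (hg : M.Ind g tt) : g * M.e nn * g⁻¹ = M.e aa := by
  rw [hg, M.e_eq_iff]; decide

omit t in
theorem tt_a {g : G} (hg : M.Ind g tt) : g * M.e aa * g⁻¹ = M.e nn := by
  rw [hg, M.e_eq_iff]; decide

omit t in
theorem tt_s {g : G} (hg : M.Ind g tt) : g * M.e ss * g⁻¹ = M.e ss := by
  rw [hg, M.e_eq_iff]; decide

theorem T_comm_a {g : G} (hg : g ∈ (S : Subgroup G) ⊓ centralizer ({M.e nn} : Set G)) :
    g * M.e aa = M.e aa * g := by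
  obtain ⟨p, hp, hi⟩ := t.T_ind hg
  exact (hi.commute_iff _).2 (Or.inl (ttp_aa p hp))

/-- `g ∈ S` swapping `n`, `a` normalises `T`. -/
theorem conj_T {g : G} (hgS : g ∈ (S : Subgroup G)) (hg : M.Ind g tt) {x : G}
    (hx : x ∈ (S : Subgroup G) ⊓ centralizer ({M.e nn} : Set G)) :
    g * x * g⁻¹ ∈ (S : Subgroup G) ⊓ centralizer ({M.e nn} : Set G) := by
  refine mem_inf.2 ⟨mul_mem (mul_mem hgS hx.1) (inv_mem hgS), mem_C.2 ?_⟩
  rw [← tt_a hg]
  calc g * x * g⁻¹ * (g * M.e aa * g⁻¹) = g * (x * M.e aa) * g⁻¹ := by group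
    _ = g * (M.e aa * x) * g⁻¹ := by rw [t.T_comm_a hx]
    _ = g * M.e aa * g⁻¹ * (g * x * g⁻¹) := by group

omit t in
theorem mem_T_of_ind {g : G} (hg : g ∈ (S : Subgroup G)) {p : Equiv.Perm (Fin 5)} (hp : TTp p)
    (hi : M.Ind g p) : g ∈ (S : Subgroup G) ⊓ centralizer ({M.e nn} : Set G) :=
  ⟨hg, mem_C.2 ((hi.commute_iff _).2 (Or.inl (ttp_nn p hp)))⟩

/-- `S = T ∪ T g`. -/
theorem mem_or {g : G} (hgS : g ∈ (S : Subgroup G)) (hg : M.Ind g tt) {x : G}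
    (hx : x ∈ (S : Subgroup G)) : x ∈ (S : Subgroup G) ⊓ centralizer ({M.e nn} : Set G) ∨
      x * g ∈ (S : Subgroup G) ⊓ centralizer ({M.e nn} : Set G) := by
  obtain ⟨p, hp⟩ := M.exists_ind (t.S_le hx)
  rcases ttp_or p (t.d8 x hx p hp) with h1 | h1
  · exact Or.inl (mem_T_of_ind hx h1 hp)
  · exact Or.inr (mem_T_of_ind (mul_mem hx hgS) h1 (hp.mul hg))

theorem V_le_S : V ≤ (S : Subgroup G) := by
  have h1 : IsPGroup 2 ((S : Subgroup G) ⊔ V : Subgroup G) :=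
    IsPGroup.to_sup_of_normal_right' S.isPGroup' M.isPGroup t.S_norm
  have h2 := S.is_maximal' h1 le_sup_left
  rw [← h2]
  exact le_sup_right

theorem S_le_normalizer_T [Finite G] : (S : Subgroup G) ≤
    normalizer (((S : Subgroup G) ⊓ centralizer ({M.e nn} : Set G) : Subgroup G) : Set G) := by
  obtain ⟨g, hgS, hg⟩ := t.exists_swap
  have h1 : g ∈ normalizer
      (((S : Subgroup G) ⊓ centralizer ({M.e nn} : Set G) : Subgroup G) : Set G) := by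
    refine mem_normalizer_of_cj_le ?_
    rintro _ ⟨x, hx, rfl⟩
    exact t.conj_T hgS hg hx
  intro x hx
  rcases t.mem_or hgS hg hx with h2 | h2
  · exact Subgroup.le_normalizer h2
  · have h3 := mul_mem (Subgroup.le_normalizer h2) (inv_mem h1)
    have e : x * g * g⁻¹ = x := by group
    rwa [e] at h3

theorem n_mem_zT : M.e nn ∈ zc ((S : Subgroup G) ⊓ centralizer ({M.e nn} : Set G)) :=
  MinSimple.VModule.mem_zc.2 ⟨⟨t.V_le_S (M.e_mem nn), mem_C.2 rfl⟩, fun _ hb => mem_C.1 hb.2,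
    e_sq' M nn⟩

theorem s_mem_zT : M.e ss ∈ zc ((S : Subgroup G) ⊓ centralizer ({M.e nn} : Set G)) :=
  MinSimple.VModule.mem_zc.2 ⟨⟨t.V_le_S (M.e_mem ss), mem_C.2 (M.e_comm _ _)⟩,
    fun _ hb => t.S_comm hb.1, e_sq' M ss⟩

end Dih


theorem Dih.of {S : Sylow 2 G} {V L : Subgroup G} {M : FiveMod V L} (t : Cfsg.Agent.Omega.TTn.Dih S M) : Dih S M :=
  ⟨t.S_le, t.d8, t.d8'⟩

/-! ### The configuration -/

/-- The configuration T-T with `n` not 2-central, for two modules over the same `S`. -/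
structure Base (S : Sylow 2 G) {V₁ V₂ L₁ L₂ : Subgroup G} (M₁ : FiveMod V₁ L₁)
    (M₂ : FiveMod V₂ L₂) (h : G) : Prop where
  two : IsCharacteristicTwoType G
  dih₁ : Dih S M₁
  dih₂ : Dih S M₂
  en : M₁.e nn = M₂.e nn
  ea : M₁.e aa = M₂.e aa
  hn : h * M₁.e nn = M₁.e nn * h
  act₁ : ∀ v ∈ cj h V₂, ∃ p, Tp p ∧ M₁.Ind v p
  act₂ : ∀ v ∈ V₁, ∃ p, Tp p ∧ (M₂.cj h).Ind v p
  ex : ∃ v ∈ cj h V₂, M₁.Ind v (Equiv.swap 0 1)
  nc : ∀ P : Sylow 2 G, ¬ (P : Subgroup G) ≤ centralizer ({M₁.e nn} : Set G)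

namespace Base

variable {S : Sylow 2 G} {V₁ V₂ L₁ L₂ : Subgroup G} {M₁ : FiveMod V₁ L₁} {M₂ : FiveMod V₂ L₂} {h : G}
  (b : Base S M₁ M₂ h)
include b

theorem es : M₁.e ss = M₂.e ss := by
  rw [← na M₁, ← na M₂, b.en, b.ea]

/-! ### The Sylow 2-subgroup `T` of `C_G(n)` -/

theorem card_S [Finite G] : Nat.card (S : Subgroup G) =
    2 * Nat.card ((S : Subgroup G) ⊓ centralizer ({M₁.e nn} : Set G) : Subgroup G) := by
  obtain ⟨g, hgS, hg⟩ := b.dih₁.exists_swap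
  set T := (S : Subgroup G) ⊓ centralizer ({M₁.e nn} : Set G) with hT
  have h1 : (T.subgroupOf S).index = 2 := by
    rw [index_eq_two_iff]
    refine ⟨⟨g, hgS⟩, fun x => ?_⟩
    have hgT : g ∉ T := by
      intro h0
      have h2 := Dih.tt_n hg
      rw [mem_C.1 h0.2, mul_inv_cancel_right] at h2
      exact n_ne_a M₁ h2
    by_cases hx : (x : G) ∈ T
    · right
      refine ⟨mem_subgroupOf.2 hx, fun h0 => hgT ?_⟩
      have h2 := mem_subgroupOf.1 h0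
      have h3 := mul_mem (inv_mem hx) h2
      have h4 : (x : G)⁻¹ * ((x * ⟨g, hgS⟩ : (S : Subgroup G)) : G) = g := by
        rw [coe_mul]; group
      rwa [h4] at h3
    · left
      refine ⟨mem_subgroupOf.2 ?_, fun h0 => hx (mem_subgroupOf.1 h0)⟩
      rcases b.dih₁.mem_or hgS hg x.2 with h2 | h2
      · exact absurd h2 hx
      · exact h2
  have h2 := (T.subgroupOf (S : Subgroup G)).card_mul_index
  rw [h1] at h2
  have h3 : Nat.card (T.subgroupOf (S : Subgroup G)) = Nat.card T :=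
    Nat.card_congr (subgroupOfEquivOfLe inf_le_left).toEquiv
  rw [← h2, h3, mul_comm]

/-- `T = C_S(n)` is a Sylow 2-subgroup of `C_G(n)`. -/
theorem not_dvd [Finite G] : ¬ 2 ∣ ((S : Subgroup G) ⊓ centralizer ({M₁.e nn} : Set G)).relIndex
    (centralizer ({M₁.e nn} : Set G)) := by
  have hf : Fact (Nat.Prime 2) := ⟨Nat.prime_two⟩
  set N := centralizer ({M₁.e nn} : Set G) with hN
  set T := (S : Subgroup G) ⊓ N with hT
  have hTp : IsPGroup 2 (T.subgroupOf N) :=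
    (S.isPGroup'.to_le inf_le_left).comap_of_injective _ N.subtype_injective
  obtain ⟨P, hP⟩ := hTp.exists_le_sylow
  have hPG : IsPGroup 2 ((P : Subgroup N).map N.subtype) := P.isPGroup'.map _
  obtain ⟨R, hR⟩ := hPG.exists_le_sylow
  have hlt : (P : Subgroup N).map N.subtype < (R : Subgroup G) := by
    refine lt_of_le_of_ne hR fun h0 => b.nc R ?_
    rw [← h0]
    exact map_subtype_le _
  have hcR : Nat.card (R : Subgroup G) = Nat.card (S : Subgroup G) :=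
    Nat.card_congr (Sylow.equiv R S).toEquiv
  have h2 : 2 * Nat.card ((P : Subgroup N).map N.subtype) ≤ Nat.card (R : Subgroup G) := by
    obtain ⟨k, hk⟩ := card_dvd_of_le hR
    rw [hk, mul_comm]
    refine Nat.mul_le_mul_left _ ?_
    rcases k with _ | _ | k
    · rw [mul_zero] at hk
      exact absurd hk Nat.card_pos.ne'
    · rw [zero_add, mul_one] at hk
      exact absurd (eq_of_le_of_card_ge hR hk.le) hlt.ne
    · omega
  have h3 : Nat.card ((P : Subgroup N).map N.subtype) = Nat.card (P : Subgroup N) :=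
    Nat.card_congr (equivMapOfInjective _ _ N.subtype_injective).symm.toEquiv
  have h4 : Nat.card (T.subgroupOf N) = Nat.card T :=
    Nat.card_congr (subgroupOfEquivOfLe inf_le_right).toEquiv
  have h5 : (P : Subgroup N) = T.subgroupOf N := by
    refine (eq_of_le_of_card_ge hP ?_).symm
    rw [h4, ← h3]
    have h6 := b.card_S
    rw [← hN, ← hT] at h6
    omega
  have h6 := P.not_dvd_index
  rw [h5] at h6
  exact h6

theorem Q_le_T [Finite G] : Q (M₁.e nn) ≤ (S : Subgroup G) ⊓ centralizer ({M₁.e nn} : Set G) :=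
  o2_le_of_sylow (S.isPGroup'.to_le inf_le_left) b.not_dvd

/-! ### `U_n ≤ Z(Q_n)` -/

theorem sq_n : (M₁.e nn) ^ 2 = 1 := e_sq' M₁ nn

theorem n_mem_Q [Finite G] : M₁.e nn ∈ Q (M₁.e nn) := by
  refine MinSimple.Basic.char2_centralizer b.two (e_sq' M₁ nn) (n_ne M₁)
    (mem_inf.2 ⟨mem_C.2 rfl, mem_centralizer_iff.2 fun q hq => ?_⟩)
  exact mem_C.1 (o2_le _ hq)

theorem a_comm_Q [Finite G] {q : G} (hq : q ∈ Q (M₁.e nn)) : q * M₁.e aa = M₁.e aa * q :=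
  b.dih₁.T_comm_a (b.Q_le_T hq)

theorem a_comm_n : M₁.e aa * M₁.e nn = M₁.e nn * M₁.e aa := M₁.e_comm _ _

theorem a_mem_Q [Finite G] : M₁.e aa ∈ Q (M₁.e nn) :=
  MinSimple.Basic.char2_centralizer b.two (e_sq' M₁ nn) (n_ne M₁)
    (mem_inf.2 ⟨mem_C.2 b.a_comm_n, mem_centralizer_iff.2 fun _ hq => b.a_comm_Q hq⟩)

theorem Q_conj [Finite G] {g q : G} (hg : g * M₁.e nn = M₁.e nn * g) (hq : q ∈ Q (M₁.e nn)) :
    g * q * g⁻¹ ∈ Q (M₁.e nn) :=
  (mem_normalizer_iff.1 (le_normalizer_o2 _ (mem_C.2 hg)) _).1 hq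

theorem Q_conj' [Finite G] {g q : G} (hg : g * M₁.e nn = M₁.e nn * g) (hq : q ∈ Q (M₁.e nn)) :
    g⁻¹ * q * g ∈ Q (M₁.e nn) := by
  have h1 : g⁻¹ * M₁.e nn = M₁.e nn * g⁻¹ := by
    rw [inv_mul_eq_iff_eq_mul, ← mul_assoc, hg, mul_inv_cancel_right]
  have h2 := b.Q_conj h1 hq
  rwa [inv_inv] at h2

/-- `U_n ≤ O₂(C_G(n))` -/
theorem UU_le_Q [Finite G] : UU (M₁.e nn) (M₁.e aa) ≤ Q (M₁.e nn) :=
  UU_le b.n_mem_Q fun _ hg => b.Q_conj hg b.a_mem_Q

/-- `U_n` centralises `O₂(C_G(n))`. -/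
theorem UU_comm_Q [Finite G] {u q : G} (hu : u ∈ UU (M₁.e nn) (M₁.e aa)) (hq : q ∈ Q (M₁.e nn)) :
    u * q = q * u := by
  have key : UU (M₁.e nn) (M₁.e aa) ≤ centralizer (Q (M₁.e nn) : Set G) := by
    refine UU_le ?_ ?_
    · rw [mem_centralizer_iff]
      intro q hq
      exact mem_C.1 (o2_le _ hq)
    · intro g hg
      rw [mem_centralizer_iff]
      intro q hq
      have h1 := b.a_comm_Q (b.Q_conj' hg hq)
      calc q * (g * M₁.e aa * g⁻¹) = g * (g⁻¹ * q * g * M₁.e aa) * g⁻¹ := by group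
        _ = g * (M₁.e aa * (g⁻¹ * q * g)) * g⁻¹ := by rw [h1]
        _ = g * M₁.e aa * g⁻¹ * q := by group
  exact (mem_centralizer_iff.1 (key hu) q hq).symm

theorem UU_comm [Finite G] {u v : G} (hu : u ∈ UU (M₁.e nn) (M₁.e aa))
    (hv : v ∈ UU (M₁.e nn) (M₁.e aa)) : u * v = v * u :=
  b.UU_comm_Q hu (b.UU_le_Q hv)

theorem UU_sq [Finite G] {u : G} (hu : u ∈ UU (M₁.e nn) (M₁.e aa)) : u * u = 1 := by
  induction hu using closure_induction with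
  | mem x hx =>
    rcases hx with rfl | ⟨g, -, rfl⟩
    · exact M₁.e_sq _
    · have h1 : g * M₁.e aa * g⁻¹ * (g * M₁.e aa * g⁻¹) = g * (M₁.e aa * M₁.e aa) * g⁻¹ := by group
      rw [h1, M₁.e_sq]; group
  | one => exact one_mul 1
  | mul x y hx hy h1 h2 =>
    have h3 : x * y = y * x := b.UU_comm hx hy
    calc x * y * (x * y) = x * (y * x) * y := by group
      _ = (x * x) * (y * y) := by rw [← h3]; group
      _ = 1 := by rw [h1, h2, one_mul]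
  | inv x _ h1 => rw [← mul_inv_rev, h1, inv_one]

/-! ### `V₀ ≤ U_n` -/

/-- `n^⊥ ≤ U_n` (first module) -/
theorem perp_mem₁ {x : Vec} (hx : x 0 = x 1) : M₁.e x ∈ UU (M₁.e nn) (M₁.e aa) := by
  have h1 : ∀ {y : Vec}, M₁.e y ∈ UU (M₁.e nn) (M₁.e aa) → M₁.e (y + 1) ∈ UU (M₁.e nn) (M₁.e aa) := by
    intro y hy
    rwa [M₁.e_add, M₁.e_one, mul_one]
  have hn : M₁.e nn ∈ UU (M₁.e nn) (M₁.e aa) := self_mem_UU _ _
  have ha : M₁.e aa ∈ UU (M₁.e nn) (M₁.e aa) := mem_UU_self _ _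
  have hp : ∀ (p : Equiv.Perm (Fin 5)), nn ∘ p.symm = nn →
      M₁.e (aa ∘ p.symm) ∈ UU (M₁.e nn) (M₁.e aa) := by
    intro p hp
    obtain ⟨g, -, hg⟩ := M₁.exists_lift p
    rw [← hg]
    exact mem_UU ((hg.commute_iff _).2 (Or.inl hp))
  have hb : M₁.e bb ∈ UU (M₁.e nn) (M₁.e aa) := by
    have := hp (Equiv.swap 3 4) (by decide)
    rwa [show aa ∘ (Equiv.swap 3 4 : Equiv.Perm (Fin 5)).symm = bb by decide] at this
  have hc : M₁.e cc ∈ UU (M₁.e nn) (M₁.e aa) := by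
    have := hp (Equiv.swap 2 4) (by decide)
    rwa [show aa ∘ (Equiv.swap 2 4 : Equiv.Perm (Fin 5)).symm = cc by decide] at this
  have hs : ∀ {y : Vec}, M₁.e y ∈ UU (M₁.e nn) (M₁.e aa) →
      M₁.e (nn + y) ∈ UU (M₁.e nn) (M₁.e aa) := by
    intro y hy
    rw [M₁.e_add]
    exact mul_mem hn hy
  rcases perp_cases x hx with rfl | rfl | rfl | rfl | rfl | rfl | rfl | rfl | rfl | rfl | rfl |
    rfl | rfl | rfl | rfl | rfl
  · rw [M₁.e_zero]; exact one_mem _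
  · rw [M₁.e_one]; exact one_mem _
  · exact hn
  · exact h1 hn
  · exact ha
  · exact h1 ha
  · exact hb
  · exact h1 hb
  · exact hc
  · exact h1 hc
  · exact hs ha
  · exact h1 (hs ha)
  · exact hs hb
  · exact h1 (hs hb)
  · exact hs hc
  · exact h1 (hs hc)

/-! ### The other module -/

end Base

theorem Dih.relabel {S : Sylow 2 G} {V L : Subgroup G} {M : FiveMod V L} (t : Dih S M) :
    Dih S (M.relabel tt) where
  S_le := t.S_le
  d8 g hg p hp := tt_conj_dd p (t.d8 g hg _ (ind_of_relabel tt hp))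
  d8' p hp := by
    obtain ⟨g, hg, hi⟩ := t.d8' (tt * p * tt⁻¹) (tt_conj_dd' p hp)
    refine ⟨g, hg, ?_⟩
    have h1 := relabel_ind tt hi
    have h2 : tt⁻¹ * (tt * p * tt⁻¹) * tt = p := by group
    rwa [h2] at h1

namespace Base

variable {S : Sylow 2 G} {V₁ V₂ L₁ L₂ : Subgroup G} {M₁ : FiveMod V₁ L₁} {M₂ : FiveMod V₂ L₂} {h : G}
  (b : Base S M₁ M₂ h)
include b

theorem symm : Base S M₂ M₁ h⁻¹ where
  two := b.two
  dih₁ := b.dih₂
  dih₂ := b.dih₁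
  en := b.en.symm
  ea := b.ea.symm
  hn := by
    rw [← b.en, inv_mul_eq_iff_eq_mul, ← mul_assoc, b.hn, mul_inv_cancel_right]
  act₁ := by
    intro v hv
    rw [mem_cj, inv_inv] at hv
    obtain ⟨p, hp, hi⟩ := b.act₂ _ hv
    refine ⟨p, hp, ?_⟩
    have h1 := ind_of_cj hi
    have h2 : h⁻¹ * (h * v * h⁻¹) * h = v := by group
    rwa [h2] at h1
  act₂ := by
    intro v hv
    obtain ⟨p, hp, hi⟩ := b.act₁ (h * v * h⁻¹) ⟨v, hv, rfl⟩
    refine ⟨p, hp, ?_⟩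
    have h1 := M₁.cj_ind (g := h⁻¹) hi
    have h2 : h⁻¹ * (h * v * h⁻¹) * h⁻¹⁻¹ = v := by group
    rwa [h2] at h1
  ex := by
    obtain ⟨w, hw, hi⟩ := b.ex
    obtain ⟨p, hp, hj⟩ := b.act₂ _ (M₁.e_mem mm)
    refine ⟨h⁻¹ * M₁.e mm * h, ?_, ?_⟩
    · rw [mem_cj, inv_inv]
      have h1 : h * (h⁻¹ * M₁.e mm * h) * h⁻¹ = M₁.e mm := by group
      rw [h1]; exact M₁.e_mem _
    · rcases hp with rfl | rfl
      · exfalso
        have h1 := mem_centralizer_iff.1 (FiveMod.ind_one_iff.1 hj) w hw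
        rw [hi.commute_iff] at h1
        revert h1; decide
      · exact ind_of_cj hj
  nc := by rw [← b.en]; exact b.nc

/-- `n^⊥ ≤ U_n` (second module) -/
theorem perp_mem₂ {x : Vec} (hx : x 0 = x 1) : M₂.e x ∈ UU (M₁.e nn) (M₁.e aa) := by
  have := b.symm.perp_mem₁ hx
  rwa [← b.en, ← b.ea] at this

theorem WW_symm (x : G) : WW V₂ V₁ x = WW V₁ V₂ x := by
  unfold WW
  congr 1
  ext y
  constructor
  · rintro ⟨g, hg, v, hv, rfl⟩
    exact ⟨g, hg, v, hv.symm, rfl⟩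
  · rintro ⟨g, hg, v, hv, rfl⟩
    exact ⟨g, hg, v, hv.symm, rfl⟩

/-! ### The other point `a` -/

/-- The configuration with `n` and `a` exchanged. -/
theorem flip {g : G} (hgS : g ∈ (S : Subgroup G)) (hg : M₁.Ind g tt) :
    Base S (M₁.relabel tt) (M₂.relabel tt) (g * h * g⁻¹) := by
  have hgn : g * M₁.e nn * g⁻¹ = M₁.e aa := Dih.tt_n hg
  -- the action of `g` on `V₂`
  obtain ⟨p₂, hp₂⟩ := M₂.exists_ind (b.dih₂.S_le hgS)
  have hr : TTp (tt⁻¹ * p₂) := by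
    have h1 := b.dih₂.d8 g hgS p₂ hp₂
    have h2 : M₂.e (nn ∘ p₂.symm) = M₂.e aa := by
      rw [← hp₂, ← b.en, ← b.ea, hgn]
    exact ttp_of_aa p₂ h1 (M₂.e_eq_iff.1 h2)
  have hgV₂ : g ∈ normalizer (V₂ : Set G) := b.dih₂.S_norm hgS
  have hgV₁ : g ∈ normalizer (V₁ : Set G) := b.dih₁.S_norm hgS
  refine ⟨b.two, b.dih₁.relabel, b.dih₂.relabel, ?_, ?_, ?_, ?_, ?_, ?_, ?_⟩
  · change M₁.e (nn ∘ tt.symm) = M₂.e (nn ∘ tt.symm)
    rw [nn_tt]; exact b.ea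
  · change M₁.e (aa ∘ tt.symm) = M₂.e (aa ∘ tt.symm)
    rw [aa_tt]; exact b.en
  · change g * h * g⁻¹ * M₁.e (nn ∘ tt.symm) = M₁.e (nn ∘ tt.symm) * (g * h * g⁻¹)
    rw [nn_tt, ← hgn]
    calc g * h * g⁻¹ * (g * M₁.e nn * g⁻¹) = g * (h * M₁.e nn) * g⁻¹ := by group
      _ = g * (M₁.e nn * h) * g⁻¹ := by rw [b.hn]
      _ = g * M₁.e nn * g⁻¹ * (g * h * g⁻¹) := by group
  · intro v hv
    rw [mem_cj] at hv
    have h1 : g⁻¹ * v * g ∈ cj h V₂ := by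
      rw [mem_cj]
      have h2 := (mem_normalizer_iff.1 (inv_mem hgV₂) _).1 hv
      have h3 : g⁻¹ * ((g * h * g⁻¹)⁻¹ * v * (g * h * g⁻¹)) * g⁻¹⁻¹ = h⁻¹ * (g⁻¹ * v * g) * h := by group
      rwa [h3] at h2
    obtain ⟨p, hp, hi⟩ := b.act₁ _ h1
    refine ⟨p, hp, ?_⟩
    have h4 := relabel_ind tt ((hg.mul hi).mul hg.inv)
    have h5 : g * (g⁻¹ * v * g) * g⁻¹ = v := by group
    have h6 : tt⁻¹ * (tt * p * tt⁻¹) * tt = p := by group
    rwa [h5, h6] at h4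
  · intro v hv
    have h1 : g⁻¹ * v * g ∈ V₁ := by
      have := (mem_normalizer_iff.1 (inv_mem hgV₁) _).1 hv
      rwa [inv_inv] at this
    obtain ⟨p, hp, hi⟩ := b.act₂ _ h1
    obtain ⟨q, hq0⟩ : ∃ q, q = (tt⁻¹ * p₂) * p * (tt⁻¹ * p₂)⁻¹ := ⟨_, rfl⟩
    have hq : Tp q := by
      have := hp.conj _ (TTp_inv hr)
      rwa [inv_inv, ← hq0] at this
    refine ⟨q, hq, ?_⟩
    intro x
    have h2 := hp₂.inv (x ∘ tt.symm)
    have h3 := hp₂.inv ((x ∘ q.symm) ∘ tt.symm)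
    rw [inv_inv] at h2 h3
    have h4 := hi ((x ∘ tt.symm) ∘ (p₂⁻¹).symm)
    rw [M₂.cj_e, M₂.cj_e, ← h2] at h4
    change v * (g * h * g⁻¹ * M₂.e (x ∘ tt.symm) * (g * h * g⁻¹)⁻¹) * v⁻¹ =
      g * h * g⁻¹ * M₂.e ((x ∘ q.symm) ∘ tt.symm) * (g * h * g⁻¹)⁻¹
    calc v * (g * h * g⁻¹ * M₂.e (x ∘ tt.symm) * (g * h * g⁻¹)⁻¹) * v⁻¹ =
          g * (g⁻¹ * v * g * (h * (g⁻¹ * M₂.e (x ∘ tt.symm) * g) * h⁻¹) * (g⁻¹ * v * g)⁻¹) * g⁻¹ := by
            group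
      _ = g * h * (g⁻¹ * M₂.e ((x ∘ q.symm) ∘ tt.symm) * g) * h⁻¹ * g⁻¹ := by
            rw [h4, h3]
            have h5 : ((x ∘ tt.symm) ∘ (p₂⁻¹).symm) ∘ p.symm =
                ((x ∘ q.symm) ∘ tt.symm) ∘ (p₂⁻¹).symm := by
              funext i
              change x (tt⁻¹ (p₂ (p⁻¹ i))) = x (q⁻¹ (tt⁻¹ (p₂ i)))
              congr 1
              rw [← Equiv.Perm.mul_apply, ← Equiv.Perm.mul_apply, ← Equiv.Perm.mul_apply,
                ← Equiv.Perm.mul_apply, hq0]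
              congr 1
              group
            rw [h5]
            group
      _ = _ := by group
  · obtain ⟨w, hw, hi⟩ := b.ex
    refine ⟨g * w * g⁻¹, ?_, ?_⟩
    · rw [mem_cj] at hw ⊢
      have h2 := (mem_normalizer_iff.1 hgV₂ _).1 hw
      have h3 : (g * h * g⁻¹)⁻¹ * (g * w * g⁻¹) * (g * h * g⁻¹) = g * (h⁻¹ * w * h) * g⁻¹ := by group
      rw [h3]
      exact h2
    · have h4 := relabel_ind tt ((hg.mul hi).mul hg.inv)
      have h6 : tt⁻¹ * (tt * Equiv.swap 0 1 * tt⁻¹) * tt = Equiv.swap 0 1 := by group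
      rwa [h6] at h4
  · intro P hP
    change (P : Subgroup G) ≤ centralizer ({M₁.e (nn ∘ tt.symm)} : Set G) at hP
    rw [nn_tt, ← hgn] at hP
    refine b.nc (g⁻¹ • P) ?_
    rintro _ ⟨x, hx, rfl⟩
    have h1 := mem_C.1 (hP hx)
    refine mem_C.2 ?_
    change g⁻¹ * x * g⁻¹⁻¹ * M₁.e nn = M₁.e nn * (g⁻¹ * x * g⁻¹⁻¹)
    rw [inv_inv]
    calc g⁻¹ * x * g * M₁.e nn = g⁻¹ * (x * (g * M₁.e nn * g⁻¹)) * g := by group
      _ = g⁻¹ * (g * M₁.e nn * g⁻¹ * x) * g := by rw [h1]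
      _ = M₁.e nn * (g⁻¹ * x * g) := by group

/-! ### `V_i ≤ Q_n`, `W_n ≤ Q_n`, `[W_n, Q_n] ≤ ⟨n⟩` -/

variable [Finite G]

/-- `Q_n` acts on `V₁` inside `⟨(0 1)⟩`. -/
theorem Q_ind₁ {q : G} (hq : q ∈ Q (M₁.e nn)) : ∃ p, Tp p ∧ M₁.Ind q p := by
  obtain ⟨p, hp, hi⟩ := b.dih₁.T_ind (b.Q_le_T hq)
  refine ⟨p, ttp_bb p hp ((hi.commute_iff _).1 ?_), hi⟩
  exact (b.UU_comm_Q (b.perp_mem₁ (x := bb) (by decide)) hq).symm

theorem Q_ind₂ {q : G} (hq : q ∈ Q (M₁.e nn)) : ∃ p, Tp p ∧ M₂.Ind q p :=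
  b.symm.Q_ind₁ (by rwa [← b.en])

omit b [Finite G] in
theorem comm_of_ind {V L : Subgroup G} {M : FiveMod V L} {q : G} {p : Equiv.Perm (Fin 5)} (hp : Tp p)
    (hi : M.Ind q p) {v : G} (hv : v ∈ V) :
    v * q * v⁻¹ * q⁻¹ = 1 ∨ v * q * v⁻¹ * q⁻¹ = M.e nn := by
  obtain ⟨x, rfl⟩ := (M.mem_iff v).1 hv
  have h1 : M.e x * q * (M.e x)⁻¹ * q⁻¹ = (q * M.e x * q⁻¹ * (M.e x)⁻¹)⁻¹ := by group
  rw [h1, hi.comm_eq, M.e_inv]
  rcases hp.comm x with h2 | h2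
  · exact Or.inl ((M.ker _).2 h2)
  · exact Or.inr (M.e_eq_iff.2 h2)

theorem V₁_le_Q : V₁ ≤ Q (M₁.e nn) := fun v hv => by
  refine le_o2_of_comm b.two (e_sq' M₁ nn) (n_ne M₁) (M₁.comm hv (M₁.e_mem _)) fun q hq => ?_
  obtain ⟨p, hp, hi⟩ := b.Q_ind₁ hq
  exact comm_of_ind hp hi hv

theorem V₂_le_Q : V₂ ≤ Q (M₁.e nn) := by
  have := b.symm.V₁_le_Q
  rwa [← b.en] at this

theorem comm_V {v q : G} (hv : v ∈ V₁ ∨ v ∈ V₂) (hq : q ∈ Q (M₁.e nn)) :
    v * q * v⁻¹ * q⁻¹ = 1 ∨ v * q * v⁻¹ * q⁻¹ = M₁.e nn := by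
  rcases hv with hv | hv
  · obtain ⟨p, hp, hi⟩ := b.Q_ind₁ hq
    exact comm_of_ind hp hi hv
  · obtain ⟨p, hp, hi⟩ := b.Q_ind₂ hq
    rw [b.en]
    exact comm_of_ind hp hi hv

/-- `W_n ≤ Q_n` -/
theorem WW_le_Q : WW V₁ V₂ (M₁.e nn) ≤ Q (M₁.e nn) :=
  WW_le (fun _ hg _ hv => b.Q_conj hg (b.V₁_le_Q hv)) fun _ hg _ hv => b.Q_conj hg (b.V₂_le_Q hv)

/-- `[W_n, Q_n] ≤ ⟨n⟩` -/
theorem WW_comm {w q : G} (hw : w ∈ WW V₁ V₂ (M₁.e nn)) (hq : q ∈ Q (M₁.e nn)) :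
    w * q * w⁻¹ * q⁻¹ = 1 ∨ w * q * w⁻¹ * q⁻¹ = M₁.e nn := by
  have hn : ∀ {y : G}, y ∈ Q (M₁.e nn) → y * M₁.e nn = M₁.e nn * y := fun hy => mem_C.1 (o2_le _ hy)
  revert q
  induction hw using closure_induction with
  | mem y hy =>
    obtain ⟨g, hg, v, hv, rfl⟩ := hy
    intro q hq
    have h1 : g * v * g⁻¹ * q * (g * v * g⁻¹)⁻¹ * q⁻¹ =
        g * (v * (g⁻¹ * q * g) * v⁻¹ * (g⁻¹ * q * g)⁻¹) * g⁻¹ := by group
    rw [h1]
    rcases b.comm_V hv (b.Q_conj' hg hq) with h2 | h2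
    · left; rw [h2]; group
    · right; rw [h2, hg, mul_inv_cancel_right]
  | one => intro q _; left; group
  | mul x y hx hy h1 h2 =>
    intro q hq
    have hxQ : x ∈ Q (M₁.e nn) := b.WW_le_Q hx
    have e : x * y * q * (x * y)⁻¹ * q⁻¹ = x * (y * q * y⁻¹ * q⁻¹) * x⁻¹ * (x * q * x⁻¹ * q⁻¹) := by
      group
    rw [e]
    rcases h1 hq with h3 | h3 <;> rcases h2 hq with h4 | h4 <;> rw [h3, h4]
    · left; group
    · right; rw [hn hxQ]; group
    · right; group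
    · left
      rw [hn hxQ, mul_inv_cancel_right, M₁.e_sq]
  | inv x hx h1 =>
    intro q hq
    have hxQ : x ∈ Q (M₁.e nn) := b.WW_le_Q hx
    have e : x⁻¹ * q * x⁻¹⁻¹ * q⁻¹ = x⁻¹ * (x * q * x⁻¹ * q⁻¹)⁻¹ * x := by group
    rw [e]
    rcases h1 hq with h3 | h3 <;> rw [h3]
    · left; group
    · right
      rw [M₁.e_inv, mul_assoc, ← hn hxQ, ← mul_assoc, inv_mul_cancel, one_mul]

/-- `U_n ≤ W_n` -/
theorem UU_le_WW : UU (M₁.e nn) (M₁.e aa) ≤ WW V₁ V₂ (M₁.e nn) :=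
  UU_le (le_WW₁ V₁ V₂ _ (M₁.e_mem _)) fun _ hg => mem_WW₁ hg (M₁.e_mem _)

/-- `U_n` centralises `W_n`. -/
theorem UU_comm_WW {u w : G} (hu : u ∈ UU (M₁.e nn) (M₁.e aa)) (hw : w ∈ WW V₁ V₂ (M₁.e nn)) :
    u * w = w * u :=
  b.UU_comm_Q hu (b.WW_le_Q hw)

theorem T_le : (S : Subgroup G) ⊓ centralizer ({M₁.e nn} : Set G) ≤
    centralizer ({M₁.e nn} : Set G) ⊓ centralizer ({M₁.e aa} : Set G) := fun _ hg =>
  mem_inf.2 ⟨hg.2, mem_C.2 (b.dih₁.T_comm_a hg)⟩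

/-! ### The action of `W_n` on `V_i` -/

theorem exists_move₁ : ∃ w ∈ WW V₁ V₂ (M₁.e nn), M₁.Ind w (Equiv.swap 0 1) := by
  obtain ⟨w, hw, hi⟩ := b.ex
  refine ⟨w, ?_, hi⟩
  rw [mem_cj] at hw
  have h1 := mem_WW₂ (V₁ := V₁) (V₂ := V₂) b.hn hw
  have h2 : h * (h⁻¹ * w * h) * h⁻¹ = w := by group
  rwa [h2] at h1

theorem exists_move₂ : ∃ w ∈ WW V₁ V₂ (M₁.e nn), M₂.Ind w (Equiv.swap 0 1) := by
  obtain ⟨w, hw, hi⟩ := b.symm.exists_move₁
  refine ⟨w, ?_, hi⟩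
  rwa [b.WW_symm, ← b.en] at hw

/-- `V₁ ∩ U_n = n^⊥` -/
theorem perp_of_mem₁ {x : Vec} (hx : M₁.e x ∈ UU (M₁.e nn) (M₁.e aa)) : x 0 = x 1 := by
  obtain ⟨w, hw, hi⟩ := b.exists_move₁
  have h1 := b.UU_comm_WW hx hw
  exact (swap_fix_iff x).1 ((hi.commute_iff x).1 h1.symm)

theorem perp_of_mem₂ {x : Vec} (hx : M₂.e x ∈ UU (M₁.e nn) (M₁.e aa)) : x 0 = x 1 := by
  obtain ⟨w, hw, hi⟩ := b.exists_move₂
  have h1 := b.UU_comm_WW hx hw
  exact (swap_fix_iff x).1 ((hi.commute_iff x).1 h1.symm)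

/-! ### The other point `a` -/

omit b [Finite G] in
theorem rel_nn {V L : Subgroup G} (M : FiveMod V L) : (M.relabel tt).e nn = M.e aa := by
  change M.e (nn ∘ tt.symm) = M.e aa
  rw [nn_tt]

omit b [Finite G] in
theorem rel_aa {V L : Subgroup G} (M : FiveMod V L) : (M.relabel tt).e aa = M.e nn := by
  change M.e (aa ∘ tt.symm) = M.e nn
  rw [aa_tt]

omit b [Finite G] in
theorem rel_ss {V L : Subgroup G} (M : FiveMod V L) : (M.relabel tt).e ss = M.e ss := by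
  change M.e (ss ∘ tt.symm) = M.e ss
  rw [ss_tt]

theorem exists_flip : ∃ h', Base S (M₁.relabel tt) (M₂.relabel tt) h' := by
  obtain ⟨g, hgS, hg⟩ := b.dih₁.exists_swap
  exact ⟨_, b.flip hgS hg⟩

/-- `T = C_S(a)` -/
theorem T_eq : (S : Subgroup G) ⊓ centralizer ({M₁.e nn} : Set G) =
    (S : Subgroup G) ⊓ centralizer ({M₁.e aa} : Set G) := by
  obtain ⟨h', b'⟩ := b.exists_flip
  refine le_antisymm (fun g hg => ⟨hg.1, mem_C.2 (b.dih₁.T_comm_a hg)⟩) fun g hg => ⟨hg.1, ?_⟩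
  have h1 : g ∈ (S : Subgroup G) ⊓ centralizer ({(M₁.relabel tt).e nn} : Set G) := by
    rwa [rel_nn]
  have h2 := b'.dih₁.T_comm_a h1
  rw [rel_aa] at h2
  exact mem_C.2 h2

theorem not_dvd_a : ¬ 2 ∣ ((S : Subgroup G) ⊓ centralizer ({M₁.e nn} : Set G)).relIndex
    (centralizer ({M₁.e aa} : Set G)) := by
  obtain ⟨h', b'⟩ := b.exists_flip
  have h1 := b'.not_dvd
  rwa [rel_nn, ← b.T_eq] at h1

theorem Qa_le_T : Q (M₁.e aa) ≤ (S : Subgroup G) ⊓ centralizer ({M₁.e nn} : Set G) := by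
  obtain ⟨h', b'⟩ := b.exists_flip
  have h1 := b'.Q_le_T
  rwa [rel_nn, ← b.T_eq] at h1

theorem WWa_le_Qa : WW V₁ V₂ (M₁.e aa) ≤ Q (M₁.e aa) := by
  obtain ⟨h', b'⟩ := b.exists_flip
  have h1 := b'.WW_le_Q
  rwa [rel_nn] at h1

theorem WWa_comm {w q : G} (hw : w ∈ WW V₁ V₂ (M₁.e aa)) (hq : q ∈ Q (M₁.e aa)) :
    w * q * w⁻¹ * q⁻¹ = 1 ∨ w * q * w⁻¹ * q⁻¹ = M₁.e aa := by
  obtain ⟨h', b'⟩ := b.exists_flip
  have h1 := b'.WW_comm (w := w) (q := q) (by rwa [rel_nn]) (by rwa [rel_nn])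
  rwa [rel_nn] at h1

theorem UUa_le_WWa : UU (M₁.e aa) (M₁.e nn) ≤ WW V₁ V₂ (M₁.e aa) := by
  obtain ⟨h', b'⟩ := b.exists_flip
  have h1 := b'.UU_le_WW
  rwa [rel_nn, rel_aa] at h1

theorem UUa_comm_Qa {u q : G} (hu : u ∈ UU (M₁.e aa) (M₁.e nn)) (hq : q ∈ Q (M₁.e aa)) :
    u * q = q * u := by
  obtain ⟨h', b'⟩ := b.exists_flip
  exact b'.UU_comm_Q (by rwa [rel_nn, rel_aa]) (by rwa [rel_nn])

theorem UUa_sq {u : G} (hu : u ∈ UU (M₁.e aa) (M₁.e nn)) : u * u = 1 := by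
  obtain ⟨h', b'⟩ := b.exists_flip
  exact b'.UU_sq (by rwa [rel_nn, rel_aa])

/-- `Q_a` acts on `V₁` inside `⟨(2 3)⟩`. -/
theorem Qa_ind₁ {q : G} (hq : q ∈ Q (M₁.e aa)) : ∃ p, (p = 1 ∨ p = Equiv.swap 2 3) ∧ M₁.Ind q p := by
  obtain ⟨h', b'⟩ := b.exists_flip
  obtain ⟨p, hp, hi⟩ := b'.Q_ind₁ (q := q) (by rwa [rel_nn])
  refine ⟨_, ?_, ind_of_relabel tt hi⟩
  rcases hp with rfl | rfl
  · left; decide
  · right; decide

theorem Qa_ind₂ {q : G} (hq : q ∈ Q (M₁.e aa)) : ∃ p, (p = 1 ∨ p = Equiv.swap 2 3) ∧ M₂.Ind q p :=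
  b.symm.Qa_ind₁ (by rwa [← b.ea])

theorem exists_move_a₁ : ∃ w ∈ WW V₁ V₂ (M₁.e aa), M₁.Ind w (Equiv.swap 2 3) := by
  obtain ⟨h', b'⟩ := b.exists_flip
  obtain ⟨w, hw, hi⟩ := b'.exists_move₁
  refine ⟨w, by rwa [rel_nn] at hw, ?_⟩
  have h1 := ind_of_relabel tt hi
  rwa [show tt * Equiv.swap 0 1 * tt⁻¹ = Equiv.swap 2 3 by decide] at h1

theorem exists_move_a₂ : ∃ w ∈ WW V₁ V₂ (M₁.e aa), M₂.Ind w (Equiv.swap 2 3) := by
  obtain ⟨h', b'⟩ := b.exists_flip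
  obtain ⟨w, hw, hi⟩ := b'.exists_move₂
  refine ⟨w, by rwa [rel_nn] at hw, ?_⟩
  have h1 := ind_of_relabel tt hi
  rwa [show tt * Equiv.swap 0 1 * tt⁻¹ = Equiv.swap 2 3 by decide] at h1

/-! ### Normal subgroups of `C_G(n)` inside `Y = C_G(n) ⊓ C_G(a)` -/

/-- #11330 (3) -/
theorem inf_le_Q {X : Subgroup G} (hX : X ≤ centralizer ({M₁.e nn} : Set G))
    (hn : centralizer ({M₁.e nn} : Set G) ≤ normalizer (X : Set G))
    (ha : X ≤ centralizer ({M₁.e aa} : Set G)) : WW V₁ V₂ (M₁.e aa) ⊓ X ≤ Q (M₁.e nn) := by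
  have h1 : WW V₁ V₂ (M₁.e aa) ⊓ X ≤ o2 X := by
    refine le_o2 inf_le_right ((o2_isPGroup _).to_le (inf_le_left.trans b.WWa_le_Qa)) ?_
    intro x hx
    refine mem_normalizer_of_cj_le ?_
    rintro _ ⟨w, hw, rfl⟩
    exact mem_inf.2 ⟨WW_norm (mem_C.1 (ha hx)) hw.1, X.mul_mem (X.mul_mem hx hw.2) (X.inv_mem hx)⟩
  refine h1.trans (le_o2 ((o2_le X).trans hX) (o2_isPGroup X) ?_)
  exact hn.trans (normalizer_le_normalizer_o2' X)

theorem centralizer_UU_le : centralizer (UU (M₁.e nn) (M₁.e aa) : Set G) ≤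
    centralizer ({M₁.e nn} : Set G) ⊓ centralizer ({M₁.e aa} : Set G) := by
  intro g hg
  rw [mem_centralizer_iff] at hg
  exact mem_inf.2 ⟨mem_C.2 (hg _ (self_mem_UU _ _)).symm, mem_C.2 (hg _ (mem_UU_self _ _)).symm⟩

theorem normalizer_centralizer_UU : centralizer ({M₁.e nn} : Set G) ≤
    normalizer (centralizer (UU (M₁.e nn) (M₁.e aa) : Set G) : Set G) := by
  intro g hg
  refine mem_normalizer_of_cj_le ?_
  rintro _ ⟨x, hx, rfl⟩
  refine mem_centralizer_iff.2 fun u hu => ?_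
  have hg' : g⁻¹ * M₁.e nn = M₁.e nn * g⁻¹ := by
    rw [inv_mul_eq_iff_eq_mul, ← mul_assoc, mem_C.1 hg, mul_inv_cancel_right]
  have h1 := UU_norm (y := M₁.e aa) hg' hu
  rw [inv_inv] at h1
  have h2 := mem_centralizer_iff.1 hx _ h1
  change u * (g * x * g⁻¹) = g * x * g⁻¹ * u
  calc u * (g * x * g⁻¹) = g * (g⁻¹ * u * g * x) * g⁻¹ := by group
    _ = g * (x * (g⁻¹ * u * g)) * g⁻¹ := by rw [h2]
    _ = g * x * g⁻¹ * u := by group

/-- `C_{W_a}(U_n) ≤ Q_n` -/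
theorem WWa_inf_centralizer_le : WW V₁ V₂ (M₁.e aa) ⊓ centralizer (UU (M₁.e nn) (M₁.e aa) : Set G) ≤
    Q (M₁.e nn) :=
  b.inf_le_Q (b.centralizer_UU_le.trans inf_le_left) b.normalizer_centralizer_UU
    (b.centralizer_UU_le.trans inf_le_right)

/-- `C_{W_a}(U_n) = W_a ∩ Q_n` -/
theorem mem_Q_iff {w : G} (hw : w ∈ WW V₁ V₂ (M₁.e aa)) :
    w ∈ Q (M₁.e nn) ↔ ∀ u ∈ UU (M₁.e nn) (M₁.e aa), u * w = w * u :=
  ⟨fun h1 _ hu => b.UU_comm_Q hu h1, fun h1 => b.WWa_inf_centralizer_le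
    ⟨hw, mem_centralizer_iff.2 h1⟩⟩

/-- #11330 (4): `[W_a ∩ Q_n, W_n ∩ Q_a] = 1` -/
theorem comm_of_mem {w w' : G} (hw : w ∈ WW V₁ V₂ (M₁.e aa)) (hwQ : w ∈ Q (M₁.e nn))
    (hw' : w' ∈ WW V₁ V₂ (M₁.e nn)) (hwQ' : w' ∈ Q (M₁.e aa)) : w * w' = w' * w := by
  have h1 := b.WWa_comm hw hwQ'
  have h2 := b.WW_comm hw' hwQ
  have h3 : w' * w * w'⁻¹ * w⁻¹ = (w * w' * w⁻¹ * w'⁻¹)⁻¹ := by group
  rcases h1 with h1 | h1
  · rw [mul_inv_eq_one, mul_inv_eq_iff_eq_mul] at h1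
    exact h1
  · exfalso
    rw [h3, h1, M₁.e_inv] at h2
    rcases h2 with h2 | h2
    · exact a_ne M₁ h2
    · exact n_ne_a M₁ h2.symm

/-! ### The class of `a` -/

omit [Finite G] in
/-- `s` is not conjugate to `a`. -/
theorem conj_a_ne_s (g : G) : g * M₁.e aa * g⁻¹ ≠ M₁.e ss := by
  intro h0
  obtain ⟨k, hkS, hk⟩ := b.dih₁.exists_swap
  have h1 : k * M₁.e nn * k⁻¹ = M₁.e aa := Dih.tt_n hk
  refine b.nc ((g * k)⁻¹ • S) ?_
  rintro _ ⟨x, hx, rfl⟩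
  refine mem_C.2 ?_
  have h2 := b.dih₁.S_comm hx
  have h3 : (g * k) * M₁.e nn * (g * k)⁻¹ = M₁.e ss := by
    rw [← h0, ← h1]; group
  rw [← h3] at h2
  change (g * k)⁻¹ * x * (g * k)⁻¹⁻¹ * M₁.e nn = M₁.e nn * ((g * k)⁻¹ * x * (g * k)⁻¹⁻¹)
  rw [inv_inv]
  calc (g * k)⁻¹ * x * (g * k) * M₁.e nn = (g * k)⁻¹ * (x * (g * k * M₁.e nn * (g * k)⁻¹)) * (g * k) := by
        group
    _ = (g * k)⁻¹ * (g * k * M₁.e nn * (g * k)⁻¹ * x) * (g * k) := by rw [h2]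
    _ = M₁.e nn * ((g * k)⁻¹ * x * (g * k)) := by group

omit b [Finite G] in
theorem conj_a_ne_n {g : G} (hg : g * M₁.e nn = M₁.e nn * g) : g * M₁.e aa * g⁻¹ ≠ M₁.e nn := by
  intro h0
  have h1 : g * M₁.e nn * g⁻¹ = M₁.e nn := by rw [hg, mul_inv_cancel_right]
  have h2 : M₁.e aa = M₁.e nn := by
    have h3 : g * M₁.e aa * g⁻¹ = g * M₁.e nn * g⁻¹ := h0.trans h1.symm
    exact mul_left_cancel (mul_right_cancel h3)
  exact n_ne_a M₁ h2.symm

end Base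

theorem Base.of {S : Sylow 2 G} {V₁ V₂ L₁ L₂ : Subgroup G} {M₁ : FiveMod V₁ L₁} {M₂ : FiveMod V₂ L₂} {h : G}
    (b : Cfsg.Agent.Omega.TTn.Base S M₁ M₂ h) : Base S M₁ M₂ h :=
  ⟨b.two, Dih.of b.dih₁, Dih.of b.dih₂, b.en, b.ea, b.hn, b.act₁, b.act₂, b.ex, b.nc⟩

end Cfsg.Agent.Omega.TTn.Z

end

section


/-!
# #14261 (2.4) on `Base` (field `core` of `Di.Fr`, standard position)

`f ∈ W_n`, `l ∈ L₁`, `f ^ l` centralises `U_n` and `U_a`. Then `f ^ l ∈ Q_n`.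
-/

set_option autoImplicit false

namespace Cfsg.Agent.Omega.TTn

open Subgroup Cfsg Cfsg.Agent.ZN Cfsg.Agent.ZN.ChoiceBase
open Cfsg.Agent.Omega.S5.Mod Cfsg.Agent.Omega.S5.TT
open Cfsg.Agent.Omega.S5.TT.Pos (na ns as sn n_ne s_ne a_ne n_ne_a n_ne_s a_ne_s e_sq' mem_C)
open Cfsg.Agent.MinSimple.VModule (o2_isPGroup le_o2 o2_le le_normalizer_o2)

universe u

variable {G : Type u} [Group G]

/-- conjugation by `g` maps `C_G(⟨x, y ^ C_G(x)⟩)` to `C_G(⟨x', y' ^ C_G(x')⟩)` -/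
theorem cent_UU_conj {x y x' y' g c : G} (hx : g⁻¹ * x' * g = x) (hy : g⁻¹ * y' * g = y)
    (hc : c ∈ centralizer (UU x y : Set G)) : g * c * g⁻¹ ∈ centralizer (UU x' y' : Set G) := by
  refine mem_centralizer_iff.2 fun u hu => ?_
  have h1 := UU_conj g⁻¹ hu
  rw [inv_inv, hx, hy] at h1
  have h2 := mem_centralizer_iff.1 hc _ h1
  calc u * (g * c * g⁻¹) = g * (g⁻¹ * u * g * c) * g⁻¹ := by group
    _ = g * (c * (g⁻¹ * u * g)) * g⁻¹ := by rw [h2]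
    _ = g * c * g⁻¹ * u := by group

theorem conj_inv_of_comm {g x : G} (h : g * x = x * g) : g⁻¹ * x * g = x := by
  rw [mul_assoc, ← h, inv_mul_cancel_left]

/-- the stabiliser of `x` normalises `C_G(⟨x, y ^ C_G(x)⟩)` -/
theorem cent_UU_norm {x y g c : G} (hg : g * x = x * g) (hc : c ∈ centralizer (UU x y : Set G)) :
    g * c * g⁻¹ ∈ centralizer (UU x y : Set G) := by
  refine mem_centralizer_iff.2 fun u hu => ?_
  have hg' : g⁻¹ * x = x * g⁻¹ := by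
    rw [inv_mul_eq_iff_eq_mul, ← mul_assoc, hg, mul_inv_cancel_right]
  have h1 := UU_norm hg' hu
  rw [inv_inv] at h1
  have h2 := mem_centralizer_iff.1 hc _ h1
  calc u * (g * c * g⁻¹) = g * (g⁻¹ * u * g * c) * g⁻¹ := by group
    _ = g * (c * (g⁻¹ * u * g)) * g⁻¹ := by rw [h2]
    _ = g * c * g⁻¹ * u := by group

/-- a subgroup of `S₅` with the transpositions `(0 1), (1 4), (4 3), (3 2)` -/
theorem perm_top {H : Subgroup (Equiv.Perm (Fin 5))} (h1 : Equiv.swap 0 1 ∈ H) (h2 : Equiv.swap 1 4 ∈ H)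
    (h3 : Equiv.swap 4 3 ∈ H) (h4 : Equiv.swap 3 2 ∈ H) : H = ⊤ := by
  have e4 : Equiv.swap (0 : Fin 5) 4 ∈ H := SubmonoidClass.swap_mem_trans H h1 h2
  have e3 : Equiv.swap (0 : Fin 5) 3 ∈ H := SubmonoidClass.swap_mem_trans H e4 h3
  have e2 : Equiv.swap (0 : Fin 5) 2 ∈ H := SubmonoidClass.swap_mem_trans H e3 h4
  have e0 : ∀ i : Fin 5, Equiv.swap 0 i ∈ H := by
    intro i
    fin_cases i
    · change Equiv.swap (0 : Fin 5) 0 ∈ H
      rw [Equiv.swap_self]; exact one_mem H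
    · exact h1
    · exact e2
    · exact e3
    · exact e4
  rw [eq_top_iff, ← Equiv.Perm.closure_isSwap, closure_le]
  rintro _ ⟨i, j, -, rfl⟩
  refine SubmonoidClass.swap_mem_trans H (b := 0) ?_ (e0 j)
  rw [Equiv.swap_comm]
  exact e0 i

namespace Base

variable {S : Sylow 2 G} {V₁ V₂ L₁ L₂ : Subgroup G} {M₁ : FiveMod V₁ L₁} {M₂ : FiveMod V₂ L₂} {h : G}
  (b : Base S M₁ M₂ h)
include b

/-- `C_G(U_n U_a)` -/
abbrev OO (M₁ : FiveMod V₁ L₁) : Subgroup G :=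
  centralizer (UU (M₁.e nn) (M₁.e aa) : Set G) ⊓ centralizer (UU (M₁.e aa) (M₁.e nn) : Set G)

omit b in
theorem OO_norm [Finite G] {g : G} (hn : g * M₁.e nn = M₁.e nn * g) (ha : g * M₁.e aa = M₁.e aa * g) :
    g ∈ normalizer (OO M₁ : Set G) :=
  DiCoreAbs.mem_norm_of fun _ hx => mem_inf.2 ⟨cent_UU_norm hn hx.1, cent_UU_norm ha hx.2⟩

omit b in
theorem OO_tt [Finite G] {g : G} (hg : M₁.Ind g tt) : g ∈ normalizer (OO M₁ : Set G) := by
  have h1 : g⁻¹ * M₁.e aa * g = M₁.e nn := by rw [← Dih.tt_n hg]; group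
  have h2 : g⁻¹ * M₁.e nn * g = M₁.e aa := by rw [← Dih.tt_a hg]; group
  exact DiCoreAbs.mem_norm_of fun _ hx => mem_inf.2 ⟨cent_UU_conj h2 h1 hx.2, cent_UU_conj h1 h2 hx.1⟩

/-- `W_a ^ C_G(n)` and `Q_n` -/
def FF (V₁ V₂ : Subgroup G) (M₁ : FiveMod V₁ L₁) : Set G :=
  {x | ∃ g, g * M₁.e nn = M₁.e nn * g ∧ ∃ w ∈ WW V₁ V₂ (M₁.e aa), x = g * w * g⁻¹} ∪
    {x | x ∈ Q (M₁.e nn)}

variable [Finite G]

theorem gen_le : L₁ ≤ closure (FF V₁ V₂ M₁ ∪ (normalizer (OO M₁ : Set G) : Set G)) := by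
  set K₀ := closure (FF V₁ V₂ M₁ ∪ (normalizer (OO M₁ : Set G) : Set G)) with hK₀
  let H : Subgroup (Equiv.Perm (Fin 5)) :=
    { carrier := {p | ∃ g ∈ K₀, M₁.Ind g p}
      one_mem' := ⟨1, one_mem _, M₁.ind_one⟩
      mul_mem' := by
        rintro p q ⟨g, hg, hi⟩ ⟨g', hg', hi'⟩
        exact ⟨g * g', mul_mem hg hg', hi.mul hi'⟩
      inv_mem' := by
        rintro p ⟨g, hg, hi⟩
        exact ⟨g⁻¹, inv_mem hg, hi.inv⟩ }
  obtain ⟨w, hw, hwi⟩ := b.exists_move_a₁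
  have e1 : Equiv.swap 3 2 ∈ H := by
    refine ⟨w, subset_closure (Or.inl (Or.inl ⟨1, by rw [one_mul, mul_one], w, hw, by group⟩)), ?_⟩
    rw [Equiv.swap_comm]; exact hwi
  have e2 : Equiv.swap 4 3 ∈ H := by
    obtain ⟨g, -, hg⟩ := M₁.exists_lift (Equiv.swap 2 4)
    refine ⟨g * w * g⁻¹, subset_closure (Or.inl (Or.inl ⟨g, (hg.commute_iff _).2 (Or.inl (by decide)), w, hw,
      rfl⟩)), ?_⟩
    have h1 := (hg.mul hwi).mul hg.inv
    rwa [show Equiv.swap (2 : Fin 5) 4 * Equiv.swap 2 3 * (Equiv.swap 2 4)⁻¹ = Equiv.swap 4 3 by decide] at h1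
  obtain ⟨k, hkS, hk⟩ := b.dih₁.exists_swap
  have e0 : tt ∈ H := ⟨k, subset_closure (Or.inr (OO_tt hk)), hk⟩
  have e3 : Equiv.swap 1 4 ∈ H := by
    have h1 := H.mul_mem (H.mul_mem e0 e2) (H.inv_mem e0)
    rwa [show tt * Equiv.swap 4 3 * tt⁻¹ = Equiv.swap 1 4 by decide] at h1
  have e4 : Equiv.swap 0 1 ∈ H := by
    have h1 := H.mul_mem (H.mul_mem e0 e1) (H.inv_mem e0)
    rwa [show tt * Equiv.swap 3 2 * tt⁻¹ = Equiv.swap 0 1 by decide] at h1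
  have hH := perm_top e4 e3 e2 e1
  intro l hl
  obtain ⟨p, hp⟩ := M₁.exists_ind hl
  obtain ⟨g, hg, hi⟩ : p ∈ H := by rw [hH]; exact mem_top _
  have h1 := hp.mul hi.inv
  rw [mul_inv_cancel] at h1
  have h2 := FiveMod.ind_one_iff.1 h1
  have h3 : l * g⁻¹ ∈ K₀ := by
    refine subset_closure (Or.inr (OO_norm ?_ ?_))
    · exact (mem_centralizer_iff.1 h2 _ (M₁.e_mem _)).symm
    · exact (mem_centralizer_iff.1 h2 _ (M₁.e_mem _)).symm
  have h4 := mul_mem h3 hg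
  rwa [inv_mul_cancel_right] at h4

/-- **(2.4)** -/
theorem core_std {l f : G} (hl : l ∈ L₁) (hf : f ∈ WW V₁ V₂ (M₁.e nn))
    (h1 : ∀ y ∈ UU (M₁.e nn) (M₁.e aa), l * f * l⁻¹ * y = y * (l * f * l⁻¹))
    (h2 : ∀ y ∈ UU (M₁.e aa) (M₁.e nn), l * f * l⁻¹ * y = y * (l * f * l⁻¹)) :
    l * f * l⁻¹ ∈ Q (M₁.e nn) := by
  have hWT : ∀ {w : G}, w ∈ WW V₁ V₂ (M₁.e aa) → w * M₁.e nn = M₁.e nn * w := fun hw =>
    mem_C.1 (b.Qa_le_T (b.WWa_le_Qa hw)).2
  have hCN : centralizer (UU (M₁.e nn) (M₁.e aa) : Set G) ≤ centralizer ({M₁.e nn} : Set G) :=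
    b.centralizer_UU_le.trans inf_le_left
  have hCa : ∀ {x : G}, x ∈ centralizer (UU (M₁.e nn) (M₁.e aa) : Set G) → x * M₁.e aa = M₁.e aa * x :=
    fun hx => mem_C.1 (b.centralizer_UU_le hx).2
  have hQf : f ∈ Q (M₁.e nn) := b.WW_le_Q hf
  obtain ⟨k, hk⟩ := o2_isPGroup _ ⟨f, hQf⟩
  have hk' : f ^ 2 ^ k = 1 := congrArg Subtype.val hk
  refine DiCoreAbs.core_abs (N := centralizer ({M₁.e nn} : Set G))
    (C := centralizer (UU (M₁.e nn) (M₁.e aa) : Set G)) (O := OO M₁) (L := L₁) (F := FF V₁ V₂ M₁) hCN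
    b.normalizer_centralizer_UU inf_le_left ?_ ?_ ?_ ?_ (b.gen_le) hl (Or.inr hQf) rfl ?_ (k := k) ?_
  · intro g hg
    exact OO_norm (mem_C.1 (hCN hg)) (hCa hg)
  · intro g hg
    exact OO_norm (mem_C.1 (b.Q_le_T hg).2) (b.a_comm_Q hg)
  · rintro _ (⟨g, hg, w, hw, rfl⟩ | hx)
    · exact mul_mem (mul_mem (mem_C.2 hg) (mem_C.2 (hWT hw))) (inv_mem (mem_C.2 hg))
    · exact o2_le _ hx
  · rintro _ (⟨g, hg, w, hw, rfl⟩ | hx) c hc
    · have hc' : g⁻¹ * c * g ∈ centralizer (UU (M₁.e nn) (M₁.e aa) : Set G) := by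
        have hg' : g⁻¹ * M₁.e nn = M₁.e nn * g⁻¹ := by
          rw [inv_mul_eq_iff_eq_mul, ← mul_assoc, hg, mul_inv_cancel_right]
        have := cent_UU_norm hg' hc.1
        rwa [inv_inv] at this
      set c' := g⁻¹ * c * g with hc'd
      have h3 : w * c' * w⁻¹ * c'⁻¹ ∈ Q (M₁.e nn) := by
        refine b.WWa_inf_centralizer_le (mem_inf.2 ⟨?_, ?_⟩)
        · have h4 := WW_norm (hCa hc') (inv_mem hw)
          have h5 : w * c' * w⁻¹ * c'⁻¹ = w * (c' * w⁻¹ * c'⁻¹) := by group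
          rw [h5]
          exact mul_mem hw h4
        · exact mul_mem (cent_UU_norm (hWT hw) hc') (inv_mem hc')
      have h4 := b.Q_conj hg h3
      have h5 : g * (w * c' * w⁻¹ * c'⁻¹) * g⁻¹ = g * w * g⁻¹ * c * (g * w * g⁻¹)⁻¹ * c⁻¹ := by
        rw [hc'd]; group
      rwa [h5] at h4
    · rename_i x
      have h3 := b.Q_conj (mem_C.1 (hCN hc.1)) (inv_mem hx)
      have h4 : x * c * x⁻¹ * c⁻¹ = x * (c * x⁻¹ * c⁻¹) := by group
      rw [h4]
      exact mul_mem hx h3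
  · exact mem_inf.2 ⟨mem_centralizer_iff.2 fun y hy => (h1 y hy).symm,
      mem_centralizer_iff.2 fun y hy => (h2 y hy).symm⟩
  · have h3 : (l * f * l⁻¹) ^ 2 ^ k = l * f ^ 2 ^ k * l⁻¹ := conj_pow
    rw [h3, hk', mul_one, mul_inv_cancel]

end Base

end Cfsg.Agent.Omega.TTn

end

section


/-!
# #15257 (3): `Ω₁(Z(T)) = V₀ × E₄`
-/

set_option autoImplicit false
set_option linter.unusedSectionVars false

namespace Cfsg.Agent.Omega.TTn.Z.OmT

open Subgroup Cfsg Cfsg.Agent.ZN Cfsg.Agent.ZN.ChoiceBase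
open Cfsg.Agent.Omega.S5.Mod Cfsg.Agent.Omega.S5.TT
open Cfsg.Agent.Omega.S5.TT.Pos (na ns as sn n_ne s_ne a_ne n_ne_a n_ne_s a_ne_s e_sq' mem_C)

/-- `(2 3 4)` -/
def cc : Equiv.Perm (Fin 5) := Equiv.swap 2 3 * Equiv.swap 3 4

/-- the permutations used in the final count -/
def pp (i k : Fin 5) : Equiv.Perm (Fin 5) := Equiv.swap 0 i * Equiv.swap 1 k

/-- the combinatorial core of (3) -/
theorem combi (δ : Equiv.Perm (Fin 5) → ZMod 2) (ψ : Fin 5 → ZMod 2) (ε κ : ZMod 2)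
    (hT : ∀ p q, TTp (p⁻¹ * q) → δ q = δ p) (htt : ∀ p, δ (p * tt) = δ p + 1)
    (hψ : ψ 0 + ψ 1 + ψ 2 + ψ 3 + ψ 4 = 0)
    (hz : ∀ p, (δ p + δ (p * cc) + δ (p * (cc * cc))) +
      (δ (p * tt) + δ (p * tt * cc) + δ (p * tt * (cc * cc))) = κ + ε * ψ (p 4)) : False := by
  have h2 : (2 : ZMod 2) = 0 := rfl
  have hT' : ∀ p r s : Equiv.Perm (Fin 5), TTp (r⁻¹ * s) → δ (p * s) = δ (p * r) := by
    intro p r s h
    refine hT _ _ ?_
    have e : (p * r)⁻¹ * (p * s) = r⁻¹ * s := by group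
    rw [e]; exact h
  have hP : ∀ q q' : Equiv.Perm (Fin 5), TTp (tt⁻¹ * q⁻¹ * q') → δ q' = δ q + 1 := by
    intro q q' h
    rw [← htt q]
    refine hT _ _ ?_
    have e : (q * tt)⁻¹ * q' = tt⁻¹ * q⁻¹ * q' := by group
    rw [e]; exact h
  set ν : Equiv.Perm (Fin 5) → ZMod 2 := fun p => δ p + δ (p * cc) + δ (p * (cc * cc)) +
    ε * (ψ (p 0) + ψ (p 1)) with hν
  have hsum : ∀ p : Equiv.Perm (Fin 5), ψ (p 0) + ψ (p 1) + ψ (p 2) + ψ (p 3) + ψ (p 4) = 0 := by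
    intro p
    have h1 := Equiv.sum_comp p ψ
    rw [Fin.sum_univ_five, Fin.sum_univ_five, hψ] at h1
    exact h1
  have hν01 : ∀ p, ν (p * Equiv.swap 0 1) = ν p := by
    intro p
    have e1 := hT' p 1 (Equiv.swap 0 1) (by decide)
    have e2 := hT' p cc (Equiv.swap 0 1 * cc) (by decide)
    have e3 := hT' p (cc * cc) (Equiv.swap 0 1 * (cc * cc)) (by decide)
    simp only [hν, mul_assoc, Equiv.Perm.mul_apply, Equiv.swap_apply_left, Equiv.swap_apply_right]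
    rw [e1, e2, e3, mul_one]
    ring
  have hν23 : ∀ p, ν (p * Equiv.swap 2 3) = ν p := by
    intro p
    have e1 := hT' p 1 (Equiv.swap 2 3) (by decide)
    have e2 := hT' p (cc * cc) (Equiv.swap 2 3 * cc) (by decide)
    have e3 := hT' p cc (Equiv.swap 2 3 * (cc * cc)) (by decide)
    simp only [hν, mul_assoc, Equiv.Perm.mul_apply,
      show (Equiv.swap 2 3 : Equiv.Perm (Fin 5)) 0 = 0 by decide,
      show (Equiv.swap 2 3 : Equiv.Perm (Fin 5)) 1 = 1 by decide]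
    rw [e1, e2, e3, mul_one]
    ring
  have hνc : ∀ p, ν (p * cc) = ν p := by
    intro p
    have e3 : p * (cc * (cc * cc)) = p := by
      rw [show cc * (cc * cc) = 1 by decide, mul_one]
    simp only [hν, mul_assoc, Equiv.Perm.mul_apply, show cc 0 = 0 by decide,
      show cc 1 = 1 by decide]
    rw [e3]
    ring
  have hνtt : ∀ p, ν (p * tt) = ν p + κ := by
    intro p
    have h1 := hz p
    have h3 := hsum p
    simp only [hν, Equiv.Perm.mul_apply, show tt 0 = 2 by decide, show tt 1 = 3 by decide]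
    linear_combination h1 + ε * h3 - (δ p + δ (p * cc) + δ (p * (cc * cc)) + ε * (ψ (p 0) + ψ (p 1))) * h2
  have hκ : κ = 0 := by
    have hr : ∀ p, ν (p * (tt * (cc * cc))) = ν p + κ := by
      intro p
      rw [← mul_assoc, ← mul_assoc, hνc, hνc, hνtt]
    have h5 : ν ((1 : Equiv.Perm (Fin 5)) * (tt * (cc * cc)) * (tt * (cc * cc)) * (tt * (cc * cc)) *
      (tt * (cc * cc)) * (tt * (cc * cc))) = ν 1 + κ + κ + κ + κ + κ := by
      rw [hr, hr, hr, hr, hr]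
    rw [show (1 : Equiv.Perm (Fin 5)) * (tt * (cc * cc)) * (tt * (cc * cc)) * (tt * (cc * cc)) *
      (tt * (cc * cc)) * (tt * (cc * cc)) = 1 by decide +kernel] at h5
    linear_combination (-1 : ZMod 2) * h5 - 2 * κ * h2
  have hνtt' : ∀ p, ν (p * tt) = ν p := by
    intro p
    rw [hνtt, hκ, add_zero]
  let H : Subgroup (Equiv.Perm (Fin 5)) :=
    { carrier := {q | ∀ p, ν (p * q) = ν p}
      one_mem' := fun p => by rw [mul_one]
      mul_mem' := by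
        intro a b ha hb p
        rw [← mul_assoc, hb, ha]
      inv_mem' := by
        intro a ha p
        have h1 := ha (p * a⁻¹)
        rw [inv_mul_cancel_right] at h1
        exact h1.symm }
  have m01 : Equiv.swap 0 1 ∈ H := hν01
  have m23 : Equiv.swap 2 3 ∈ H := hν23
  have mc : cc ∈ H := hνc
  have mt : tt ∈ H := hνtt'
  have m34 : Equiv.swap 3 4 ∈ H := by
    have h1 := H.mul_mem m23 mc
    rwa [show Equiv.swap 2 3 * cc = Equiv.swap 3 4 by decide] at h1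
  have m14 : Equiv.swap 1 4 ∈ H := by
    have h1 := H.mul_mem (H.mul_mem mt m34) (H.inv_mem mt)
    rwa [show tt * Equiv.swap 3 4 * tt⁻¹ = Equiv.swap 1 4 by decide] at h1
  have hH : H = ⊤ := perm_top m01 m14 (by rw [Equiv.swap_comm]; exact m34) (by rw [Equiv.swap_comm]; exact m23)
  obtain ⟨c0, hc0⟩ : ∃ c0, ∀ p, ν p = c0 := by
    refine ⟨ν 1, fun p => ?_⟩
    have h1 : p ∈ H := by rw [hH]; exact mem_top _
    have h3 := h1 1
    rwa [one_mul] at h3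
  have hE : ∀ (p : Equiv.Perm (Fin 5)) (i j : Fin 5), p 0 = i → p 1 = j →
      δ p + δ (p * cc) + δ (p * (cc * cc)) = c0 + ε * (ψ i + ψ j) := by
    intro p i j h0 h1
    have h3 := hc0 p
    simp only [hν] at h3
    rw [h0, h1] at h3
    linear_combination h3 - ε * (ψ i + ψ j) * h2
  have E0 := hE (pp 0 1) 0 1 (by decide) (by decide)
  have E1 := hE (pp 0 2) 0 2 (by decide) (by decide)
  have E2 := hE (pp 0 3) 0 3 (by decide) (by decide)
  have E3 := hE (pp 0 4) 0 4 (by decide) (by decide)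
  have E4 := hE (pp 1 2) 1 2 (by decide) (by decide)
  have E5 := hE (pp 1 3) 1 3 (by decide) (by decide)
  have E6 := hE (pp 1 4) 1 4 (by decide) (by decide)
  have E7 := hE (pp 2 3) 2 3 (by decide) (by decide)
  have E8 := hE (pp 2 4) 2 4 (by decide) (by decide)
  have E9 := hE (pp 3 4) 3 4 (by decide) (by decide)
  have P0 := hP (pp 0 1) (pp 2 3) (by decide)
  have P1 := hP (pp 0 1 * cc) (pp 3 4 * cc) (by decide)
  have P2 := hP (pp 0 1 * (cc * cc)) (pp 2 4 * (cc * cc)) (by decide)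
  have P3 := hP (pp 0 2) (pp 1 3) (by decide)
  have P4 := hP (pp 0 2 * cc) (pp 3 4) (by decide)
  have P5 := hP (pp 0 2 * (cc * cc)) (pp 1 4 * (cc * cc)) (by decide)
  have P6 := hP (pp 0 3) (pp 1 2) (by decide)
  have P7 := hP (pp 0 3 * cc) (pp 1 4 * cc) (by decide)
  have P8 := hP (pp 0 3 * (cc * cc)) (pp 2 4) (by decide)
  have P9 := hP (pp 0 4) (pp 2 3 * (cc * cc)) (by decide)
  have P10 := hP (pp 0 4 * cc) (pp 1 3 * cc) (by decide)
  have P11 := hP (pp 0 4 * (cc * cc)) (pp 1 2 * (cc * cc)) (by decide)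
  have P12 := hP (pp 1 2 * cc) (pp 3 4 * (cc * cc)) (by decide)
  have P13 := hP (pp 1 3 * (cc * cc)) (pp 2 4 * cc) (by decide)
  have P14 := hP (pp 1 4) (pp 2 3 * cc) (by decide)
  have hfin : (1 : ZMod 2) = 0 := by
    linear_combination (E0 + E1 + E2 + E3 + E4 + E5 + E6 + E7 + E8 + E9) - (P0 + P1 + P2 + P3 + P4 + P5 + P6 + P7 + P8 + P9 + P10 + P11 + P12 + P13 + P14) +
      (-(δ (pp 0 1) + δ (pp 0 1 * cc) + δ (pp 0 1 * (cc * cc)) + δ (pp 0 2) + δ (pp 0 2 * cc) + δ (pp 0 2 * (cc * cc)) + δ (pp 0 3) + δ (pp 0 3 * cc) + δ (pp 0 3 * (cc * cc)) + δ (pp 0 4) + δ (pp 0 4 * cc) + δ (pp 0 4 * (cc * cc)) + δ (pp 1 2 * cc) + δ (pp 1 3 * (cc * cc)) + δ (pp 1 4)) - 7 + 5 * c0 +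
        2 * ε * (ψ 0 + ψ 1 + ψ 2 + ψ 3 + ψ 4)) * h2
  exact one_ne_zero hfin

universe u

variable {G : Type u} [Group G]

/-- a linear functional on an elementary abelian 2-subgroup, not trivial on `v` -/
theorem exists_phi {Om : Subgroup G} (hc : ∀ x ∈ Om, ∀ y ∈ Om, x * y = y * x) (h2 : ∀ x ∈ Om, x * x = 1)
    {v : G} (hv : v ∈ Om) (hv1 : v ≠ 1) :
    ∃ φ : G → ZMod 2, (∀ x ∈ Om, ∀ y ∈ Om, φ (x * y) = φ x + φ y) ∧ φ v = 1 := by
  classical
  let _ : CommGroup Om := { (inferInstance : Group Om) with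
    mul_comm := fun x y => Subtype.ext (hc x x.2 y y.2) }
  let _ : Module (ZMod 2) (Additive Om) := AddCommGroup.zmodModule (n := 2) (fun x => by
    rw [two_nsmul]
    exact congrArg Additive.ofMul (Subtype.ext (h2 _ (Additive.toMul x).2) :
      Additive.toMul x * Additive.toMul x = 1))
  have hne : ¬ (Additive.ofMul (⟨v, hv⟩ : Om)) = 0 := fun h => hv1 (congrArg Subtype.val
    (Additive.ofMul.injective h : (⟨v, hv⟩ : Om) = 1))
  rw [← Module.forall_dual_apply_eq_zero_iff (ZMod 2)] at hne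
  push Not at hne
  obtain ⟨f, hf⟩ := hne
  refine ⟨fun g => if h : g ∈ Om then f (Additive.ofMul (⟨g, h⟩ : Om)) else 0, fun x hx y hy => ?_, ?_⟩
  · simp only [dif_pos hx, dif_pos hy, dif_pos (mul_mem hx hy)]
    rw [← map_add]
    rfl
  · simp only [dif_pos hv]
    have h01 : ∀ c : ZMod 2, c ≠ 0 → c = 1 := by decide
    exact h01 _ hf

/-- The configuration of (3). -/
structure Dat (S : Sylow 2 G) {A L : Subgroup G} (M : FiveMod A L) (V₀ Om : Subgroup G) : Prop where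
  dih : Z.Dih S M
  OmS : Om ≤ (S : Subgroup G)
  Omc : ∀ x ∈ Om, ∀ y ∈ Om, x * y = y * x
  Om2 : ∀ x ∈ Om, x * x = 1
  OmL : L ≤ normalizer (Om : Set G)
  AOm : A ≤ Om
  cen : ∀ g ∈ L, g ∈ centralizer (A : Set G) → ∀ x ∈ Om, g * x = x * g
  V0Om : V₀ ≤ Om
  V0L : ∀ g ∈ L, ∀ v ∈ V₀, g * v = v * g
  zS : ∀ z ∈ zc (S : Subgroup G), ∃ v ∈ V₀, z = v ∨ z = v * M.e ss

namespace Dat

variable {S : Sylow 2 G} {A L : Subgroup G} {M : FiveMod A L} {V₀ Om : Subgroup G} (t : Dat S M V₀ Om)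
include t

theorem conj_mem {g x : G} (hg : g ∈ L) (hx : x ∈ Om) : g * x * g⁻¹ ∈ Om :=
  (mem_normalizer_iff.1 (t.OmL hg) x).1 hx

/-- the action of `g ∈ L` on `Om` depends only on the permutation -/
theorem wd {g g' x : G} {p : Equiv.Perm (Fin 5)} (hg : g ∈ L) (hg' : g' ∈ L) (hp : M.Ind g p)
    (hp' : M.Ind g' p) (hx : x ∈ Om) : g * x * g⁻¹ = g' * x * g'⁻¹ := by
  have h1 : M.Ind (g'⁻¹ * g) 1 := by
    have h2 := hp'.inv.mul hp
    rwa [inv_mul_cancel] at h2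
  have h2 := t.cen _ (mul_mem (inv_mem hg') hg) (FiveMod.ind_one_iff.1 h1) x hx
  calc g * x * g⁻¹ = g' * (g'⁻¹ * g * x) * g⁻¹ := by group
    _ = g' * (x * (g'⁻¹ * g)) * g⁻¹ := by rw [h2]
    _ = g' * x * g'⁻¹ := by group

/-- **Key claim**: if `x ∈ S` induces `tt` and `[x, d] = v ∈ V₀` then `v = 1`. -/
theorem key {d x v : G} (hd : d ∈ Om)
    (hT : ∀ u ∈ (S : Subgroup G) ⊓ centralizer ({M.e nn} : Set G), u * d = d * u)
    (hxS : x ∈ (S : Subgroup G)) (hx : M.Ind x tt) (hv : v ∈ V₀) (hxd : x * d * x⁻¹ = d * v) :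
    v = 1 := by
  by_contra hv1
  obtain ⟨φ, hφ, hφv⟩ := exists_phi t.Omc t.Om2 (t.V0Om hv) hv1
  choose g hgL hgi using fun p : Equiv.Perm (Fin 5) => M.exists_lift p
  have hgi : ∀ p, M.Ind (g p) p := hgi
  set D : Equiv.Perm (Fin 5) → G := fun p => g p * d * (g p)⁻¹ with hD
  have hDm : ∀ p, D p ∈ Om := fun p => t.conj_mem (hgL p) hd
  have hDg : ∀ {y : G} {p : Equiv.Perm (Fin 5)}, y ∈ L → M.Ind y p → y * d * y⁻¹ = D p :=
    fun hy hp => t.wd hy (hgL _) hp (hgi _) hd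
  -- `y (D q) y⁻¹ = D (p q)`
  have hDD : ∀ {y : G} {p : Equiv.Perm (Fin 5)}, y ∈ L → M.Ind y p → ∀ q, y * D q * y⁻¹ = D (p * q) := by
    intro y p hy hp q
    rw [← hDg (mul_mem hy (hgL q)) (hp.mul (hgi q))]
    simp only [hD]
    group
  have hDT1 : ∀ q, TTp q → D q = d := by
    intro q hq
    obtain ⟨u, hu, hui⟩ := t.dih.d8' q (ttp_dd q hq)
    have h1 := hT u (Dih.mem_T_of_ind hu hq hui)
    rw [← hDg (t.dih.S_le hu) hui, h1, mul_inv_cancel_right]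
  have hDT : ∀ p q, TTp (p⁻¹ * q) → D q = D p := by
    intro p q h
    have h1 := hDD (hgL p) (hgi p) (p⁻¹ * q)
    rw [hDT1 _ h, mul_inv_cancel_left] at h1
    rw [← h1]
  have hDtt : D tt = d * v := by rw [← hxd, hDg (t.dih.S_le hxS) hx]
  have hDptt : ∀ p, D (p * tt) = D p * v := by
    intro p
    rw [← hDD (hgL p) (hgi p) tt, hDtt]
    have h1 := t.V0L _ (hgL p) v hv
    calc g p * (d * v) * (g p)⁻¹ = g p * d * (g p)⁻¹ * (g p * v) * (g p)⁻¹ := by group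
      _ = g p * d * (g p)⁻¹ * (v * g p) * (g p)⁻¹ := by rw [h1]
      _ = D p * v := by simp only [hD]; group
  set F : Equiv.Perm (Fin 5) → G := fun p => (D p * D (p * cc) * D (p * (cc * cc))) *
    (D (p * tt) * D (p * tt * cc) * D (p * tt * (cc * cc))) with hF
  have hFm : ∀ p, F p ∈ Om := fun p => mul_mem (mul_mem (mul_mem (hDm _) (hDm _)) (hDm _))
    (mul_mem (mul_mem (hDm _) (hDm _)) (hDm _))
  have hFF : ∀ {y : G} {p : Equiv.Perm (Fin 5)}, y ∈ L → M.Ind y p → y * F 1 * y⁻¹ = F p := by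
    intro y p hy hp
    have e := hDD hy hp
    have h1 : y * F 1 * y⁻¹ = ((y * D 1 * y⁻¹) * (y * D (1 * cc) * y⁻¹) * (y * D (1 * (cc * cc)) * y⁻¹)) *
      ((y * D (1 * tt) * y⁻¹) * (y * D (1 * tt * cc) * y⁻¹) * (y * D (1 * tt * (cc * cc)) * y⁻¹)) := by
      simp only [hF]; group
    rw [h1, e, e, e, e, e, e]
    simp only [hF, mul_assoc, mul_one, one_mul]
  have hFT : ∀ q, TTp q → F q = F 1 := by
    intro q hq
    have c1 : D (q * cc) * D (q * (cc * cc)) = D (1 * cc) * D (1 * (cc * cc)) := by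
      rcases hq with rfl | rfl | rfl | rfl
      · rfl
      · rw [hDT (1 * cc) (Equiv.swap 0 1 * cc) (by decide), hDT (1 * (cc * cc)) (Equiv.swap 0 1 * (cc * cc)) (by decide)]
      · rw [hDT (1 * (cc * cc)) (Equiv.swap 2 3 * cc) (by decide), hDT (1 * cc) (Equiv.swap 2 3 * (cc * cc)) (by decide)]
        exact t.Omc _ (hDm _) _ (hDm _)
      · rw [hDT (1 * (cc * cc)) (dd * cc) (by decide), hDT (1 * cc) (dd * (cc * cc)) (by decide)]
        exact t.Omc _ (hDm _) _ (hDm _)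
    have c2 : D (q * tt * cc) * D (q * tt * (cc * cc)) = D (1 * tt * cc) * D (1 * tt * (cc * cc)) := by
      rcases hq with rfl | rfl | rfl | rfl
      · rfl
      · rw [hDT (1 * tt * (cc * cc)) (Equiv.swap 0 1 * tt * cc) (by decide),
          hDT (1 * tt * cc) (Equiv.swap 0 1 * tt * (cc * cc)) (by decide)]
        exact t.Omc _ (hDm _) _ (hDm _)
      · rw [hDT (1 * tt * cc) (Equiv.swap 2 3 * tt * cc) (by decide),
          hDT (1 * tt * (cc * cc)) (Equiv.swap 2 3 * tt * (cc * cc)) (by decide)]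
      · rw [hDT (1 * tt * (cc * cc)) (dd * tt * cc) (by decide),
          hDT (1 * tt * cc) (dd * tt * (cc * cc)) (by decide)]
        exact t.Omc _ (hDm _) _ (hDm _)
    have c3 : D q = D 1 := hDT 1 q (by rw [inv_one, one_mul]; exact hq)
    have c4 : D (q * tt) = D (1 * tt) := by
      refine hDT _ _ ?_
      rcases hq with rfl | rfl | rfl | rfl <;> decide
    simp only [hF]
    rw [mul_assoc (D q), mul_assoc (D (q * tt)), c1, c2, c3, c4, ← mul_assoc (D 1), ← mul_assoc (D (1 * tt))]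
  have hFx : F tt = F 1 := by
    have e1 : D (tt * tt) = D 1 := hDT _ _ (by decide)
    have e2 : D (tt * tt * cc) = D (1 * cc) := hDT _ _ (by decide)
    have e3 : D (tt * tt * (cc * cc)) = D (1 * (cc * cc)) := hDT _ _ (by decide)
    simp only [hF]
    rw [e1, e2, e3, one_mul tt]
    exact t.Omc _ (mul_mem (mul_mem (hDm _) (hDm _)) (hDm _)) _ (mul_mem (mul_mem (hDm _) (hDm _)) (hDm _))
  -- `z := F 1 ∈ Ω₁(Z(S))`
  have hzx : x * F 1 = F 1 * x := by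
    have h1 := hFF (t.dih.S_le hxS) hx
    rwa [hFx, mul_inv_eq_iff_eq_mul] at h1
  have hzT : ∀ u ∈ (S : Subgroup G) ⊓ centralizer ({M.e nn} : Set G), u * F 1 = F 1 * u := by
    intro u hu
    obtain ⟨q, hq, hui⟩ := t.dih.T_ind hu
    have h1 := hFF (t.dih.S_le hu.1) hui
    rwa [hFT q hq, mul_inv_eq_iff_eq_mul] at h1
  have hz : F 1 ∈ zc (S : Subgroup G) := by
    refine MinSimple.VModule.mem_zc.2 ⟨t.OmS (hFm 1), fun b hb => ?_, ?_⟩
    · rcases t.dih.mem_or hxS hx hb with h4 | h4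
      · exact hzT b h4
      · have h5 := hzT _ h4
        have h6 : b * F 1 * x = F 1 * b * x := by
          calc b * F 1 * x = b * (F 1 * x) := by group
            _ = b * (x * F 1) := by rw [hzx]
            _ = b * x * F 1 := by group
            _ = F 1 * (b * x) := h5
            _ = F 1 * b * x := by group
        exact mul_right_cancel h6
    · rw [pow_two]; exact t.Om2 _ (hFm 1)
  obtain ⟨v₁, hv₁, hz1⟩ := t.zS _ hz
  have hz2 : ∃ ε : ZMod 2, ∀ p, φ (F p) = φ v₁ + ε * φ (M.e (Pi.single (p 4) 1)) := by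
    have hc : ∀ p, g p * v₁ * (g p)⁻¹ = v₁ := by
      intro p
      rw [t.V0L _ (hgL p) v₁ hv₁, mul_inv_cancel_right]
    rcases hz1 with h1 | h1
    · refine ⟨0, fun p => ?_⟩
      rw [← hFF (hgL p) (hgi p), h1, hc, zero_mul, add_zero]
    · refine ⟨1, fun p => ?_⟩
      have e1 : (ss : Vec) = Pi.single 4 1 := by decide
      have e2 : g p * (v₁ * M.e ss) * (g p)⁻¹ = v₁ * M.e (Pi.single (p 4) 1) := by
        calc g p * (v₁ * M.e ss) * (g p)⁻¹ = (g p * v₁ * (g p)⁻¹) * (g p * M.e ss * (g p)⁻¹) := by group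
          _ = v₁ * M.e (Pi.single (p 4) 1) := by rw [hc, hgi p, e1, FiveMod.single_comp]
      rw [← hFF (hgL p) (hgi p), h1, e2, hφ _ (t.V0Om hv₁) _ (t.AOm (M.e_mem _)), one_mul]
  obtain ⟨ε, hε⟩ := hz2
  refine combi (fun p => φ (D p)) (fun i => φ (M.e (Pi.single i 1))) ε (φ v₁) ?_ ?_ ?_ ?_
  · intro p q h
    simp only [hDT p q h]
  · intro p
    simp only [hDptt p]
    rw [hφ _ (hDm _) _ (t.V0Om hv), hφv]
  · have hm : ∀ y, M.e y ∈ Om := fun y => t.AOm (M.e_mem y)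
    rw [← hφ _ (hm _) _ (hm _), ← M.e_add, ← hφ _ (hm _) _ (hm _), ← M.e_add, ← hφ _ (hm _) _ (hm _),
      ← M.e_add, ← hφ _ (hm _) _ (hm _), ← M.e_add,
      show (Pi.single 0 1 + Pi.single 1 1 + Pi.single 2 1 + Pi.single 3 1 + Pi.single 4 1 : Vec) = 1 by decide,
      M.e_one]
    have h1 := hφ 1 (one_mem _) 1 (one_mem _)
    rw [mul_one] at h1
    have h3 : ∀ c : ZMod 2, c = c + c → c = 0 := by decide
    exact h3 _ h1
  · intro p
    rw [← hε p]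
    simp only [hF]
    rw [hφ _ (mul_mem (mul_mem (hDm _) (hDm _)) (hDm _)) _ (mul_mem (mul_mem (hDm _) (hDm _)) (hDm _)),
      hφ _ (mul_mem (hDm _) (hDm _)) _ (hDm _), hφ _ (hDm _) _ (hDm _),
      hφ _ (mul_mem (hDm _) (hDm _)) _ (hDm _), hφ _ (hDm _) _ (hDm _)]

/-- **(3)**: the elements of `Om` centralised by `T` are in `V₀ × {1, n, a, s}`. -/
theorem fixT {d : G} (hd : d ∈ Om)
    (hT : ∀ u ∈ (S : Subgroup G) ⊓ centralizer ({M.e nn} : Set G), u * d = d * u) :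
    ∃ v ∈ V₀, d = v ∨ d = v * M.e nn ∨ d = v * M.e aa ∨ d = v * M.e ss := by
  obtain ⟨x, hxS, hx⟩ := t.dih.exists_swap
  have hxL := t.dih.S_le hxS
  have hxx : x * x ∈ (S : Subgroup G) ⊓ centralizer ({M.e nn} : Set G) := by
    refine Dih.mem_T_of_ind (mul_mem hxS hxS) (p := tt * tt) (by decide) (hx.mul hx)
  -- if `x` centralises `d'` then `d' ∈ Ω₁(Z(S))`
  have hfix : ∀ d' ∈ Om, (∀ u ∈ (S : Subgroup G) ⊓ centralizer ({M.e nn} : Set G), u * d' = d' * u) →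
      x * d' = d' * x → ∃ v ∈ V₀, d' = v ∨ d' = v * M.e ss := by
    intro d' hd' hT' hx'
    refine t.zS _ (MinSimple.VModule.mem_zc.2 ⟨t.OmS hd', fun b hb => ?_, by rw [pow_two]; exact t.Om2 _ hd'⟩)
    rcases t.dih.mem_or hxS hx hb with h4 | h4
    · exact hT' b h4
    · have h5 := hT' _ h4
      have h6 : b * d' * x = d' * b * x := by
        calc b * d' * x = b * (d' * x) := by group
          _ = b * (x * d') := by rw [hx']
          _ = b * x * d' := by group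
          _ = d' * (b * x) := h5
          _ = d' * b * x := by group
      exact mul_right_cancel h6
  set w := x * d * x⁻¹ * d with hw
  have hxd : x * d * x⁻¹ ∈ Om := t.conj_mem hxL hd
  have hwOm : w ∈ Om := mul_mem hxd hd
  have hwx : x * w = w * x := by
    have h1 := hT _ hxx
    have h2 := t.Omc _ hxd _ hd
    calc x * w = (x * x * d) * x⁻¹ * x⁻¹ * (x * d) := by rw [hw]; group
      _ = (d * (x * x)) * x⁻¹ * x⁻¹ * (x * d) := by rw [h1]
      _ = d * (x * d * x⁻¹) * x := by group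
      _ = w * x := by rw [← h2]
  have hwT : ∀ u ∈ (S : Subgroup G) ⊓ centralizer ({M.e nn} : Set G), u * w = w * u := by
    intro u hu
    have h1 := hT u hu
    have h2 : x⁻¹ * u * x ∈ (S : Subgroup G) ⊓ centralizer ({M.e nn} : Set G) := by
      have h3 := t.dih.conj_T hxS hx hu
      have h4 := mul_mem (mul_mem (inv_mem hxx) h3) hxx
      have e : (x * x)⁻¹ * (x * u * x⁻¹) * (x * x) = x⁻¹ * u * x := by group
      rwa [e] at h4
    have h3 := hT _ h2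
    calc u * w = x * (x⁻¹ * u * x * d) * x⁻¹ * d := by rw [hw]; group
      _ = x * (d * (x⁻¹ * u * x)) * x⁻¹ * d := by rw [h3]
      _ = x * d * x⁻¹ * (u * d) := by group
      _ = x * d * x⁻¹ * (d * u) := by rw [h1]
      _ = w * u := by rw [hw]; group
  have hdd := t.Om2 d hd
  have hnT : ∀ u ∈ (S : Subgroup G) ⊓ centralizer ({M.e nn} : Set G), u * M.e nn = M.e nn * u :=
    fun u hu => mem_C.1 hu.2
  have hnOm : M.e nn ∈ Om := t.AOm (M.e_mem _)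
  obtain ⟨v, hv, h1 | h1⟩ := hfix w hwOm hwT hwx
  · -- `[x, d] = v`
    have h2 : x * d * x⁻¹ = d * v := by
      have h3 : x * d * x⁻¹ * d * d = v * d := by rw [← hw, h1]
      rw [mul_assoc, hdd, mul_one] at h3
      rw [h3]
      exact t.Omc _ (t.V0Om hv) _ hd
    have h3 := t.key hd hT hxS hx hv h2
    rw [h3, mul_one, mul_inv_eq_iff_eq_mul] at h2
    obtain ⟨v', hv', h4 | h4⟩ := hfix d hd hT h2
    · exact ⟨v', hv', Or.inl h4⟩
    · exact ⟨v', hv', Or.inr (Or.inr (Or.inr h4))⟩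
  · -- `[x, d n] = v`
    have hdn : d * M.e nn ∈ Om := mul_mem hd hnOm
    have hdnT : ∀ u ∈ (S : Subgroup G) ⊓ centralizer ({M.e nn} : Set G),
        u * (d * M.e nn) = d * M.e nn * u := by
      intro u hu
      rw [← mul_assoc, hT u hu, mul_assoc, hnT u hu, mul_assoc]
    have h2 : x * (d * M.e nn) * x⁻¹ = d * M.e nn * v := by
      have h3 : x * d * x⁻¹ = v * M.e ss * d := by
        have h3 : x * d * x⁻¹ * d * d = v * M.e ss * d := by rw [← hw, h1]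
        rwa [mul_assoc, hdd, mul_one] at h3
      have h4 : M.e ss * (d * M.e aa) = d * M.e nn := by
        calc M.e ss * (d * M.e aa) = M.e ss * d * M.e aa := by group
          _ = d * M.e ss * M.e aa := by rw [t.Omc _ (t.AOm (M.e_mem _)) _ hd]
          _ = d * (M.e ss * M.e aa) := by group
          _ = d * M.e nn := by rw [M.e_comm, as]
      calc x * (d * M.e nn) * x⁻¹ = (x * d * x⁻¹) * (x * M.e nn * x⁻¹) := by group
        _ = v * (M.e ss * (d * M.e aa)) := by rw [h3, Dih.tt_n hx]; group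
        _ = d * M.e nn * v := by rw [h4]; exact t.Omc _ (t.V0Om hv) _ hdn
    have h3 := t.key hdn hdnT hxS hx hv h2
    rw [h3, mul_one, mul_inv_eq_iff_eq_mul] at h2
    obtain ⟨v', hv', h4 | h4⟩ := hfix _ hdn hdnT h2
    · refine ⟨v', hv', Or.inr (Or.inl ?_)⟩
      rw [← h4, mul_assoc, M.e_sq, mul_one]
    · refine ⟨v', hv', Or.inr (Or.inr (Or.inl ?_))⟩
      have h5 : d = d * M.e nn * M.e nn := by rw [mul_assoc, M.e_sq, mul_one]
      rw [h5, h4, mul_assoc, sn]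

end Dat

end Cfsg.Agent.Omega.TTn.Z.OmT

end

section


/-!
# The frame `Di.Fr` for a module `M : FiveMod V L` (one-module `Base S M M h`)

* `sv M i` = singular vector `i` (complement of the point `i`), `sv M 0 * sv M 1 = n`, `sv M 2 * sv M 3 = a`,
  `sv M 4 = s`;
* `UP M i j` = `⟨(n_{ij}^⊥) ^ C_G(n_{ij})⟩`, `WP M i j = ⟨V ^ C_G(n_{ij})⟩` (as `WW V V`), `QP M i j = O₂(C_G(n_{ij}))`;
* `UP_conj`, `WP_conj`, `QP_conj`: an element inducing `p` maps the groups of `i, j` to those of `p i, p j`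
  (`*_conj_iff`: both directions);
* `UP_zero_one : UP M 0 1 = UU n a`, `UP_two_three`, `WP_zero_one`, `QP_zero_one` ...
* `trans` (`lift5`): a statement for `0 1 2 3 4` is true for all `D5 i j k l m`.
-/

set_option autoImplicit false
set_option linter.unusedSectionVars false

namespace Cfsg.Agent.Omega.TTn.Di

open Subgroup Cfsg
open Cfsg.Agent.Omega.S5.Mod Cfsg.Agent.Omega.S5.TT
open Cfsg.Agent.Omega.S5.TT.Pos (n_ne a_ne n_ne_a e_sq' mem_C)

universe u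

variable {G : Type u} [Group G]

section defs

variable {V L : Subgroup G} (M : FiveMod V L)

/-- singular vectors -/
def sv (i : Fin 5) : G := M.e (Pi.single i 1)

/-- `⟨(n_{ij}^⊥) ^ C_G(n_{ij})⟩` -/
def UP (i j : Fin 5) : Subgroup G :=
  closure {y | ∃ g, g * (sv M i * sv M j) = sv M i * sv M j * g ∧ ∃ x : Vec, x i = x j ∧ y = g * M.e x * g⁻¹}

/-- `⟨V ^ C_G(n_{ij})⟩` -/
def WP (i j : Fin 5) : Subgroup G := WW V V (sv M i * sv M j)

/-- `O₂(C_G(n_{ij}))` -/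
def QP (i j : Fin 5) : Subgroup G := Q (sv M i * sv M j)

theorem sv_comm (i j : Fin 5) : sv M i * sv M j = sv M j * sv M i := M.e_comm _ _

theorem UP_symm (i j : Fin 5) : UP M i j = UP M j i := by
  unfold UP
  rw [sv_comm M i j]
  congr 1
  ext y
  constructor
  · rintro ⟨g, hg, x, hx, rfl⟩
    exact ⟨g, hg, x, hx.symm, rfl⟩
  · rintro ⟨g, hg, x, hx, rfl⟩
    exact ⟨g, hg, x, hx.symm, rfl⟩

theorem WP_symm (i j : Fin 5) : WP M i j = WP M j i := by unfold WP; rw [sv_comm]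

theorem QP_symm (i j : Fin 5) : QP M i j = QP M j i := by unfold QP; rw [sv_comm]

variable {M}

theorem mem_UP {i j : Fin 5} {g : G} (hg : g * (sv M i * sv M j) = sv M i * sv M j * g) {x : Vec} (hx : x i = x j) :
    g * M.e x * g⁻¹ ∈ UP M i j := subset_closure ⟨g, hg, x, hx, rfl⟩

theorem e_mem_UP {i j : Fin 5} {x : Vec} (hx : x i = x j) : M.e x ∈ UP M i j := by
  have := mem_UP (M := M) (i := i) (j := j) (g := 1) (by rw [one_mul, mul_one]) hx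
  simpa using this

theorem UP_le {i j : Fin 5} {H : Subgroup G}
    (h : ∀ g, g * (sv M i * sv M j) = sv M i * sv M j * g → ∀ x : Vec, x i = x j → g * M.e x * g⁻¹ ∈ H) :
    UP M i j ≤ H := by
  rw [UP, closure_le]
  rintro _ ⟨g, hg, x, hx, rfl⟩
  exact h g hg x hx

theorem sv_conj {l : G} {p : Equiv.Perm (Fin 5)} (hl : M.Ind l p) (i : Fin 5) :
    l * sv M i * l⁻¹ = sv M (p i) := by
  unfold sv
  rw [hl, FiveMod.single_comp]

theorem svsv_conj {l : G} {p : Equiv.Perm (Fin 5)} (hl : M.Ind l p) (i j : Fin 5) :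
    l * (sv M i * sv M j) * l⁻¹ = sv M (p i) * sv M (p j) := by
  rw [← sv_conj hl, ← sv_conj hl]; group

/-- an element inducing `p` maps `U i j` to `U (p i) (p j)` -/
theorem UP_conj {l u : G} {p : Equiv.Perm (Fin 5)} (hl : M.Ind l p) {i j : Fin 5} (hu : u ∈ UP M i j) :
    l * u * l⁻¹ ∈ UP M (p i) (p j) := by
  have key : UP M i j ≤ ZN.ChoiceBase.cj l⁻¹ (UP M (p i) (p j)) := by
    refine UP_le fun g hg x hx => ?_
    rw [ZN.ChoiceBase.mem_cj, inv_inv]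
    have h1 : l * (g * M.e x * g⁻¹) * l⁻¹ = (l * g * l⁻¹) * (l * M.e x * l⁻¹) * (l * g * l⁻¹)⁻¹ := by group
    rw [h1, hl]
    refine mem_UP ?_ ?_
    · rw [← svsv_conj hl]
      calc l * g * l⁻¹ * (l * (sv M i * sv M j) * l⁻¹) = l * (g * (sv M i * sv M j)) * l⁻¹ := by group
        _ = l * (sv M i * sv M j * g) * l⁻¹ := by rw [hg]
        _ = l * (sv M i * sv M j) * l⁻¹ * (l * g * l⁻¹) := by group
    · simpa using hx
  have h := key hu
  rwa [ZN.ChoiceBase.mem_cj, inv_inv] at h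

theorem UP_conj_iff {l u : G} {p : Equiv.Perm (Fin 5)} (hl : M.Ind l p) {i j : Fin 5} :
    l * u * l⁻¹ ∈ UP M (p i) (p j) ↔ u ∈ UP M i j := by
  refine ⟨fun h => ?_, UP_conj hl⟩
  have h1 := UP_conj hl.inv h
  rw [inv_inv] at h1
  have h2 : l⁻¹ * (l * u * l⁻¹) * l = u := by group
  have h3 : ∀ i, p⁻¹ (p i) = i := fun i => by simp
  rwa [h2, h3, h3] at h1

theorem WP_conj {l w : G} {p : Equiv.Perm (Fin 5)} (hl : M.Ind l p) {i j : Fin 5} (hw : w ∈ WP M i j) :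
    l * w * l⁻¹ ∈ WP M (p i) (p j) := by
  have h := WW_conj hl.mem_normalizer hl.mem_normalizer hw
  rwa [svsv_conj hl] at h

theorem WP_conj_iff {l w : G} {p : Equiv.Perm (Fin 5)} (hl : M.Ind l p) {i j : Fin 5} :
    l * w * l⁻¹ ∈ WP M (p i) (p j) ↔ w ∈ WP M i j := by
  refine ⟨fun h => ?_, WP_conj hl⟩
  have h1 := WP_conj hl.inv h
  rw [inv_inv] at h1
  have h2 : l⁻¹ * (l * w * l⁻¹) * l = w := by group
  have h3 : ∀ i, p⁻¹ (p i) = i := fun i => by simp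
  rwa [h2, h3, h3] at h1

theorem QP_conj {l w : G} {p : Equiv.Perm (Fin 5)} (hl : M.Ind l p) {i j : Fin 5} (hw : w ∈ QP M i j) :
    l * w * l⁻¹ ∈ QP M (p i) (p j) := by
  have h : ZN.ChoiceBase.cj l (QP M i j) = QP M (p i) (p j) := by
    unfold QP Q
    rw [o2_conj, svsv_conj hl]
  rw [← h]
  exact ⟨w, hw, rfl⟩

theorem QP_conj_iff {l w : G} {p : Equiv.Perm (Fin 5)} (hl : M.Ind l p) {i j : Fin 5} :
    l * w * l⁻¹ ∈ QP M (p i) (p j) ↔ w ∈ QP M i j := by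
  refine ⟨fun h => ?_, QP_conj hl⟩
  have h1 := QP_conj hl.inv h
  rw [inv_inv] at h1
  have h2 : l⁻¹ * (l * w * l⁻¹) * l = w := by group
  have h3 : ∀ i, p⁻¹ (p i) = i := fun i => by simp
  rwa [h2, h3, h3] at h1

/-- elements commuting with `n_{ij}` normalise `U i j` -/
theorem UP_norm {i j : Fin 5} {g u : G} (hg : g * (sv M i * sv M j) = sv M i * sv M j * g) (hu : u ∈ UP M i j) :
    g * u * g⁻¹ ∈ UP M i j := by
  have key : UP M i j ≤ ZN.ChoiceBase.cj g⁻¹ (UP M i j) := by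
    refine UP_le fun k hk x hx => ?_
    rw [ZN.ChoiceBase.mem_cj, inv_inv]
    have h1 : g * (k * M.e x * k⁻¹) * g⁻¹ = (g * k) * M.e x * (g * k)⁻¹ := by group
    rw [h1]
    refine mem_UP ?_ hx
    rw [mul_assoc, hk, ← mul_assoc, hg, mul_assoc]
  have h := key hu
  rwa [ZN.ChoiceBase.mem_cj, inv_inv] at h

/-! ### Standard labels -/

variable (M)

theorem sv01 : sv M 0 * sv M 1 = M.e nn := by
  unfold sv; rw [← M.e_add, M.e_eq_iff]; left; decide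

theorem sv23 : sv M 2 * sv M 3 = M.e aa := by
  unfold sv; rw [← M.e_add, M.e_eq_iff]; left; decide

theorem sv4 : sv M 4 = M.e ss := by
  unfold sv; rw [M.e_eq_iff]; left; decide

theorem WP01 : WP M 0 1 = WW V V (M.e nn) := by unfold WP; rw [sv01]

theorem WP23 : WP M 2 3 = WW V V (M.e aa) := by unfold WP; rw [sv23]

theorem QP01 : QP M 0 1 = Q (M.e nn) := by unfold QP; rw [sv01]

theorem QP23 : QP M 2 3 = Q (M.e aa) := by unfold QP; rw [sv23]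

variable {M}

/-! ### Transport of labels -/

/-- the permutation with prescribed values -/
theorem exists_perm5 {i j k l m : Fin 5} (h : D5 i j k l m) :
    ∃ p : Equiv.Perm (Fin 5), p 0 = i ∧ p 1 = j ∧ p 2 = k ∧ p 3 = l ∧ p 4 = m := by
  let f : Fin 5 → Fin 5 := ![i, j, k, l, m]
  have hf : Function.Injective f := by
    obtain ⟨e1, e2, e3, e4, e5, e6, e7, e8, e9, e10⟩ := h
    intro a b hab
    fin_cases a <;> fin_cases b <;> simp [f] at hab <;> first | rfl | (exfalso; revert hab; first | exact e1 | exact e2 | exact e3 | exact e4 | exact e5 | exact e6 | exact e7 | exact e8 | exact e9 | exact e10 | exact e1.symm | exact e2.symm | exact e3.symm | exact e4.symm | exact e5.symm | exact e6.symm | exact e7.symm | exact e8.symm | exact e9.symm | exact e10.symm)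
  refine ⟨Equiv.ofBijective f ((Finite.injective_iff_bijective).1 hf), rfl, rfl, rfl, rfl, rfl⟩

theorem exists_perm2 {i j : Fin 5} (h : i ≠ j) : ∃ p : Equiv.Perm (Fin 5), p 0 = i ∧ p 1 = j := by
  revert i j
  decide +kernel

end defs

end Cfsg.Agent.Omega.TTn.Di

end

section


/-!
# The frame `Di.Fr` from `Base S M M h`

`Di.fr_of (b : Base S M M h) : CwStd M → CoreStd M → FaithStd M → ∃ w, Fr (sv M) (UP M) (WP M) (QP M) w (C_G(V))`,
where the three missing facts are stated for the standard labels `0 1 | 2 3 | 4`: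
* `CwStd M` : `c` centralises `U 0 1`, `x ∈ W 2 3` ⟹ `[c, x] ∈ Q 0 1`;
* `CoreStd M` : `c ∈ W 1 2` centralises `U 0 1` and `U 2 3` ⟹ `c ∈ Q 0 1`;
* `FaithStd M` : `g ∈ C_G(V)`, `[g, U 0 1] ≤ ⟨n⟩` ⟹ `g` centralises `U 0 1`.
-/

set_option autoImplicit false
set_option linter.unusedSectionVars false

namespace Cfsg.Agent.Omega.TTn.Di

open Subgroup Cfsg Cfsg.Agent.ZN
open Cfsg.Agent.Omega.S5.Mod Cfsg.Agent.Omega.S5.TT
open Cfsg.Agent.Omega.S5.TT.Pos (n_ne a_ne n_ne_a e_sq' mem_C)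
open Cfsg.Agent.MinSimple.VModule (o2_isPGroup le_o2 o2_le le_normalizer_o2 o2_le_of_sylow)

universe u

variable {G : Type u} [Group G]

section

variable {V L : Subgroup G} (M : FiveMod V L)

/-- (1.5) for the standard labels -/
def CwStd : Prop :=
  ∀ c, (∀ y ∈ UP M 0 1, c * y = y * c) → ∀ x ∈ WP M 2 3, cm c x ∈ QP M 0 1

/-- (2.4) for the standard labels -/
def CoreStd : Prop :=
  ∀ c ∈ WP M 1 2, (∀ y ∈ UP M 0 1, c * y = y * c) → (∀ y ∈ UP M 2 3, c * y = y * c) → c ∈ QP M 0 1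

/-- (3.4) for the standard labels -/
def FaithStd : Prop :=
  ∀ g ∈ centralizer (V : Set G), (∀ u ∈ UP M 0 1, cm g u = 1 ∨ cm g u = sv M 0 * sv M 1) →
    ∀ u ∈ UP M 0 1, g * u = u * g

end

variable {S : Sylow 2 G} {V L : Subgroup G} {M : FiveMod V L} {h : G}

theorem cm_conj (l a b : G) : l * cm a b * l⁻¹ = cm (l * a * l⁻¹) (l * b * l⁻¹) := by
  unfold cm; group

/-- transport of a commutation -/
theorem comm_conj_iff (l a b : G) :
    (l * a * l⁻¹) * (l * b * l⁻¹) = (l * b * l⁻¹) * (l * a * l⁻¹) ↔ a * b = b * a := by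
  have e1 : (l * a * l⁻¹) * (l * b * l⁻¹) = l * (a * b) * l⁻¹ := by group
  have e2 : (l * b * l⁻¹) * (l * a * l⁻¹) = l * (b * a) * l⁻¹ := by group
  rw [e1, e2]
  constructor
  · intro h
    exact mul_left_cancel (mul_right_cancel h)
  · intro h
    rw [h]

theorem CwStd.gen (hc : CwStd M) {i j k l m : Fin 5} (h5 : D5 i j k l m) :
    ∀ c, (∀ y ∈ UP M i j, c * y = y * c) → ∀ x ∈ WP M k l, cm c x ∈ QP M i j := by
  obtain ⟨p, rfl, rfl, rfl, rfl, rfl⟩ := exists_perm5 h5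
  obtain ⟨g, -, hg⟩ := M.exists_lift p
  have hg : M.Ind g p := hg
  intro c hcy x hx
  have ec : c = g * (g⁻¹ * c * g) * g⁻¹ := by group
  have ex : x = g * (g⁻¹ * x * g) * g⁻¹ := by group
  rw [ec, ex, ← cm_conj, QP_conj_iff hg]
  refine hc _ (fun y hy => ?_) _ ?_
  · rw [← comm_conj_iff g, ← ec]
    exact hcy _ (UP_conj hg hy)
  · rw [← WP_conj_iff hg, ← ex]
    exact hx

theorem CoreStd.gen (hc : CoreStd M) {i j k l m : Fin 5} (h5 : D5 i j k l m) :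
    ∀ c ∈ WP M j k, (∀ y ∈ UP M i j, c * y = y * c) → (∀ y ∈ UP M k l, c * y = y * c) → c ∈ QP M i j := by
  obtain ⟨p, rfl, rfl, rfl, rfl, rfl⟩ := exists_perm5 h5
  obtain ⟨g, -, hg⟩ := M.exists_lift p
  have hg : M.Ind g p := hg
  intro c hcW h1 h2
  have ec : c = g * (g⁻¹ * c * g) * g⁻¹ := by group
  rw [ec, QP_conj_iff hg]
  refine hc _ ?_ (fun y hy => ?_) (fun y hy => ?_)
  · rw [← WP_conj_iff hg, ← ec]
    exact hcW
  · rw [← comm_conj_iff g, ← ec]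
    exact h1 _ (UP_conj hg hy)
  · rw [← comm_conj_iff g, ← ec]
    exact h2 _ (UP_conj hg hy)

theorem mem_centralizer_conj {g x : G} (hg : g ∈ normalizer (V : Set G)) (hx : x ∈ centralizer (V : Set G)) :
    g⁻¹ * x * g ∈ centralizer (V : Set G) := by
  rw [mem_centralizer_iff] at hx ⊢
  intro v hv
  have h1 := hx _ ((mem_normalizer_iff.1 hg v).1 hv)
  calc v * (g⁻¹ * x * g) = g⁻¹ * ((g * v * g⁻¹) * x) * g := by group
    _ = g⁻¹ * (x * (g * v * g⁻¹)) * g := by rw [h1]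
    _ = g⁻¹ * x * g * v := by group

theorem FaithStd.gen (hc : FaithStd M) {i j : Fin 5} (hij : i ≠ j) :
    ∀ g ∈ centralizer (V : Set G), (∀ u ∈ UP M i j, cm g u = 1 ∨ cm g u = sv M i * sv M j) →
      ∀ u ∈ UP M i j, g * u = u * g := by
  obtain ⟨p, rfl, rfl⟩ := exists_perm2 hij
  obtain ⟨l, -, hl⟩ := M.exists_lift p
  have hl : M.Ind l p := hl
  intro g hgV h1 u hu
  have eg : g = l * (l⁻¹ * g * l) * l⁻¹ := by group
  have eu : u = l * (l⁻¹ * u * l) * l⁻¹ := by group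
  rw [eg, eu, comm_conj_iff]
  refine hc _ (mem_centralizer_conj hl.mem_normalizer hgV) (fun v hv => ?_) _ ?_
  · have h2 := h1 _ (UP_conj hl hv)
    rw [eg, ← cm_conj, ← svsv_conj hl] at h2
    rcases h2 with h2 | h2
    · left
      have h3 := congrArg (fun t => l⁻¹ * t * l) h2
      simpa [mul_assoc] using h3
    · right
      exact mul_left_cancel (mul_right_cancel h2)
  · rw [← UP_conj_iff hl, ← eu]
    exact hu

section base

variable (b : Base S M M h)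
include b

variable [Finite G]

theorem UP_zero_one : UP M 0 1 = UU (M.e nn) (M.e aa) := by
  refine le_antisymm (UP_le fun g hg x hx => ?_) (UU_le ?_ fun g hg => ?_)
  · rw [sv01] at hg
    exact UU_norm hg (b.perp_mem₁ hx)
  · exact e_mem_UP (by decide)
  · rw [← sv01] at hg
    exact mem_UP hg (by decide)

/-- reduction to the labels `0`, `1` -/
theorem UP_zero {p : Equiv.Perm (Fin 5)} {l u : G} (hl : M.Ind l p) (hu : u ∈ UP M (p 0) (p 1)) :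
    l⁻¹ * u * l ∈ UU (M.e nn) (M.e aa) := by
  rw [← UP_zero_one b, ← UP_conj_iff hl]
  have : l * (l⁻¹ * u * l) * l⁻¹ = u := by group
  rwa [this]

theorem U_comm_Q {i j : Fin 5} (hij : i ≠ j) {q u : G} (hq : q ∈ QP M i j) (hu : u ∈ UP M i j) :
    q * u = u * q := by
  obtain ⟨p, rfl, rfl⟩ := exists_perm2 hij
  obtain ⟨l, -, hl⟩ := M.exists_lift p
  have hl : M.Ind l p := hl
  have eq' : q = l * (l⁻¹ * q * l) * l⁻¹ := by group
  have eu : u = l * (l⁻¹ * u * l) * l⁻¹ := by group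
  rw [eq', eu, comm_conj_iff]
  refine (b.UU_comm_Q ?_ ?_).symm
  · rw [← UP_zero_one b, ← UP_conj_iff hl, ← eu]; exact hu
  · rw [← QP01, ← QP_conj_iff hl, ← eq']; exact hq

theorem U_le_Q {i j : Fin 5} (hij : i ≠ j) : UP M i j ≤ QP M i j := by
  obtain ⟨p, rfl, rfl⟩ := exists_perm2 hij
  obtain ⟨l, -, hl⟩ := M.exists_lift p
  have hl : M.Ind l p := hl
  intro u hu
  have eu : u = l * (l⁻¹ * u * l) * l⁻¹ := by group
  rw [eu, QP_conj_iff hl, QP01]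
  refine b.UU_le_Q ?_
  rw [← UP_zero_one b, ← UP_conj_iff hl, ← eu]; exact hu

theorem W_le_Q {i j : Fin 5} (hij : i ≠ j) : WP M i j ≤ QP M i j := by
  obtain ⟨p, rfl, rfl⟩ := exists_perm2 hij
  obtain ⟨l, -, hl⟩ := M.exists_lift p
  have hl : M.Ind l p := hl
  intro u hu
  have eu : u = l * (l⁻¹ * u * l) * l⁻¹ := by group
  rw [eu, QP_conj_iff hl, QP01]
  refine b.WW_le_Q ?_
  rw [← WP01, ← WP_conj_iff hl, ← eu]; exact hu

theorem V_le_QP {i j : Fin 5} (hij : i ≠ j) : V ≤ QP M i j :=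
  (le_WW₁ V V _).trans (W_le_Q b hij)

theorem U_le_C {i j : Fin 5} (hij : i ≠ j) : UP M i j ≤ centralizer (V : Set G) := by
  intro u hu
  rw [mem_centralizer_iff]
  intro v hv
  exact U_comm_Q b hij (V_le_QP b hij hv) hu

theorem U_sq {i j : Fin 5} (hij : i ≠ j) {u : G} (hu : u ∈ UP M i j) : u * u = 1 := by
  obtain ⟨p, rfl, rfl⟩ := exists_perm2 hij
  obtain ⟨l, -, hl⟩ := M.exists_lift p
  have hl : M.Ind l p := hl
  have h1 := b.UU_sq (u := l⁻¹ * u * l) (by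
    rw [← UP_zero_one b, ← UP_conj_iff hl]
    have : l * (l⁻¹ * u * l) * l⁻¹ = u := by group
    rwa [this])
  have h2 : l⁻¹ * u * l * (l⁻¹ * u * l) = l⁻¹ * (u * u) * l := by group
  rw [h2] at h1
  have h3 := congrArg (fun t => l * t * l⁻¹) h1
  simpa [mul_assoc] using h3

theorem QW_comm {i j : Fin 5} (hij : i ≠ j) {q x : G} (hq : q ∈ QP M i j) (hx : x ∈ WP M i j) :
    cm q x = 1 ∨ cm q x = sv M i * sv M j := by
  obtain ⟨p, rfl, rfl⟩ := exists_perm2 hij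
  obtain ⟨l, -, hl⟩ := M.exists_lift p
  have hl : M.Ind l p := hl
  have eq' : q = l * (l⁻¹ * q * l) * l⁻¹ := by group
  have ex : x = l * (l⁻¹ * x * l) * l⁻¹ := by group
  have h1 : l⁻¹ * x * l ∈ WW V V (M.e nn) := by
    rw [← WP01, ← WP_conj_iff hl, ← ex]; exact hx
  have h2 : l⁻¹ * q * l ∈ Q (M.e nn) := by
    rw [← QP01, ← QP_conj_iff hl, ← eq']; exact hq
  have h3 := b.WW_comm h1 h2
  rw [eq', ex, ← cm_conj, ← svsv_conj hl, sv01]
  have h4 : cm (l⁻¹ * q * l) (l⁻¹ * x * l) =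
      (l⁻¹ * x * l * (l⁻¹ * q * l) * (l⁻¹ * x * l)⁻¹ * (l⁻¹ * q * l)⁻¹)⁻¹ := by
    unfold cm; group
  rcases h3 with h3 | h3
  · left; rw [h4, h3]; group
  · right; rw [h4, h3, M.e_inv]

/-- squares in `W n` -/
theorem WW_sq {x : G} (hx : x ∈ WW V V (M.e nn)) : x * x = 1 ∨ x * x = M.e nn := by
  have hn : ∀ {y : G}, y ∈ Q (M.e nn) → y * M.e nn = M.e nn * y := fun hy => mem_C.1 (o2_le _ hy)
  induction hx using closure_induction with
  | mem y hy =>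
    obtain ⟨g, hg, v, hv, rfl⟩ := hy
    left
    have hv' : v ∈ V := hv.elim id id
    have h1 : g * v * g⁻¹ * (g * v * g⁻¹) = g * (v * v) * g⁻¹ := by group
    rw [h1, M.sq hv']; group
  | one => left; group
  | mul x y hx hy h1 h2 =>
    have hxQ : x ∈ Q (M.e nn) := b.WW_le_Q hx
    have hyQ : y ∈ Q (M.e nn) := b.WW_le_Q hy
    have h3 := b.WW_comm hy hxQ
    have e : x * y * (x * y) = x * (y * x * y⁻¹ * x⁻¹) * x⁻¹ * (x * x) * (y * y) := by group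
    have h4 : x * (y * x * y⁻¹ * x⁻¹) * x⁻¹ = y * x * y⁻¹ * x⁻¹ := by
      rcases h3 with h3 | h3
      · rw [h3]; group
      · rw [h3, hn hxQ, mul_inv_cancel_right]
    rw [e, h4]
    rcases h1 with h1 | h1 <;> rcases h2 with h2 | h2 <;> rcases h3 with h3 | h3 <;> rw [h1, h2, h3] <;>
      simp [M.e_sq]
  | inv x hx h1 =>
    have e : x⁻¹ * x⁻¹ = (x * x)⁻¹ := by group
    rw [e]
    rcases h1 with h1 | h1
    · left; rw [h1]; group
    · right; rw [h1, M.e_inv]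

theorem W_sq {i j : Fin 5} (hij : i ≠ j) {x : G} (hx : x ∈ WP M i j) : x * x = 1 ∨ x * x = sv M i * sv M j := by
  obtain ⟨p, rfl, rfl⟩ := exists_perm2 hij
  obtain ⟨l, -, hl⟩ := M.exists_lift p
  have hl : M.Ind l p := hl
  have ex : x = l * (l⁻¹ * x * l) * l⁻¹ := by group
  have h1 : l⁻¹ * x * l ∈ WW V V (M.e nn) := by
    rw [← WP01, ← WP_conj_iff hl, ← ex]; exact hx
  have h2 := WW_sq b h1
  have e : x * x = l * (l⁻¹ * x * l * (l⁻¹ * x * l)) * l⁻¹ := by group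
  rw [e, ← svsv_conj hl, sv01]
  rcases h2 with h2 | h2
  · left; rw [h2]; group
  · right; rw [h2]

theorem sv_notMem {i j : Fin 5} (hij : i ≠ j) : sv M i ∉ UP M i j := by
  obtain ⟨p, rfl, rfl⟩ := exists_perm2 hij
  obtain ⟨l, -, hl⟩ := M.exists_lift p
  have hl : M.Ind l p := hl
  rw [← sv_conj hl, UP_conj_iff hl, UP_zero_one b]
  intro h1
  have h2 := b.perp_of_mem₁ h1
  revert h2
  decide

theorem exists_w {i j : Fin 5} (hij : i ≠ j) : ∃ w ∈ WP M i j, M.Ind w (Equiv.swap i j) := by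
  obtain ⟨p, rfl, rfl⟩ := exists_perm2 hij
  obtain ⟨l, -, hl⟩ := M.exists_lift p
  have hl : M.Ind l p := hl
  obtain ⟨w, hw, hi⟩ := b.exists_move₁
  refine ⟨l * w * l⁻¹, WP_conj hl (by rwa [WP01]), ?_⟩
  have h1 := (hl.mul hi).mul hl.inv
  have h2 : p * Equiv.swap 0 1 * p⁻¹ = Equiv.swap (p 0) (p 1) := (Equiv.swap_apply_apply p 0 1).symm
  rwa [h2] at h1

/-- `⋂ U_{ij} = 1` -/
theorem inter_eq {x : G} (hx : ∀ i j, i ≠ j → x ∈ UP M i j) : x = 1 := by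
  set D : Subgroup G := ⨅ (i : Fin 5) (j : Fin 5) (_ : i ≠ j), UP M i j with hD
  have mem_D : ∀ {y : G}, y ∈ D ↔ ∀ i j, i ≠ j → y ∈ UP M i j := by
    intro y
    simp [hD, mem_iInf]
  have hDS : D ≤ (S : Subgroup G) := by
    intro y hy
    have h1 := mem_D.1 hy 0 1 (by decide)
    rw [UP_zero_one b] at h1
    exact (b.Q_le_T (b.UU_le_Q h1)).1
  have hDn : ∀ g ∈ (S : Subgroup G), ∀ y ∈ D, g * y * g⁻¹ ∈ D := by
    intro g hg y hy
    obtain ⟨p, hp⟩ := M.exists_ind (b.dih₁.S_le hg)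
    have hp : M.Ind g p := hp
    rw [mem_D]
    intro i j hij
    have h1 := UP_conj hp (mem_D.1 hy (p⁻¹ i) (p⁻¹ j) (fun h0 => hij (p⁻¹.injective h0)))
    simpa using h1
  by_contra hx1
  have hDx : x ∈ D := mem_D.2 hx
  have hf : Fact (Nat.Prime 2) := ⟨Nat.prime_two⟩
  have hSn : ((S : Subgroup G)) ≤ normalizer (D : Set G) := by
    intro g hg
    refine mem_normalizer_iff.2 fun y => ⟨hDn g hg y, fun hy => ?_⟩
    have h1 := hDn g⁻¹ (inv_mem hg) _ hy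
    have h2 : g⁻¹ * (g * y * g⁻¹) * g⁻¹⁻¹ = y := by group
    rwa [h2] at h1
  have hnt : Nontrivial (D.subgroupOf (S : Subgroup G)) := by
    refine ⟨⟨⟨x, hDS hDx⟩, mem_subgroupOf.2 hDx⟩, 1, fun h0 => hx1 ?_⟩
    have h1 := congrArg (fun t : D.subgroupOf (S : Subgroup G) => ((t : (S : Subgroup G)) : G)) h0
    exact h1
  have hnorm : (D.subgroupOf (S : Subgroup G)).Normal := normal_subgroupOf_of_le_normalizer hSn
  obtain ⟨z, hz, hz1⟩ : ∃ z ∈ D.subgroupOf (S : Subgroup G) ⊓ center (S : Subgroup G), z ≠ 1 := by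
    have hnil : Group.IsNilpotent (S : Subgroup G) := S.isPGroup'.isNilpotent
    have h1 := Lib.NormalAbelian.normal_inf_center_ne_bot (D.subgroupOf (S : Subgroup G))
      ((nontrivial_iff_ne_bot _).1 hnt)
    obtain ⟨⟨z, hz⟩, hz1⟩ := ne_bot_iff_exists_ne_one.1 h1
    exact ⟨z, hz, fun h0 => hz1 (Subtype.ext h0)⟩
  have hzD : (z : G) ∈ D := mem_subgroupOf.1 (mem_inf.1 hz).1
  have hzU := mem_D.1 hzD 0 1 (by decide)
  have h2 : (z : G) * z = 1 := U_sq b (by decide) hzU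
  have h3 : (z : G) ∈ zc (S : Subgroup G) := by
    refine MinSimple.VModule.mem_zc.2 ⟨z.2, fun g hg => ?_, by rw [pow_two]; exact h2⟩
    exact congrArg Subtype.val (mem_center_iff.1 (mem_inf.1 hz).2 ⟨g, hg⟩)
  rcases b.dih₁.zS_le h3 with h4 | h4
  · exact hz1 (Subtype.ext h4)
  · have h5 := mem_D.1 hzD 4 0 (by decide)
    rw [h4, ← sv4] at h5
    exact sv_notMem b (by decide) h5

/-- The frame of #14261 from `Base` (one module) and the three facts (1.5), (2.4), (3.4), with the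
action of `w i j` on `V`. -/
theorem fr_of_ind (hcw : CwStd M) (hcore : CoreStd M) (hfaith : FaithStd M) :
    ∃ w : Fin 5 → Fin 5 → G, (∀ i j, i ≠ j → M.Ind (w i j) (Equiv.swap i j)) ∧
      Fr (sv M) (UP M) (WP M) (QP M) w (centralizer (V : Set G)) := by
  have hex : ∀ i j : Fin 5, ∃ w, i ≠ j → w ∈ WP M i j ∧ M.Ind w (Equiv.swap i j) := by
    intro i j
    by_cases hij : i = j
    · exact ⟨1, fun h0 => absurd hij h0⟩
    · obtain ⟨w, hw, hi⟩ := exists_w b hij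
      exact ⟨w, fun _ => ⟨hw, hi⟩⟩
  choose w hw using hex
  refine ⟨w, fun i j hij => (hw i j hij).2, ?_⟩
  refine
    { s_sq := fun i => M.e_sq _
      s_comm := fun i j => M.e_comm _ _
      s_rel := ?_
      sK := ?_
      Ks := ?_
      Usym := UP_symm M
      Wsym := WP_symm M
      Qsym := QP_symm M
      UK := fun hij => U_le_C b hij
      KU := ?_
      KW := ?_
      Uab := ?_
      Usq := fun hij u hu => U_sq b hij hu
      UQ := fun hij => U_le_Q b hij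
      UQc := fun hij q hq u hu => U_comm_Q b hij hq hu
      WQ := fun hij => W_le_Q b hij
      QW := fun hij q hq x hx => QW_comm b hij hq hx
      Wsq := fun hij x hx => W_sq b hij hx
      sU := ?_
      sU' := fun hij => sv_notMem b hij
      wW := fun hij => (hw _ _ hij).1
      w1 := ?_
      w2 := ?_
      w3 := ?_
      cw := fun h5 => hcw.gen h5
      core := fun h5 => hcore.gen h5
      inter := fun x hx => inter_eq b hx
      faith := fun hij => hfaith.gen hij }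
  · intro i j k l m h5
    obtain ⟨p, rfl, rfl, rfl, rfl, rfl⟩ := exists_perm5 h5
    unfold sv
    rw [← M.e_add, ← M.e_add, ← M.e_add, ← M.e_add]
    have h1 : ((Pi.single (p 0) 1 + Pi.single (p 1) 1 + Pi.single (p 2) 1 + Pi.single (p 3) 1 +
        Pi.single (p 4) 1 : Vec)) = 1 := by
      funext x
      obtain ⟨y, rfl⟩ := p.surjective x
      simp only [Pi.add_apply, Pi.single_apply, p.injective.eq_iff, Pi.one_apply]
      fin_cases y <;> simp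
    rw [h1, M.e_one]
  · intro i
    rw [mem_centralizer_iff]
    exact fun v hv => M.comm hv (M.e_mem _)
  · intro i g hg
    exact (mem_centralizer_iff.1 hg _ (M.e_mem _)).symm
  · intro i j hij g hg u hu
    refine UP_norm ?_ hu
    have h1 := (mem_centralizer_iff.1 hg _ (M.e_mem (Pi.single i 1))).symm
    have h2 := (mem_centralizer_iff.1 hg _ (M.e_mem (Pi.single j 1))).symm
    unfold sv
    rw [← mul_assoc, h1, mul_assoc, h2, ← mul_assoc]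
  · intro i j hij g hg u hu
    refine WW_norm ?_ hu
    have h1 := (mem_centralizer_iff.1 hg _ (M.e_mem (Pi.single i 1))).symm
    have h2 := (mem_centralizer_iff.1 hg _ (M.e_mem (Pi.single j 1))).symm
    unfold sv
    rw [← mul_assoc, h1, mul_assoc, h2, ← mul_assoc]
  · intro i j hij u hu v hv
    exact U_comm_Q b hij (U_le_Q b hij hu) hv
  · intro i j k hij hki hkj
    refine e_mem_UP ?_
    rw [Pi.single_eq_of_ne hki.symm, Pi.single_eq_of_ne hkj.symm]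
  · intro i j k hij hki hkj u hu
    have h1 := UP_conj (hw _ _ hij).2 hu
    rw [Equiv.swap_apply_left, Equiv.swap_apply_of_ne_of_ne hki hkj] at h1
    exact h1
  · intro i j k hij hki hkj u hu
    have h1 := UP_conj (hw _ _ hij).2 hu
    rw [Equiv.swap_apply_right, Equiv.swap_apply_of_ne_of_ne hki hkj] at h1
    exact h1
  · intro i j k l hij hki hkj hli hlj hkl u hu
    have h1 := UP_conj (hw _ _ hij).2 hu
    rw [Equiv.swap_apply_of_ne_of_ne hki hkj, Equiv.swap_apply_of_ne_of_ne hli hlj] at h1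
    exact h1

/-- The frame of #14261 from `Base` (one module) and the three facts (1.5), (2.4), (3.4). -/
theorem fr_of (hcw : CwStd M) (hcore : CoreStd M) (hfaith : FaithStd M) :
    ∃ w, Fr (sv M) (UP M) (WP M) (QP M) w (centralizer (V : Set G)) := by
  obtain ⟨w, -, hw⟩ := fr_of_ind b hcw hcore hfaith
  exact ⟨w, hw⟩

end base

end Cfsg.Agent.Omega.TTn.Di

end

section


/-!
# D(i): two facts on `C_G(U_n)` (#14261, (1.5) and (3.4))

* `Base.cw` : `[C_G(U_n), W_a] ≤ Q_n`;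
* `Base.faith` : an element of `C_G(n)` acting on `U_n` with `[g, U_n] ≤ ⟨n⟩` centralises `U_n`.
-/

set_option autoImplicit false

namespace Cfsg.Agent.Omega.TTn

open Subgroup Cfsg Cfsg.Agent.ZN Cfsg.Agent.ZN.ChoiceBase
open Cfsg.Agent.Omega.S5.Mod Cfsg.Agent.Omega.S5.TT
open Cfsg.Agent.Omega.S5.TT.Pos (mem_C)

universe u

variable {G : Type u} [Group G]

/-- Sylow's theorem in `C` with the Sylow 2-subgroup `T`. -/
theorem exists_conj_le_cw [Finite G] {C T X : Subgroup G} (hT : IsPGroup 2 T)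
    (hd : ¬ 2 ∣ T.relIndex C) (hX : IsPGroup 2 X) (hXC : X ≤ C) :
    ∃ c ∈ C, ∀ x ∈ X, c * x * c⁻¹ ∈ T := by
  have : Fact (Nat.Prime 2) := ⟨Nat.prime_two⟩
  have hX' : IsPGroup 2 (X.subgroupOf C) := hX.comap_subtype
  obtain ⟨S2, hS2⟩ := hX'.exists_le_sylow
  have hd' : ¬ 2 ∣ (T.subgroupOf C).index := hd
  obtain ⟨c, hc⟩ := MulAction.exists_smul_eq C S2
    ((hT.comap_of_injective _ C.subtype_injective).toSylow hd')
  refine ⟨c, c.2, fun x hx => ?_⟩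
  have h1 : (⟨x, hXC hx⟩ : C) ∈ (S2 : Subgroup C) := hS2 (Subgroup.mem_subgroupOf.mpr hx)
  have h2 : c * ⟨x, hXC hx⟩ * c⁻¹ ∈ ((c • S2 : Sylow 2 C) : Subgroup C) := by
    rw [Sylow.coe_subgroup_smul]
    exact Subgroup.smul_mem_pointwise_smul _ (MulAut.conj c) _ h1
  rw [hc] at h2
  exact mem_subgroupOf.1 h2

section core

variable {n : G} {U : Subgroup G}

/-- `g` centralises `n` and acts on `U` with `[g, U] ≤ ⟨n⟩`. -/
def Dn (n : G) (U : Subgroup G) (g : G) : Prop :=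
  g * n = n * g ∧ ∀ u ∈ U, g * u * g⁻¹ * u⁻¹ = 1 ∨ g * u * g⁻¹ * u⁻¹ = n

theorem Dn.eq {g : G} (h : Dn n U g) {u : G} (hu : u ∈ U) : g * u * g⁻¹ = u ∨ g * u * g⁻¹ = n * u := by
  rcases h.2 u hu with h1 | h1
  · left; rwa [mul_inv_eq_one] at h1
  · right; rwa [mul_inv_eq_iff_eq_mul] at h1

theorem Dn.of {g : G} (h0 : g * n = n * g) (h : ∀ u ∈ U, g * u * g⁻¹ = u ∨ g * u * g⁻¹ = n * u) :
    Dn n U g := by
  refine ⟨h0, fun u hu => ?_⟩
  rcases h u hu with h1 | h1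
  · left; rw [h1, mul_inv_cancel]
  · right; rw [h1, mul_inv_cancel_right]

theorem Dn.one : Dn n U 1 := ⟨by group, fun u _ => by left; group⟩

theorem Dn.mul (hn : n * n = 1) {g k : G} (hg : Dn n U g) (hk : Dn n U k) : Dn n U (g * k) := by
  have e0 : g * n * g⁻¹ = n := by rw [hg.1]; group
  refine .of ?_ fun u hu => ?_
  · rw [mul_assoc, hk.1, ← mul_assoc, hg.1, mul_assoc]
  · have e : g * k * u * (g * k)⁻¹ = g * (k * u * k⁻¹) * g⁻¹ := by group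
    rw [e]
    rcases hk.eq hu with h1 | h1 <;> rcases hg.eq hu with h2 | h2
    · left; rw [h1, h2]
    · right; rw [h1, h2]
    · right
      rw [h1]
      calc g * (n * u) * g⁻¹ = (g * n * g⁻¹) * (g * u * g⁻¹) := by group
        _ = n * u := by rw [e0, h2]
    · left
      rw [h1]
      calc g * (n * u) * g⁻¹ = (g * n * g⁻¹) * (g * u * g⁻¹) := by group
        _ = (n * n) * u := by rw [e0, h2]; group
        _ = u := by rw [hn, one_mul]

theorem Dn.inv (hn : n * n = 1) {g : G} (hg : Dn n U g) : Dn n U g⁻¹ := by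
  have e0 : g⁻¹ * n * g = n := by
    calc g⁻¹ * n * g = g⁻¹ * (n * g) := by group
      _ = g⁻¹ * (g * n) := by rw [hg.1]
      _ = n := by group
  refine .of ?_ fun u hu => ?_
  · calc g⁻¹ * n = (g⁻¹ * n * g) * g⁻¹ := by group
      _ = n * g⁻¹ := by rw [e0]
  · rcases hg.eq hu with h1 | h1
    · left
      calc g⁻¹ * u * g⁻¹⁻¹ = g⁻¹ * (g * u * g⁻¹) * g := by rw [h1]; group
        _ = u := by group
    · right
      have h2 : u = n * (g * u * g⁻¹) := by rw [h1, ← mul_assoc, hn, one_mul]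
      calc g⁻¹ * u * g⁻¹⁻¹ = g⁻¹ * u * g := by group
        _ = g⁻¹ * (n * (g * u * g⁻¹)) * g := by rw [← h2]
        _ = (g⁻¹ * n * g) * u := by group
        _ = n * u := by rw [e0]

/-- `Dn` as a subgroup -/
def DD (n : G) (U : Subgroup G) (hn : n * n = 1) : Subgroup G where
  carrier := {g | Dn n U g}
  one_mem' := .one
  mul_mem' hg hk := hg.mul hn hk
  inv_mem' hg := hg.inv hn

/-- squares centralise `U` -/
theorem Dn.sq (hn : n * n = 1) {g : G} (hg : Dn n U g) {u : G} (hu : u ∈ U) :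
    g * g * u = u * (g * g) := by
  have e0 : g * n * g⁻¹ = n := by rw [hg.1]; group
  have h1 : g * g * u * (g * g)⁻¹ = u := by
    have e : g * g * u * (g * g)⁻¹ = g * (g * u * g⁻¹) * g⁻¹ := by group
    rw [e]
    rcases hg.eq hu with h2 | h2
    · rw [h2, h2]
    · rw [h2]
      calc g * (n * u) * g⁻¹ = (g * n * g⁻¹) * (g * u * g⁻¹) := by group
        _ = (n * n) * u := by rw [e0, h2]; group
        _ = u := by rw [hn, one_mul]
  rwa [mul_inv_eq_iff_eq_mul] at h1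

/-- commutators centralise `U` -/
theorem Dn.comm (hn : n * n = 1) (hnU : n ∈ U) {g k : G} (hg : Dn n U g) (hk : Dn n U k) {u : G}
    (hu : u ∈ U) : (g * k * g⁻¹ * k⁻¹) * u = u * (g * k * g⁻¹ * k⁻¹) := by
  have eg : g * n * g⁻¹ = n := by rw [hg.1]; group
  have ek : k * n * k⁻¹ = n := by rw [hk.1]; group
  have h1 : ∀ u ∈ U, g * k * u * (g * k)⁻¹ = k * g * u * (k * g)⁻¹ := by
    intro u hu
    have e1 : g * k * u * (g * k)⁻¹ = g * (k * u * k⁻¹) * g⁻¹ := by group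
    have e2 : k * g * u * (k * g)⁻¹ = k * (g * u * g⁻¹) * k⁻¹ := by group
    rw [e1, e2]
    rcases hk.eq hu with h2 | h2 <;> rcases hg.eq hu with h3 | h3
    · rw [h2, h3, h2]
    · rw [h2, h3]
      calc n * u = (k * n * k⁻¹) * (k * u * k⁻¹) := by rw [ek, h2]
        _ = k * (n * u) * k⁻¹ := by group
    · rw [h2, h3, h2]
      calc g * (n * u) * g⁻¹ = (g * n * g⁻¹) * (g * u * g⁻¹) := by group
        _ = n * u := by rw [eg, h3]
    · rw [h2, h3]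
      calc g * (n * u) * g⁻¹ = (g * n * g⁻¹) * (g * u * g⁻¹) := by group
        _ = (k * n * k⁻¹) * (k * u * k⁻¹) := by rw [eg, h3, ek, h2]
        _ = k * (n * u) * k⁻¹ := by group
  have h2 : Dn n U (k * g)⁻¹ := (hk.mul hn hg).inv hn
  have h3 : (k * g)⁻¹ * u * (k * g)⁻¹⁻¹ ∈ U := by
    rcases h2.eq hu with h3 | h3
    · rw [h3]; exact hu
    · rw [h3]; exact mul_mem hnU hu
  have h4 := h1 _ h3
  have h5 : (g * k * g⁻¹ * k⁻¹) * u * (g * k * g⁻¹ * k⁻¹)⁻¹ = u := by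
    calc (g * k * g⁻¹ * k⁻¹) * u * (g * k * g⁻¹ * k⁻¹)⁻¹ =
          g * k * ((k * g)⁻¹ * u * (k * g)⁻¹⁻¹) * (g * k)⁻¹ := by group
      _ = k * g * ((k * g)⁻¹ * u * (k * g)⁻¹⁻¹) * (k * g)⁻¹ := h4
      _ = u := by group
  rwa [mul_inv_eq_iff_eq_mul] at h5

/-- **(3.4), the core**: `T` a Sylow 2-subgroup of `N = C_G(n)` centralising `a`, `U = ⟨n, a ^ N⟩`. -/
theorem dn_centralizes [Finite G] {a : G} (hn : n * n = 1) {T : Subgroup G} (hT : IsPGroup 2 T)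
    (hTN : T ≤ centralizer ({n} : Set G)) (hd : ¬ 2 ∣ T.relIndex (centralizer ({n} : Set G)))
    (ha : ∀ t ∈ T, t * a = a * t) {g : G} (hg : Dn n (UU n a) g) {u : G} (hu : u ∈ UU n a) :
    g * u = u * g := by
  set N := centralizer ({n} : Set G) with hN
  have hmN : ∀ {x : G}, x ∈ N ↔ x * n = n * x := fun {x} => by
    rw [hN, mem_centralizer_singleton_iff]
  have hnU : n ∈ UU n a := self_mem_UU n a
  set D := DD n (UU n a) hn with hD
  have hDm : ∀ {x : G}, x ∈ D ↔ Dn n (UU n a) x := Iff.rfl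
  have hDN : D ≤ N := fun x hx => hmN.2 (hDm.1 hx).1
  -- `D` is normalised by `N`
  have hDn : ∀ x ∈ N, ∀ d ∈ D, x * d * x⁻¹ ∈ D := by
    intro x hx d hdD
    have hxn : x * n * x⁻¹ = n := by rw [hmN.1 hx]; group
    refine hDm.2 (.of ?_ fun w hw => ?_)
    · exact hmN.1 (mul_mem (mul_mem hx (hDN hdD)) (inv_mem hx))
    · have h1 : x⁻¹ * w * x ∈ UU n a := by
        have := UU_norm (y := a) (hmN.1 (inv_mem hx)) hw
        rwa [inv_inv] at this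
      have e : x * d * x⁻¹ * w * (x * d * x⁻¹)⁻¹ = x * (d * (x⁻¹ * w * x) * d⁻¹) * x⁻¹ := by group
      rw [e]
      rcases (hDm.1 hdD).eq h1 with h2 | h2
      · left; rw [h2]; group
      · right; rw [h2]
        calc x * (n * (x⁻¹ * w * x)) * x⁻¹ = (x * n * x⁻¹) * w := by group
          _ = n * w := by rw [hxn]
  -- `E = D ⊓ T`
  set E := D ⊓ T with hE
  have hEp : IsPGroup 2 E := hT.to_le inf_le_right
  have hmax : ∀ U : Subgroup G, IsPGroup 2 U → E ≤ U → U ≤ D → U ≤ E := by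
    intro U hU hEU hUD
    obtain ⟨c, hc, hcT⟩ := exists_conj_le_cw hT hd hU (hUD.trans hDN)
    have h1 : cj c U ≤ E := by
      rintro _ ⟨x, hx, rfl⟩
      exact mem_inf.2 ⟨hDn c hc x (hUD hx), hcT x hx⟩
    have h2 : Nat.card U ≤ Nat.card E := by
      rw [← card_cj c U]
      exact card_le_of_le h1
    rw [Subgroup.eq_of_le_of_card_ge hEU h2]
  -- Sylow in `D`
  have hsyl : ∀ X : Subgroup G, IsPGroup 2 X → X ≤ D → ∃ c ∈ D, cj c X ≤ E := by
    have : Fact (Nat.Prime 2) := ⟨Nat.prime_two⟩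
    intro X hX hXD
    have hX' : IsPGroup 2 (X.subgroupOf D) := hX.comap_subtype
    have hE' : IsPGroup 2 (E.subgroupOf D) := hEp.comap_subtype
    obtain ⟨S1, hS1⟩ := hX'.exists_le_sylow
    obtain ⟨S2, hS2⟩ := hE'.exists_le_sylow
    have hS2T : ((S2 : Subgroup D).map D.subtype) ≤ E := by
      refine hmax _ (S2.isPGroup'.map _) ?_ ?_
      · intro x hx
        exact ⟨⟨x, (mem_inf.1 hx).1⟩, hS2 (mem_subgroupOf.2 hx), rfl⟩
      · rintro _ ⟨x, -, rfl⟩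
        exact x.2
    obtain ⟨c, hc⟩ := MulAction.exists_smul_eq D S1 S2
    refine ⟨c, c.2, ?_⟩
    rintro _ ⟨x, hx, rfl⟩
    have h1 : (⟨x, hXD hx⟩ : D) ∈ (S1 : Subgroup D) := hS1 (mem_subgroupOf.2 hx)
    have h2 : c * ⟨x, hXD hx⟩ * c⁻¹ ∈ ((c • S1 : Sylow 2 D) : Subgroup D) := by
      rw [Sylow.coe_subgroup_smul]
      exact Subgroup.smul_mem_pointwise_smul _ (MulAut.conj c) _ h1
    rw [hc] at h2
    exact hS2T ⟨_, h2, rfl⟩
  -- `D = E C`
  set C := centralizer (UU n a : Set G) with hC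
  have hCm : ∀ {x : G}, x ∈ C ↔ ∀ w ∈ UU n a, x * w = w * x := by
    intro x
    rw [hC, mem_centralizer_iff]
    exact ⟨fun h w hw => (h w hw).symm, fun h w hw => (h w hw).symm⟩
  have hdec : ∀ d ∈ D, ∃ e ∈ E, ∃ c ∈ C, d = e * c := by
    intro d hdD
    obtain ⟨k, m, hm, ho⟩ := Nat.exists_eq_two_pow_mul_odd (orderOf_pos d).ne'
    obtain ⟨j, hj⟩ := hm
    have hx : IsPGroup 2 (zpowers (d ^ m)) := by
      rintro ⟨_, i, rfl⟩
      refine ⟨k, Subtype.ext ?_⟩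
      change ((d ^ m) ^ i) ^ 2 ^ k = 1
      rw [← zpow_natCast, ← zpow_mul, mul_comm, zpow_mul, zpow_natCast, ← pow_mul, mul_comm m, ← ho,
        pow_orderOf_eq_one, one_zpow]
    obtain ⟨y, hy, hyE⟩ := hsyl _ hx (by rw [zpowers_le]; exact pow_mem hdD m)
    have h1 : y * d ^ m * y⁻¹ ∈ E := hyE ⟨_, mem_zpowers _, rfl⟩
    have h2 : (y * d ^ m * y⁻¹)⁻¹ * d ^ m ∈ C := by
      rw [hCm]
      intro w hw
      have h3 := Dn.comm hn hnU (hDm.1 hy) (hDm.1 (inv_mem (pow_mem hdD m))) hw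
      have e : (y * d ^ m * y⁻¹)⁻¹ * d ^ m = y * (d ^ m)⁻¹ * y⁻¹ * (d ^ m)⁻¹⁻¹ := by group
      rw [e]
      exact h3
    have h3 : d ^ (2 * j) ∈ C := by
      rw [pow_mul, pow_two]
      refine pow_mem ?_ j
      rw [hCm]
      exact fun w hw => Dn.sq hn (hDm.1 hdD) hw
    refine ⟨_, h1, _, mul_mem h2 (inv_mem h3), ?_⟩
    have e : d ^ m = d * d ^ (2 * j) := by rw [hj, pow_succ']
    calc d = d ^ m * (d ^ (2 * j))⁻¹ := by rw [e]; group
      _ = _ := by group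
  -- `E` centralises `x a x⁻¹`
  have hEa : ∀ x : G, x * n = n * x → ∀ e ∈ E, e * (x * a * x⁻¹) = x * a * x⁻¹ * e := by
    intro x hx
    have hxN : x ∈ N := hmN.2 hx
    obtain ⟨d, hdD, hdE⟩ := hsyl (cj x E) (isPGroup_cj x hEp) (by
      rintro _ ⟨w, hw, rfl⟩
      exact hDn x hxN w (mem_inf.1 hw).1)
    obtain ⟨e0, he0, c, hc, hdc⟩ := hdec d hdD
    have h1 : cj (c * x) E ≤ E := by
      have h2 : cj (c * x) E = cj e0⁻¹ (cj d (cj x E)) := by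
        rw [cj_cj, cj_cj, hdc]
        congr 1
        group
      rw [h2]
      refine (cj_mono _ hdE).trans ?_
      rw [cj_eq_of_mem_normalizer (Subgroup.le_normalizer (inv_mem he0))]
    have h2 : cj (c * x) E = E := Subgroup.eq_of_le_of_card_ge h1 (by rw [card_cj])
    intro e he
    rw [← h2] at he
    obtain ⟨e', he', rfl⟩ := he
    have h3 : e' * a = a * e' := ha _ (mem_inf.1 he').2
    have h4 : c * (x * a * x⁻¹) = x * a * x⁻¹ * c := hCm.1 hc _ (mem_UU hx)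
    have h5 : x * a * x⁻¹ = c * x * a * (c * x)⁻¹ := by
      calc x * a * x⁻¹ = (x * a * x⁻¹ * c) * c⁻¹ := by group
        _ = c * (x * a * x⁻¹) * c⁻¹ := by rw [h4]
        _ = _ := by group
    change (c * x * e' * (c * x)⁻¹) * (x * a * x⁻¹) = x * a * x⁻¹ * (c * x * e' * (c * x)⁻¹)
    rw [h5]
    calc (c * x * e' * (c * x)⁻¹) * (c * x * a * (c * x)⁻¹) = c * x * (e' * a) * (c * x)⁻¹ := by group
      _ = c * x * (a * e') * (c * x)⁻¹ := by rw [h3]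
      _ = _ := by group
  have hEC : E ≤ C := by
    intro e he
    have h1 : UU n a ≤ centralizer ({e} : Set G) := by
      refine UU_le ?_ fun x hx => ?_
      · rw [mem_centralizer_singleton_iff]
        exact (hmN.1 (hDN (mem_inf.1 he).1)).symm
      · rw [mem_centralizer_singleton_iff]
        exact (hEa x hx e he).symm
    rw [hCm]
    intro w hw
    exact (mem_centralizer_singleton_iff.1 (h1 hw)).symm
  obtain ⟨e, he, c, hc, h1⟩ := hdec g hg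
  have h2 : g ∈ C := by rw [h1]; exact mul_mem (hEC he) hc
  exact hCm.1 h2 u hu

end core

namespace Base

variable [Finite G] {S : Sylow 2 G} {V₁ V₂ L₁ L₂ : Subgroup G} {M₁ : FiveMod V₁ L₁}
  {M₂ : FiveMod V₂ L₂} {h : G} (b : Base S M₁ M₂ h)
include b

/-- **(1.5)** `[C_G(U_n), W_a] ≤ Q_n` -/
theorem cw {c x : G} (hc : ∀ u ∈ UU (M₁.e nn) (M₁.e aa), c * u = u * c)
    (hx : x ∈ WW V₁ V₂ (M₁.e aa)) : c * x * c⁻¹ * x⁻¹ ∈ Q (M₁.e nn) := by
  have hcC : c ∈ centralizer (UU (M₁.e nn) (M₁.e aa) : Set G) :=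
    mem_centralizer_iff.2 fun u hu => (hc u hu).symm
  refine b.WWa_inf_centralizer_le (mem_inf.2 ⟨?_, ?_⟩)
  · exact mul_mem (WW_norm (hc _ (mem_UU_self _ _)) hx) (inv_mem hx)
  · have h1 : x ∈ normalizer (centralizer (UU (M₁.e nn) (M₁.e aa) : Set G) : Set G) :=
      b.normalizer_centralizer_UU (b.Qa_le_T (b.WWa_le_Qa hx)).2
    have h2 := (mem_normalizer_iff.1 h1 _).1 (inv_mem hcC)
    have e : c * x * c⁻¹ * x⁻¹ = c * (x * c⁻¹ * x⁻¹) := by group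
    rw [e]
    exact mul_mem hcC h2

/-- **(3.4)** `g ∈ C_G(n)`, `[g, U_n] ≤ ⟨n⟩` ⟹ `[g, U_n] = 1`. -/
theorem faith {g : G} (hgn : g * M₁.e nn = M₁.e nn * g)
    (hg : ∀ u ∈ UU (M₁.e nn) (M₁.e aa), g * u * g⁻¹ * u⁻¹ = 1 ∨ g * u * g⁻¹ * u⁻¹ = M₁.e nn)
    {u : G} (hu : u ∈ UU (M₁.e nn) (M₁.e aa)) : g * u = u * g :=
  dn_centralizes (n := M₁.e nn) (M₁.e_sq nn) (S.isPGroup'.to_le inf_le_left) inf_le_right b.not_dvd
    (fun _ ht => b.dih₁.T_comm_a ht) ⟨hgn, hg⟩ hu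

end Base

end Cfsg.Agent.Omega.TTn

end

section


/-!
# `CwStd`, `FaithStd` from `Base S M M h`
-/

set_option autoImplicit false

namespace Cfsg.Agent.Omega.TTn.Di

open Subgroup Cfsg Cfsg.Agent.ZN
open Cfsg.Agent.Omega.S5.Mod Cfsg.Agent.Omega.S5.TT

universe u

variable {G : Type u} [Group G] [Finite G] {S : Sylow 2 G} {V L : Subgroup G} {M : FiveMod V L} {h : G}

theorem cwStd (b : Base S M M h) : CwStd M := by
  intro c hc x hx
  rw [QP01]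
  rw [WP23] at hx
  exact b.cw (fun u hu => hc u (by rwa [UP_zero_one b])) hx

theorem faithStd (b : Base S M M h) : FaithStd M := by
  intro g hg h1 u hu
  rw [UP_zero_one b] at hu
  refine b.faith ?_ (fun v hv => ?_) hu
  · exact (mem_centralizer_iff.1 hg _ (M.e_mem _)).symm
  · have h2 := h1 v (by rwa [UP_zero_one b])
    rw [sv01] at h2
    exact h2

/-- The frame of #14261, given (2.4) only. -/
theorem fr_of_core (b : Base S M M h) (hcore : CoreStd M) :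
    ∃ w, Fr (sv M) (UP M) (WP M) (QP M) w (centralizer (V : Set G)) :=
  fr_of b (cwStd b) hcore (faithStd b)

end Cfsg.Agent.Omega.TTn.Di

end

section


/-!
# (2.4) of #14261 for the standard labels: `CoreStd M` from `Base S M M h`
-/

set_option autoImplicit false
set_option linter.unusedSectionVars false

namespace Cfsg.Agent.Omega.TTn.Di

open Subgroup Cfsg Cfsg.Agent.ZN
open Cfsg.Agent.Omega.S5.Mod Cfsg.Agent.Omega.S5.TT

universe u

variable {G : Type u} [Group G] [Finite G] {S : Sylow 2 G} {V L : Subgroup G} {M : FiveMod V L} {h : G}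

theorem UP_two_three_le (b : Base S M M h) : UU (M.e aa) (M.e nn) ≤ UP M 2 3 := by
  intro y hy
  obtain ⟨k, -, hk⟩ := b.dih₁.exists_swap
  have h1 : k⁻¹ * M.e aa * k⁻¹⁻¹ = M.e nn := by rw [← Dih.tt_n hk]; group
  have h2 : k⁻¹ * M.e nn * k⁻¹⁻¹ = M.e aa := by rw [← Dih.tt_a hk]; group
  have h3 := UU_conj k⁻¹ hy
  rw [h1, h2, ← UP_zero_one b] at h3
  have h4 := UP_conj hk h3
  have h5 : k * (k⁻¹ * y * k⁻¹⁻¹) * k⁻¹ = y := by group
  rw [h5] at h4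
  exact h4

/-- (2.4) -/
theorem coreStd (b : Base S M M h) : CoreStd M := by
  intro c hc h1 h2
  obtain ⟨p, p0, p1⟩ := exists_perm2 (i := (1 : Fin 5)) (j := 2) (by decide)
  obtain ⟨l, hlL, hl⟩ := M.exists_lift p
  have ec : c = l * (l⁻¹ * c * l) * l⁻¹ := by group
  have hf : l⁻¹ * c * l ∈ WW V V (M.e nn) := by
    rw [← WP01, ← WP_conj_iff hl, ← ec, p0, p1]
    exact hc
  rw [QP01, ec]
  refine b.core_std hlL hf (fun y hy => ?_) fun y hy => ?_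
  · rw [← ec]
    exact h1 y (by rw [UP_zero_one b]; exact hy)
  · rw [← ec]
    exact h2 y (UP_two_three_le b hy)

end Cfsg.Agent.Omega.TTn.Di

end
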