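import Cfsg.Agent.Mrg.Omega.S5.Syl

section


/-!
# T-T with two modules over the same Sylow 2-subgroup, `n` not 2-central: reduction to one module

`M₁ : FiveMod V₁ L₁`, `M₂ : FiveMod V₂ L₂`, both with the same `n = {0 1}` and `a = {2 3}`; `O₂(C_G(n))` contains `V₁`
and `V₂` and acts on both inside `⟨(0 1)⟩`; some element of `V₂ ^ h`, `h ∈ C_G(n)`, acts as `(0 1)` on `V₁` and
conversely; `x` normalises `V₁`, `V₂` and swaps `n` and `a`; `O₂(C_G(V₂))` acts on `V₁` inside `⟨(0 1), (2 3)⟩`.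

LEMMA TWO (`Duo.not_comm`): `⟨V₂ ^ C_G(n)⟩` is not abelian. So (`Duo.exists_one`) some `V₂ ^ k`, `k ∈ C_G(n)`, and
`V₂` act on each other as `⟨(0 1)⟩`: a transvection pair of ONE module, with the same `n`.

Proof (K-free). Suppose `W = ⟨V₂ ^ C_G(n)⟩` is abelian, `R = O₂(C_G(V₂))`, `b = {2 4} ∈ V₁`, `U = ⟨a ^ C_G(n)⟩`.
Then `W, W ^ x, U ≤ R` and `[b, R] = ⟨a⟩`. Take `g ∈ L₂` mapping `a`, `n` to `c = {0 4}`, `a` and `f = b ^ g`:
`[f, R] = ⟨c⟩`, so `[f, U] ≤ U ∩ ⟨c⟩ = 1` and `f ∈ O₂(C_G(a)) ∩ C(U) ≤ O₂(C_G(n))`. An element `w` of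
`⟨V₁ ^ C_G(n)⟩` inducing `(0 1)` on `V₂` maps `f` into `f ⟨n⟩` and `⟨c⟩ = [f ⟨n⟩, R]` to `⟨c ^ w⟩ ≠ ⟨c⟩`, a
contradiction.
-/

set_option autoImplicit false

namespace Cfsg.Agent.Omega.TTn.TwoTypes

open Subgroup Cfsg Cfsg.Agent.ZN Cfsg.Agent.ZN.ChoiceBase
open Cfsg.Agent.Omega.S5.Mod Cfsg.Agent.Omega.S5.TT
open Cfsg.Agent.MinSimple.VModule (o2_isPGroup le_o2 o2_le le_normalizer_o2 o2_le_of_sylow)

universe u

variable {G : Type u} [Group G]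

/-- `{2 4}` -/
def bb : Vec := ![0, 0, 1, 0, 1]
/-- `{0 4}` -/
def cc : Vec := ![1, 0, 0, 0, 1]
/-- `{0 1} → {2 3} → {0 4}` -/
def sg : Equiv.Perm (Fin 5) := Equiv.swap 0 2 * (Equiv.swap 1 3 * Equiv.swap 3 4)

/-- `⟨V^{C_G(c)}⟩` -/
def W (V : Subgroup G) (c : G) : Subgroup G :=
  closure {y | ∃ g, g * c = c * g ∧ ∃ v ∈ V, y = g * v * g⁻¹}

theorem mem_W {V : Subgroup G} {c g v : G} (hg : g * c = c * g) (hv : v ∈ V) : g * v * g⁻¹ ∈ W V c :=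
  subset_closure ⟨g, hg, v, hv, rfl⟩

theorem le_W (V : Subgroup G) (c : G) : V ≤ W V c := fun v hv => by
  have := mem_W (V := V) (c := c) (g := 1) (v := v) (by rw [one_mul, mul_one]) hv
  simpa using this

theorem W_le {V D : Subgroup G} {c : G} (h1 : V ≤ D)
    (h2 : ∀ g, g * c = c * g → ∀ d ∈ D, g * d * g⁻¹ ∈ D) : W V c ≤ D := by
  rw [W, closure_le]
  rintro _ ⟨g, hg, v, hv, rfl⟩
  exact h2 g hg v (h1 hv)

theorem W_conj {V V' : Subgroup G} {c l w : G} (hl : ∀ v ∈ V, l * v * l⁻¹ ∈ V') (hw : w ∈ W V c) :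
    l * w * l⁻¹ ∈ W V' (l * c * l⁻¹) := by
  induction hw using closure_induction with
  | mem y hy =>
    obtain ⟨g, hg, v, hv, rfl⟩ := hy
    have h1 : l * (g * v * g⁻¹) * l⁻¹ = (l * g * l⁻¹) * (l * v * l⁻¹) * (l * g * l⁻¹)⁻¹ := by group
    rw [h1]
    refine mem_W ?_ (hl v hv)
    calc l * g * l⁻¹ * (l * c * l⁻¹) = l * (g * c) * l⁻¹ := by group
      _ = l * (c * g) * l⁻¹ := by rw [hg]
      _ = l * c * l⁻¹ * (l * g * l⁻¹) := by group
  | one => simp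
  | mul a b _ _ ha hb =>
    have h1 : l * (a * b) * l⁻¹ = (l * a * l⁻¹) * (l * b * l⁻¹) := by group
    rw [h1]; exact mul_mem ha hb
  | inv a _ ha =>
    have h1 : l * a⁻¹ * l⁻¹ = (l * a * l⁻¹)⁻¹ := by group
    rw [h1]; exact inv_mem ha

theorem W_norm {V : Subgroup G} {c g w : G} (hg : g * c = c * g) (hw : w ∈ W V c) : g * w * g⁻¹ ∈ W V c := by
  induction hw using closure_induction with
  | mem y hy =>
    obtain ⟨k, hk, v, hv, rfl⟩ := hy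
    have h1 : g * (k * v * k⁻¹) * g⁻¹ = (g * k) * v * (g * k)⁻¹ := by group
    rw [h1]
    refine mem_W ?_ hv
    rw [mul_assoc, hk, ← mul_assoc, hg, mul_assoc]
  | one => simp
  | mul a b _ _ ha hb =>
    have h1 : g * (a * b) * g⁻¹ = (g * a * g⁻¹) * (g * b * g⁻¹) := by group
    rw [h1]; exact mul_mem ha hb
  | inv a _ ha =>
    have h1 : g * a⁻¹ * g⁻¹ = (g * a * g⁻¹)⁻¹ := by group
    rw [h1]; exact inv_mem ha

theorem mem_C {x y : G} : x ∈ centralizer ({y} : Set G) ↔ x * y = y * x :=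
  mem_centralizer_singleton_iff

/-- `g ∈ N_G(V)` normalises `O₂(C_G(V))`. -/
theorem conj_R {V : Subgroup G} {g r : G} (hg : g ∈ normalizer (V : Set G))
    (hr : r ∈ o2 (centralizer (V : Set G))) : g * r * g⁻¹ ∈ o2 (centralizer (V : Set G)) := by
  have h1 : cj g (o2 (centralizer (V : Set G))) = o2 (centralizer (V : Set G)) := by
    rw [← pCore_cj]
    congr 1
    have := cj_centralizer g V
    rw [cj_eq_of_mem_normalizer hg] at this
    exact this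
  rw [← h1]
  exact ⟨r, hr, rfl⟩

/-- `g` normalising `X` normalises `O₂(X)`. -/
theorem conj_o2 {X : Subgroup G} {g : G} (hg : g ∈ normalizer (X : Set G)) :
    g ∈ normalizer (o2 X : Set G) := by
  rw [mem_normalizer_iff]
  have h1 : cj g (o2 X) = o2 X := by rw [← pCore_cj, cj_eq_of_mem_normalizer hg]
  intro y
  constructor
  · intro hy
    rw [← h1]
    exact ⟨y, hy, rfl⟩
  · intro hy
    rw [← h1, mem_cj] at hy
    have h2 : g⁻¹ * (g * y * g⁻¹) * g = y := by group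
    rwa [h2] at hy

theorem inv_comm {g c : G} (hg : g * c = c * g) : g⁻¹ * c = c * g⁻¹ := by
  have := congrArg (fun t => g⁻¹ * t * g⁻¹) hg
  simpa [mul_assoc] using this.symm

theorem ttp_bb : ∀ p : Equiv.Perm (Fin 5), TTp p →
    ((bb ∘ p.symm + bb = 0 ∨ bb ∘ p.symm + bb = 1) ∨ (bb ∘ p.symm + bb = aa ∨ bb ∘ p.symm + bb = aa + 1)) := by
  intro p hp
  rcases hp with rfl | rfl | rfl | rfl <;> decide

/-- an element of `⟨(0 1), (2 3)⟩` which is not the identity and has commutators in `⟨a⟩` is `(2 3)`: it moves `b`. -/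
theorem ttp_move : ∀ p : Equiv.Perm (Fin 5), TTp p → p ≠ 1 →
    (∀ y : Vec, (y ∘ p.symm + y = 0 ∨ y ∘ p.symm + y = 1) ∨ (y ∘ p.symm + y = aa ∨ y ∘ p.symm + y = aa + 1)) →
    bb ∘ p.symm + bb = aa ∨ bb ∘ p.symm + bb = aa + 1 := by
  intro p hp hp1 h
  rcases hp with rfl | rfl | rfl | rfl
  · exact absurd rfl hp1
  · exact absurd (h ![0, 1, 1, 0, 0]) (by decide)
  · decide
  · exact absurd (h ![0, 1, 0, 0, 1]) (by decide)

/-- The configuration: two modules with the same `n` and `a`. -/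
structure Duo {V₁ L₁ V₂ L₂ : Subgroup G} (M₁ : FiveMod V₁ L₁) (M₂ : FiveMod V₂ L₂) (x h : G) : Prop where
  en : M₂.e nn = M₁.e nn
  ea : M₂.e aa = M₁.e aa
  q₁ : ∀ q ∈ o2 (centralizer ({M₁.e nn} : Set G)), M₁.Ind q 1 ∨ M₁.Ind q (Equiv.swap 0 1)
  q₂ : ∀ q ∈ o2 (centralizer ({M₁.e nn} : Set G)), M₂.Ind q 1 ∨ M₂.Ind q (Equiv.swap 0 1)
  v₁ : V₁ ≤ o2 (centralizer ({M₁.e nn} : Set G))
  v₂ : V₂ ≤ o2 (centralizer ({M₁.e nn} : Set G))
  r₁ : ∀ r ∈ o2 (centralizer (V₂ : Set G)), ∃ p, TTp p ∧ M₁.Ind r p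
  xn : x * M₁.e nn * x⁻¹ = M₁.e aa
  x₁ : x ∈ normalizer (V₁ : Set G)
  x₂ : x ∈ normalizer (V₂ : Set G)
  hn : h * M₁.e nn = M₁.e nn * h
  act : ∃ v ∈ V₂, M₁.Ind (h * v * h⁻¹) (Equiv.swap 0 1)
  act' : ∃ v ∈ V₁, M₂.Ind (h⁻¹ * v * h) (Equiv.swap 0 1)

namespace Duo

variable {V₁ L₁ V₂ L₂ : Subgroup G} {M₁ : FiveMod V₁ L₁} {M₂ : FiveMod V₂ L₂} {x h : G}

theorem swap_one_or (y : Vec) {V L : Subgroup G} {M : FiveMod V L} {q : G}
    (hq : M.Ind q 1 ∨ M.Ind q (Equiv.swap 0 1)) :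
    q * M.e y * q⁻¹ * (M.e y)⁻¹ = 1 ∨ q * M.e y * q⁻¹ * (M.e y)⁻¹ = M.e nn := by
  rcases hq with hq | hq
  · left
    rw [hq.comm_eq, M.ker]
    left
    exact add_self y
  · rw [hq.comm_eq]
    rcases swap_comm y with h1 | h1
    · exact Or.inl ((M.ker _).2 h1)
    · exact Or.inr (M.e_eq_iff.2 h1)

variable (t : Duo M₁ M₂ x h)
include t

theorem aQ {q : G} (hq : q ∈ o2 (centralizer ({M₁.e nn} : Set G))) : q * M₁.e aa = M₁.e aa * q := by
  rcases t.q₁ q hq with h1 | h1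
  · exact (h1.commute_iff _).2 (Or.inl (by decide))
  · exact (h1.commute_iff _).2 (Or.inl (by decide))

theorem comm₁ {q v : G} (hq : q ∈ o2 (centralizer ({M₁.e nn} : Set G))) (hv : v ∈ V₁) :
    q * v * q⁻¹ * v⁻¹ = 1 ∨ q * v * q⁻¹ * v⁻¹ = M₁.e nn := by
  obtain ⟨y, rfl⟩ := (M₁.mem_iff v).1 hv
  exact swap_one_or y (t.q₁ q hq)

theorem comm₂ {q v : G} (hq : q ∈ o2 (centralizer ({M₁.e nn} : Set G))) (hv : v ∈ V₂) :
    q * v * q⁻¹ * v⁻¹ = 1 ∨ q * v * q⁻¹ * v⁻¹ = M₁.e nn := by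
  obtain ⟨y, rfl⟩ := (M₂.mem_iff v).1 hv
  rw [← t.en]
  exact swap_one_or y (t.q₂ q hq)

/-- `[V₁, V₂] = 1` -/
theorem comm_V {u v : G} (hu : u ∈ V₁) (hv : v ∈ V₂) : u * v = v * u := by
  have h1 := t.comm₂ (t.v₁ hu) hv
  have hu' : x⁻¹ * u * x ∈ V₁ := by
    have := (mem_normalizer_iff.1 (inv_mem t.x₁) u).1 hu
    rwa [inv_inv] at this
  have hv' : x⁻¹ * v * x ∈ V₂ := by
    have := (mem_normalizer_iff.1 (inv_mem t.x₂) v).1 hv
    rwa [inv_inv] at this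
  have h2 := t.comm₂ (t.v₁ hu') hv'
  have h3 : u * v * u⁻¹ * v⁻¹ =
      x * (x⁻¹ * u * x * (x⁻¹ * v * x) * (x⁻¹ * u * x)⁻¹ * (x⁻¹ * v * x)⁻¹) * x⁻¹ := by group
  have h4 : u * v * u⁻¹ * v⁻¹ = 1 ∨ u * v * u⁻¹ * v⁻¹ = M₁.e aa := by
    rcases h2 with h2 | h2
    · left; rw [h3, h2]; group
    · right; rw [h3, h2, t.xn]
  have h5 : u * v * u⁻¹ * v⁻¹ = 1 := by
    rcases h1 with h1 | h1
    · exact h1
    rcases h4 with h4 | h4
    · exact h4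
    exact absurd (h1.symm.trans h4) (Pos.n_ne_a M₁)
  exact eq_of_mul_inv_eq_one (by rw [← h5]; group)

/-- LEMMA TWO. -/
theorem not_comm [Finite G] : ¬ ∀ u ∈ W V₂ (M₁.e nn), ∀ v ∈ W V₂ (M₁.e nn), u * v = v * u := by
  intro hab
  set n := M₁.e nn with hn
  set a := M₁.e aa with ha
  set N := centralizer ({n} : Set G) with hN
  set Q := o2 N with hQ
  set Qa := o2 (centralizer ({a} : Set G)) with hQa
  set R := o2 (centralizer (V₂ : Set G)) with hR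
  have hna : cj x Q = Qa := by rw [hQ, hN, o2_conj x n, t.xn]
  -- `V₂ ∋ n, a`
  have hnV : n ∈ V₂ := by rw [hn, ← t.en]; exact M₂.e_mem _
  have haV : a ∈ V₂ := by rw [ha, ← t.ea]; exact M₂.e_mem _
  have hCn : ∀ g ∈ centralizer (V₂ : Set G), g * n = n * g := fun g hg =>
    (mem_centralizer_iff.1 hg n hnV).symm
  have hCa : ∀ g ∈ centralizer (V₂ : Set G), g * a = a * g := fun g hg =>
    (mem_centralizer_iff.1 hg a haV).symm
  have hV₂a : V₂ ≤ Qa := by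
    rw [← hna]
    intro v hv
    rw [mem_cj]
    refine t.v₂ ?_
    have := (mem_normalizer_iff.1 (inv_mem t.x₂) v).1 hv
    rwa [inv_inv] at this
  -- `W V₂ a ≤ R`
  have hWa : W V₂ a ≤ R := by
    have h1 : ∀ w ∈ W V₂ a, x⁻¹ * w * x ∈ W V₂ n := by
      intro w hw
      have h2 := W_conj (V' := V₂) (l := x⁻¹) (fun v hv =>
        (mem_normalizer_iff.1 (inv_mem t.x₂) v).1 hv) hw
      have h3 : x⁻¹ * a * x⁻¹⁻¹ = n := by rw [ha, ← t.xn, hn]; group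
      rw [h3, inv_inv] at h2
      exact h2
    refine le_o2 ?_ ?_ ?_
    · intro w hw
      rw [mem_centralizer_iff]
      intro v hv
      have hv' : x⁻¹ * v * x ∈ V₂ := by
        have := (mem_normalizer_iff.1 (inv_mem t.x₂) v).1 hv
        rwa [inv_inv] at this
      have h2 := hab _ (le_W _ _ hv') _ (h1 w hw)
      calc v * w = x * ((x⁻¹ * v * x) * (x⁻¹ * w * x)) * x⁻¹ := by group
        _ = x * ((x⁻¹ * w * x) * (x⁻¹ * v * x)) * x⁻¹ := by rw [h2]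
        _ = w * v := by group
    · refine (o2_isPGroup (centralizer ({a} : Set G))).to_le (W_le hV₂a fun g hg d hd => ?_)
      exact (mem_normalizer_iff.1 (le_normalizer_o2 _ (mem_C.2 hg)) d).1 hd
    · intro g hg
      refine mem_normalizer_of_cj_le ?_
      rintro _ ⟨w, hw, rfl⟩
      exact W_norm (hCa g hg) hw
  -- an element of `R` moving `b`
  obtain ⟨r₀, hr₀, hb₀⟩ : ∃ r ∈ R, r * M₁.e bb * r⁻¹ * (M₁.e bb)⁻¹ = a := by
    obtain ⟨v, hv, hi⟩ := t.act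
    have hw : h * v * h⁻¹ ∈ W V₂ n := mem_W t.hn hv
    have hwQ : h * v * h⁻¹ ∈ Q :=
      (mem_normalizer_iff.1 (le_normalizer_o2 _ (mem_C.2 t.hn)) v).1 (t.v₂ hv)
    have hw' : x * (h * v * h⁻¹) * x⁻¹ ∈ W V₂ a := by
      have h2 := W_conj (V' := V₂) (l := x) (fun v hv => (mem_normalizer_iff.1 t.x₂ v).1 hv) hw
      rwa [t.xn] at h2
    refine ⟨_, hWa hw', ?_⟩
    obtain ⟨p, hp, hpi⟩ := t.r₁ _ (hWa hw')
    have hp1 : p ≠ 1 := by
      rintro rfl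
      rw [FiveMod.ind_one_iff, mem_centralizer_iff] at hpi
      have h3 : h * v * h⁻¹ ∈ centralizer (V₁ : Set G) := by
        rw [mem_centralizer_iff]
        intro u hu
        have h4 := hpi _ ((mem_normalizer_iff.1 t.x₁ u).1 hu)
        calc u * (h * v * h⁻¹) = x⁻¹ * ((x * u * x⁻¹) * (x * (h * v * h⁻¹) * x⁻¹)) * x := by group
          _ = x⁻¹ * ((x * (h * v * h⁻¹) * x⁻¹) * (x * u * x⁻¹)) * x := by rw [h4]
          _ = h * v * h⁻¹ * u := by group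
      have h5 := (FiveMod.ind_one_iff (M := M₁)).2 h3
      exact absurd (FiveMod.Ind.unique h5 hi) (by decide)
    rw [hpi.comm_eq, ha, M₁.e_eq_iff]
    refine ttp_move p hp hp1 fun y => ?_
    have h6 : x * (h * v * h⁻¹) * x⁻¹ * M₁.e y * (x * (h * v * h⁻¹) * x⁻¹)⁻¹ * (M₁.e y)⁻¹ = 1 ∨
        x * (h * v * h⁻¹) * x⁻¹ * M₁.e y * (x * (h * v * h⁻¹) * x⁻¹)⁻¹ * (M₁.e y)⁻¹ = M₁.e aa := by
      have hy' : x⁻¹ * M₁.e y * x ∈ V₁ := by
        have := (mem_normalizer_iff.1 (inv_mem t.x₁) _).1 (M₁.e_mem y)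
        rwa [inv_inv] at this
      have h7 : x * (h * v * h⁻¹) * x⁻¹ * M₁.e y * (x * (h * v * h⁻¹) * x⁻¹)⁻¹ * (M₁.e y)⁻¹ =
          x * ((h * v * h⁻¹) * (x⁻¹ * M₁.e y * x) * (h * v * h⁻¹)⁻¹ * (x⁻¹ * M₁.e y * x)⁻¹) * x⁻¹ := by
        group
      rcases t.comm₁ hwQ hy' with h8 | h8
      · left; rw [h7, h8]; group
      · right; rw [h7, h8, t.xn]
    rw [hpi.comm_eq, M₁.ker, M₁.e_eq_iff] at h6
    exact h6
  -- `[b, R] ≤ ⟨a⟩`
  have hbR : ∀ r ∈ R, r * M₁.e bb * r⁻¹ * (M₁.e bb)⁻¹ = 1 ∨ r * M₁.e bb * r⁻¹ * (M₁.e bb)⁻¹ = a := by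
    intro r hr
    obtain ⟨p, hp, hpi⟩ := t.r₁ r hr
    rw [hpi.comm_eq, M₁.ker, ha, M₁.e_eq_iff]
    exact ttp_bb p hp
  -- `U = ⟨a^N⟩`
  set U := W (zpowers a) n with hU
  have haU : a ∈ U := le_W _ _ (mem_zpowers a)
  have hUQ : U ≤ Q := W_le ((zpowers_le).2 (t.v₁ (M₁.e_mem _))) fun g hg d hd =>
    (mem_normalizer_iff.1 (le_normalizer_o2 _ (mem_C.2 hg)) d).1 hd
  have hUC : U ≤ centralizer (Q : Set G) := by
    refine W_le ((zpowers_le).2 (mem_centralizer_iff.2 fun q hq => t.aQ hq)) fun g hg d hd => ?_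
    rw [mem_centralizer_iff] at hd ⊢
    intro q hq
    have h1 : g⁻¹ * q * g ∈ Q := by
      have := (mem_normalizer_iff.1 (le_normalizer_o2 N (inv_mem (mem_C.2 hg))) q).1 hq
      rwa [inv_inv] at this
    have h2 := hd _ h1
    calc q * (g * d * g⁻¹) = g * ((g⁻¹ * q * g) * d) * g⁻¹ := by group
      _ = g * (d * (g⁻¹ * q * g)) * g⁻¹ := by rw [h2]
      _ = g * d * g⁻¹ * q := by group
  have hUR : U ≤ R := by
    refine le_o2 ?_ ((o2_isPGroup N).to_le hUQ) ?_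
    · intro u hu
      rw [mem_centralizer_iff]
      intro v hv
      exact mem_centralizer_iff.1 (hUC hu) v (t.v₂ hv)
    · intro g hg
      refine mem_normalizer_of_cj_le ?_
      rintro _ ⟨w, hw, rfl⟩
      exact W_norm (hCn g hg) hw
  have hbU : M₁.e bb ∈ U := by
    obtain ⟨y, -, hy⟩ := M₁.exists_lift (Equiv.swap 3 4)
    have hy : M₁.Ind y (Equiv.swap 3 4) := hy
    have h1 : y * n = n * y := (hy.commute_iff _).2 (Or.inl (by decide))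
    have h2 : y * a * y⁻¹ = M₁.e bb := by
      rw [ha, hy, M₁.e_eq_iff]; left; decide
    rw [← h2]
    exact mem_W h1 (mem_zpowers a)
  have hbC : M₁.e bb ∈ centralizer (V₂ : Set G) := by
    rw [mem_centralizer_iff]
    intro v hv
    exact (t.comm_V (M₁.e_mem _) hv).symm
  -- `f = b ^ g`
  obtain ⟨g, -, hg⟩ := M₂.exists_lift sg
  have hg : M₂.Ind g sg := hg
  have hga : g * a * g⁻¹ = M₂.e cc := by
    rw [ha, ← t.ea, hg, M₂.e_eq_iff]; left; decide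
  have hgn : g * n * g⁻¹ = a := by
    rw [hn, ← t.en, hg, ha, ← t.ea, M₂.e_eq_iff]; left; decide
  have hgR : ∀ r ∈ R, g * r * g⁻¹ ∈ R := fun r hr => conj_R hg.mem_normalizer hr
  have hgR' : ∀ r ∈ R, g⁻¹ * r * g ∈ R := fun r hr => by
    have := conj_R (inv_mem hg.mem_normalizer) hr
    rwa [inv_inv] at this
  set f := g * M₁.e bb * g⁻¹ with hf
  set c := M₂.e cc with hc
  have hfR : ∀ r ∈ R, r * f * r⁻¹ * f⁻¹ = 1 ∨ r * f * r⁻¹ * f⁻¹ = c := by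
    intro r hr
    have h1 : r * f * r⁻¹ * f⁻¹ =
        g * ((g⁻¹ * r * g) * M₁.e bb * (g⁻¹ * r * g)⁻¹ * (M₁.e bb)⁻¹) * g⁻¹ := by
      rw [hf]; group
    rcases hbR _ (hgR' r hr) with h2 | h2
    · left; rw [h1, h2]; group
    · right; rw [h1, h2, hga]
  have hfr : (g * r₀ * g⁻¹) * f * (g * r₀ * g⁻¹)⁻¹ * f⁻¹ = c := by
    have h1 : (g * r₀ * g⁻¹) * f * (g * r₀ * g⁻¹)⁻¹ * f⁻¹ =
        g * (r₀ * M₁.e bb * r₀⁻¹ * (M₁.e bb)⁻¹) * g⁻¹ := by
      rw [hf]; group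
    rw [h1, hb₀, hga]
  have hfC : f ∈ centralizer (V₂ : Set G) := by
    rw [mem_centralizer_iff] at hbC ⊢
    intro v hv
    have hv' : g⁻¹ * v * g ∈ V₂ := by
      have := (mem_normalizer_iff.1 (inv_mem hg.mem_normalizer) v).1 hv
      rwa [inv_inv] at this
    have h1 := hbC _ hv'
    calc v * f = g * ((g⁻¹ * v * g) * M₁.e bb) * g⁻¹ := by rw [hf]; group
      _ = g * (M₁.e bb * (g⁻¹ * v * g)) * g⁻¹ := by rw [h1]
      _ = f * v := by rw [hf]; group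
  have hfQa : f ∈ Qa := by
    have h1 : cj g Q = Qa := by rw [hQ, hN, o2_conj g n, hgn]
    rw [← h1]
    exact ⟨_, t.v₁ (M₁.e_mem _), rfl⟩
  -- the element `w` of `⟨V₁^N⟩`
  obtain ⟨v, hv, hw⟩ := t.act'
  set w := h⁻¹ * v * h with hwd
  have hwQ : w ∈ Q := by
    have := (mem_normalizer_iff.1 (le_normalizer_o2 N (inv_mem (mem_C.2 t.hn))) v).1 (t.v₁ hv)
    rwa [inv_inv] at this
  have hwc : w * c * w⁻¹ = M₂.e ![0, 1, 0, 0, 1] := by
    rw [hc, hw, M₂.e_eq_iff]; left; decide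
  -- `c ∉ U`
  have hcU : c ∉ U := by
    intro h1
    have h2 := mem_centralizer_iff.1 (hUC h1) w hwQ
    have h3 : w * c * w⁻¹ = c := by rw [h2, mul_inv_cancel_right]
    rw [hwc, hc, M₂.e_eq_iff] at h3
    exact absurd h3 (by decide)
  -- `f` centralises `U`
  have hfU : ∀ u ∈ U, u * f = f * u := by
    intro u hu
    have h1 : u * f * u⁻¹ * f⁻¹ ∈ U := by
      have h2 : f * u⁻¹ * f⁻¹ ∈ U := W_norm (hCn f hfC) (inv_mem hu)
      have h3 : u * f * u⁻¹ * f⁻¹ = u * (f * u⁻¹ * f⁻¹) := by group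
      rw [h3]; exact mul_mem hu h2
    rcases hfR u (hUR hu) with h2 | h2
    · exact eq_of_mul_inv_eq_one (by rw [← h2]; group)
    · rw [h2] at h1
      exact absurd h1 hcU
  -- `f ∈ Q`
  have hfQ : f ∈ Q := by
    set CN := N ⊓ centralizer (U : Set G) with hCN
    have hCNa : CN ≤ centralizer ({a} : Set G) := fun y hy =>
      mem_C.2 (mem_centralizer_iff.1 (mem_inf.1 hy).2 a haU).symm
    have h1 : Qa ⊓ CN ≤ o2 CN := by
      refine le_o2 inf_le_right ((o2_isPGroup _).to_le inf_le_left) ?_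
      intro y hy
      refine mem_normalizer_of_cj_le ?_
      rintro _ ⟨z, hz, rfl⟩
      exact mem_inf.2 ⟨(mem_normalizer_iff.1 (le_normalizer_o2 _ (hCNa hy)) z).1 (mem_inf.1 hz).1,
        mul_mem (mul_mem hy (mem_inf.1 hz).2) (inv_mem hy)⟩
    have h2 : o2 CN ≤ Q := by
      refine le_o2 ((o2_le _).trans inf_le_left) (o2_isPGroup _) ?_
      intro y hy
      refine conj_o2 (mem_normalizer_of_cj_le ?_)
      rintro _ ⟨z, hz, rfl⟩
      refine mem_inf.2 ⟨mul_mem (mul_mem hy (mem_inf.1 hz).1) (inv_mem hy), ?_⟩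
      rw [mem_centralizer_iff]
      intro u hu
      have h3 : y⁻¹ * u * y ∈ U := by
        have := W_norm (inv_comm (mem_C.1 hy)) hu
        rwa [inv_inv] at this
      have h4 := mem_centralizer_iff.1 (mem_inf.1 hz).2 _ h3
      calc u * (y * z * y⁻¹) = y * ((y⁻¹ * u * y) * z) * y⁻¹ := by group
        _ = y * (z * (y⁻¹ * u * y)) * y⁻¹ := by rw [h4]
        _ = y * z * y⁻¹ * u := by group
    exact h2 (h1 (mem_inf.2 ⟨hfQa, mem_inf.2 ⟨mem_C.2 (hCn f hfC),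
      mem_centralizer_iff.2 fun u hu => hfU u hu⟩⟩))
  -- the contradiction
  have hwf : w * f * w⁻¹ * f⁻¹ = 1 ∨ w * f * w⁻¹ * f⁻¹ = n := by
    have h1 : h * f * h⁻¹ ∈ Q :=
      (mem_normalizer_iff.1 (le_normalizer_o2 N (mem_C.2 t.hn)) f).1 hfQ
    have h2 : w * f * w⁻¹ * f⁻¹ = h⁻¹ * ((h * f * h⁻¹) * v * (h * f * h⁻¹)⁻¹ * v⁻¹)⁻¹ * h := by
      rw [hwd]; group
    rcases t.comm₁ h1 hv with h3 | h3
    · left; rw [h2, h3]; group
    · right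
      have h4 : (M₁.e nn)⁻¹ = n := M₁.e_inv nn
      rw [h2, h3, h4, mul_assoc, ← t.hn, ← mul_assoc, inv_mul_cancel, one_mul]
  have hwR : ∀ r ∈ R, w * r * w⁻¹ ∈ R := fun r hr => conj_R hw.mem_normalizer hr
  set r' := w * (g * r₀ * g⁻¹) * w⁻¹ with hr'
  have hr'R : r' ∈ R := hwR _ (hgR _ hr₀)
  have h1 : r' * (w * f * w⁻¹) * r'⁻¹ * (w * f * w⁻¹)⁻¹ = w * c * w⁻¹ := by
    rw [← hfr, hr']; group
  have hr'n : r' * n = n * r' := hCn r' (o2_le _ hr'R)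
  have h2 : r' * (w * f * w⁻¹) * r'⁻¹ * (w * f * w⁻¹)⁻¹ = r' * f * r'⁻¹ * f⁻¹ := by
    rcases hwf with h3 | h3
    · have h4 : w * f * w⁻¹ = f := mul_inv_eq_one.1 h3
      rw [h4]
    · have h4 : w * f * w⁻¹ = n * f := by rw [← h3]; group
      have h5 : r' * (n * f) * r'⁻¹ * (n * f)⁻¹ = (r' * n) * f * r'⁻¹ * f⁻¹ * n⁻¹ := by group
      have h6 : f * n = n * f := hCn f hfC
      have h7 : n * (r' * f * r'⁻¹ * f⁻¹) * n⁻¹ = r' * f * r'⁻¹ * f⁻¹ := by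
        have h8 : n * (r' * f * r'⁻¹ * f⁻¹) = (r' * f * r'⁻¹ * f⁻¹) * n := by
          have h9 : r'⁻¹ * n = n * r'⁻¹ := inv_comm hr'n
          have h10 : f⁻¹ * n = n * f⁻¹ := inv_comm h6
          calc n * (r' * f * r'⁻¹ * f⁻¹) = (n * r') * f * r'⁻¹ * f⁻¹ := by group
            _ = r' * (n * f) * r'⁻¹ * f⁻¹ := by rw [← hr'n]; group
            _ = r' * f * (n * r'⁻¹) * f⁻¹ := by rw [← h6]; group
            _ = r' * f * r'⁻¹ * (n * f⁻¹) := by rw [← h9]; group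
            _ = (r' * f * r'⁻¹ * f⁻¹) * n := by rw [← h10]; group
        rw [h8, mul_inv_cancel_right]
      calc r' * (w * f * w⁻¹) * r'⁻¹ * (w * f * w⁻¹)⁻¹ = (r' * n) * f * r'⁻¹ * f⁻¹ * n⁻¹ := by
            rw [h4, h5]
        _ = n * (r' * f * r'⁻¹ * f⁻¹) * n⁻¹ := by rw [hr'n]; group
        _ = _ := h7
  have h3 := hfR r' hr'R
  rw [← h2, h1, hwc, M₂.ker, hc, M₂.e_eq_iff] at h3
  exact absurd h3 (by decide)

/-- A transvection pair of the ONE module `V₂`, with the same `n`. -/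
theorem exists_one [Finite G] : ∃ k, k * M₂.e nn = M₂.e nn * k ∧
    (∀ v ∈ cj k V₂, M₂.Ind v 1 ∨ M₂.Ind v (Equiv.swap 0 1)) ∧
    (∃ v ∈ cj k V₂, M₂.Ind v (Equiv.swap 0 1)) ∧
    (∀ v ∈ V₂, (M₂.cj k).Ind v 1 ∨ (M₂.cj k).Ind v (Equiv.swap 0 1)) ∧
    (∃ v ∈ V₂, (M₂.cj k).Ind v (Equiv.swap 0 1)) := by
  set n := M₁.e nn with hn
  set N := centralizer ({n} : Set G) with hN
  set Q := o2 N with hQ
  have hQ1 : ∀ g, g * n = n * g → ∀ q ∈ Q, g * q * g⁻¹ ∈ Q := fun g hg q hq =>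
    (mem_normalizer_iff.1 (le_normalizer_o2 N (mem_C.2 hg)) q).1 hq
  obtain ⟨k, hk, v, hv, u, hu, hne⟩ : ∃ k, k * n = n * k ∧ ∃ v ∈ V₂, ∃ u ∈ V₂,
      (k * v * k⁻¹) * u ≠ u * (k * v * k⁻¹) := by
    by_contra hcon
    push Not at hcon
    refine t.not_comm ?_
    have gen : ∀ y ∈ {y | ∃ g, g * n = n * g ∧ ∃ v ∈ V₂, y = g * v * g⁻¹},
        ∀ z ∈ {y | ∃ g, g * n = n * g ∧ ∃ v ∈ V₂, y = g * v * g⁻¹}, y * z = z * y := by
      rintro _ ⟨g, hg, v, hv, rfl⟩ _ ⟨k, hk, w, hw, rfl⟩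
      have h0 : (k⁻¹ * g) * n = n * (k⁻¹ * g) := by
        rw [mul_assoc, hg, ← mul_assoc, inv_comm hk, mul_assoc]
      have h1 := hcon _ h0 v hv w hw
      calc g * v * g⁻¹ * (k * w * k⁻¹) = k * ((k⁻¹ * g * v * (k⁻¹ * g)⁻¹) * w) * k⁻¹ := by group
        _ = k * (w * (k⁻¹ * g * v * (k⁻¹ * g)⁻¹)) * k⁻¹ := by rw [h1]
        _ = k * w * k⁻¹ * (g * v * g⁻¹) := by group
    intro y hy z hz
    have h1 : W V₂ n ≤ centralizer ((W V₂ n : Subgroup G) : Set G) := by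
      conv_rhs => rw [W, centralizer_closure]
      rw [W, closure_le]
      intro a ha
      exact mem_centralizer_iff.2 fun b hb => gen b hb a ha
    exact (mem_centralizer_iff.1 (h1 hy) z hz).symm
  have hact : ∀ w ∈ cj k V₂, M₂.Ind w 1 ∨ M₂.Ind w (Equiv.swap 0 1) := by
    rintro _ ⟨w, hw, rfl⟩
    exact t.q₂ _ (hQ1 k hk _ (t.v₂ hw))
  have hact' : ∀ w ∈ V₂, (M₂.cj k).Ind w 1 ∨ (M₂.cj k).Ind w (Equiv.swap 0 1) := by
    intro w hw
    have h1 : k⁻¹ * w * k ∈ Q := by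
      have := hQ1 _ (inv_comm hk) w (t.v₂ hw)
      rwa [inv_inv] at this
    have h2 : k * (k⁻¹ * w * k) * k⁻¹ = w := by group
    rcases t.q₂ _ h1 with h3 | h3
    · left; have := M₂.cj_ind (g := k) h3; rwa [h2] at this
    · right; have := M₂.cj_ind (g := k) h3; rwa [h2] at this
  refine ⟨k, ?_, hact, ⟨k * v * k⁻¹, ⟨v, hv, rfl⟩, ?_⟩, hact', ⟨u, hu, ?_⟩⟩
  · rw [t.en]; exact hk
  · refine (hact _ ⟨v, hv, rfl⟩).resolve_left fun h1 => hne ?_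
    exact (mem_centralizer_iff.1 (FiveMod.ind_one_iff.1 h1) u hu).symm
  · refine (hact' _ hu).resolve_left fun h1 => hne ?_
    exact mem_centralizer_iff.1 (FiveMod.ind_one_iff.1 h1) _ ⟨v, hv, rfl⟩

end Duo

end Cfsg.Agent.Omega.TTn.TwoTypes

end

section


/-!
# The mixed partner of type `S_{2^m+1}`: reduction to ONE module, abstract form (project OMEGA, II.d, SwBig)

`V₀` (the module on one side), `n, a, c ∈ V₀`, `Q = O₂(C_G(n))`, `R = O₂(C_G(V₀))`. On the `V₀`-side: `V₀ ≤ Q`,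
`x ∈ N(V₀)` maps `n` to `a`; `g ∈ N(V₀)` maps `a` to `c` and `n` to `a`; `w ∈ N(V₀) ∩ Q` with `[Q, w] ≤ ⟨n⟩` moves `c`.
On the other side: `[Q, a] = 1`, `b = a ^ y` with `y ∈ C_G(n)`, `[b, R] ≤ ⟨a⟩` and `[b, r] = a` for one
`r = (v ^ h) ^ x`, `v ∈ V₀`, `h ∈ C_G(n)`.

THEOREM (`Cf.not_comm`): `W = ⟨V₀ ^ C_G(n)⟩` is not abelian. Hence (`Cf.exists_one`) `[V₀, V₀ ^ k] ≠ 1` for some
`k ∈ C_G(n)`.

Proof. Suppose `W` is abelian. `W ^ x ≤ R` (the condition is symmetric under `N(V₀)`), `U = ⟨a ^ C_G(n)⟩ ≤ Z(Q) ∩ R`,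
`b ∈ U`, so `[b, R] = ⟨a⟩` and `f = b ^ g` has `[f, R] = ⟨c⟩`. `f` normalises `U ≤ R`: `[f, U] ≤ U ∩ ⟨c⟩ = 1` (`w ∈ Q`
moves `c`). So `f ∈ O₂(C_G(a)) ∩ C(U)`, a normal 2-subgroup of `C_{C(n)}(U) ≤ C_G(a)`: `f ∈ Q`. Then `f ^ w ∈ f⟨n⟩` and
`⟨c⟩ = [f, R] = [f ^ w, R] = ⟨c ^ w⟩`, a contradiction.
-/

set_option autoImplicit false

namespace Cfsg.Agent.Omega.IId.SwB.Mixed

open Subgroup Cfsg Cfsg.Agent.ZN Cfsg.Agent.ZN.ChoiceBase Cfsg.Agent.Omega.TTn.TwoTypes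
open Cfsg.Agent.Omega.S5.TT (o2_conj)
open Cfsg.Agent.MinSimple.VModule (o2_isPGroup le_o2 o2_le le_normalizer_o2)

universe u

variable {G : Type u} [Group G]

/-- The configuration of LEMMA TWO. -/
structure Cf (V : Subgroup G) (n a c x y g w h v : G) : Prop where
  nV : n ∈ V
  aV : a ∈ V
  vQ : V ≤ o2 (centralizer ({n} : Set G))
  aQ : ∀ q ∈ o2 (centralizer ({n} : Set G)), q * a = a * q
  xV : x ∈ normalizer (V : Set G)
  xn : x * n * x⁻¹ = a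
  yn : y * n = n * y
  bR : ∀ r ∈ o2 (centralizer (V : Set G)), r * (y * a * y⁻¹) * r⁻¹ * (y * a * y⁻¹)⁻¹ = 1 ∨
    r * (y * a * y⁻¹) * r⁻¹ * (y * a * y⁻¹)⁻¹ = a
  hn : h * n = n * h
  vV : v ∈ V
  br : (x * (h * v * h⁻¹) * x⁻¹) * (y * a * y⁻¹) * (x * (h * v * h⁻¹) * x⁻¹)⁻¹ * (y * a * y⁻¹)⁻¹ = a
  gV : g ∈ normalizer (V : Set G)
  ga : g * a * g⁻¹ = c
  gn : g * n * g⁻¹ = a
  wV : w ∈ normalizer (V : Set G)
  wQ : w ∈ o2 (centralizer ({n} : Set G))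
  wn : ∀ q ∈ o2 (centralizer ({n} : Set G)), w * q * w⁻¹ * q⁻¹ = 1 ∨ w * q * w⁻¹ * q⁻¹ = n
  wc : w * c * w⁻¹ ≠ c

namespace Cf

variable {V : Subgroup G} {n a c x y g w h v : G} (t : Cf V n a c x y g w h v)
include t

/-- LEMMA TWO. -/
theorem not_comm [Finite G] : ¬ ∀ u ∈ W V n, ∀ v ∈ W V n, u * v = v * u := by
  intro hab
  set N := centralizer ({n} : Set G) with hN
  set Q := o2 N with hQ
  set Qa := o2 (centralizer ({a} : Set G)) with hQa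
  set R := o2 (centralizer (V : Set G)) with hR
  set b := y * a * y⁻¹ with hb
  have hna : cj x Q = Qa := by rw [hQ, hN, o2_conj x n, t.xn]
  have hCn : ∀ g ∈ centralizer (V : Set G), g * n = n * g := fun g hg =>
    (mem_centralizer_iff.1 hg n t.nV).symm
  have hCa : ∀ g ∈ centralizer (V : Set G), g * a = a * g := fun g hg =>
    (mem_centralizer_iff.1 hg a t.aV).symm
  have hVa : V ≤ Qa := by
    rw [← hna]
    intro v hv
    rw [mem_cj]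
    refine t.vQ ?_
    have := (mem_normalizer_iff.1 (inv_mem t.xV) v).1 hv
    rwa [inv_inv] at this
  -- `W V a ≤ R`
  have hWa : W V a ≤ R := by
    have h1 : ∀ w ∈ W V a, x⁻¹ * w * x ∈ W V n := by
      intro w hw
      have h2 := W_conj (V' := V) (l := x⁻¹) (fun v hv =>
        (mem_normalizer_iff.1 (inv_mem t.xV) v).1 hv) hw
      have h3 : x⁻¹ * a * x⁻¹⁻¹ = n := by rw [← t.xn]; group
      rw [h3, inv_inv] at h2
      exact h2
    refine le_o2 ?_ ?_ ?_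
    · intro w hw
      rw [mem_centralizer_iff]
      intro v hv
      have hv' : x⁻¹ * v * x ∈ V := by
        have := (mem_normalizer_iff.1 (inv_mem t.xV) v).1 hv
        rwa [inv_inv] at this
      have h2 := hab _ (le_W _ _ hv') _ (h1 w hw)
      calc v * w = x * ((x⁻¹ * v * x) * (x⁻¹ * w * x)) * x⁻¹ := by group
        _ = x * ((x⁻¹ * w * x) * (x⁻¹ * v * x)) * x⁻¹ := by rw [h2]
        _ = w * v := by group
    · refine (o2_isPGroup (centralizer ({a} : Set G))).to_le (W_le hVa fun g hg d hd => ?_)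
      exact (mem_normalizer_iff.1 (le_normalizer_o2 _ (mem_C.2 hg)) d).1 hd
    · intro g hg
      refine mem_normalizer_of_cj_le ?_
      rintro _ ⟨w, hw, rfl⟩
      exact W_norm (hCa g hg) hw
  -- an element of `R` moving `b`
  obtain ⟨r₀, hr₀, hb₀⟩ : ∃ r ∈ R, r * b * r⁻¹ * b⁻¹ = a := by
    have hw : h * v * h⁻¹ ∈ W V n := mem_W t.hn t.vV
    have hw' : x * (h * v * h⁻¹) * x⁻¹ ∈ W V a := by
      have h2 := W_conj (V' := V) (l := x) (fun v hv => (mem_normalizer_iff.1 t.xV v).1 hv) hw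
      rwa [t.xn] at h2
    exact ⟨_, hWa hw', t.br⟩
  have hbR : ∀ r ∈ R, r * b * r⁻¹ * b⁻¹ = 1 ∨ r * b * r⁻¹ * b⁻¹ = a := t.bR
  have haVQ : a ∈ Q := t.vQ t.aV
  -- `U = ⟨a^N⟩`
  set U := W (zpowers a) n with hU
  have haU : a ∈ U := le_W _ _ (mem_zpowers a)
  have hUQ : U ≤ Q := W_le ((zpowers_le).2 haVQ) fun g hg d hd =>
    (mem_normalizer_iff.1 (le_normalizer_o2 _ (mem_C.2 hg)) d).1 hd
  have hUC : U ≤ centralizer (Q : Set G) := by
    refine W_le ((zpowers_le).2 (mem_centralizer_iff.2 fun q hq => t.aQ q hq)) fun g hg d hd => ?_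
    rw [mem_centralizer_iff] at hd ⊢
    intro q hq
    have h1 : g⁻¹ * q * g ∈ Q := by
      have := (mem_normalizer_iff.1 (le_normalizer_o2 N (inv_mem (mem_C.2 hg))) q).1 hq
      rwa [inv_inv] at this
    have h2 := hd _ h1
    calc q * (g * d * g⁻¹) = g * ((g⁻¹ * q * g) * d) * g⁻¹ := by group
      _ = g * (d * (g⁻¹ * q * g)) * g⁻¹ := by rw [h2]
      _ = g * d * g⁻¹ * q := by group
  have hUR : U ≤ R := by
    refine le_o2 ?_ ((o2_isPGroup N).to_le hUQ) ?_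
    · intro u hu
      rw [mem_centralizer_iff]
      intro v hv
      exact mem_centralizer_iff.1 (hUC hu) v (t.vQ hv)
    · intro g hg
      refine mem_normalizer_of_cj_le ?_
      rintro _ ⟨w, hw, rfl⟩
      exact W_norm (hCn g hg) hw
  have hbU : b ∈ U := mem_W t.yn (mem_zpowers a)
  have hbC : b ∈ centralizer (V : Set G) := by
    rw [mem_centralizer_iff]
    intro v hv
    exact mem_centralizer_iff.1 (hUC hbU) v (t.vQ hv)
  -- `f = b ^ g`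
  have hgR : ∀ r ∈ R, g * r * g⁻¹ ∈ R := fun r hr => conj_R t.gV hr
  have hgR' : ∀ r ∈ R, g⁻¹ * r * g ∈ R := fun r hr => by
    have := conj_R (inv_mem t.gV) hr
    rwa [inv_inv] at this
  set f := g * b * g⁻¹ with hf
  have hfR : ∀ r ∈ R, r * f * r⁻¹ * f⁻¹ = 1 ∨ r * f * r⁻¹ * f⁻¹ = c := by
    intro r hr
    have h1 : r * f * r⁻¹ * f⁻¹ = g * ((g⁻¹ * r * g) * b * (g⁻¹ * r * g)⁻¹ * b⁻¹) * g⁻¹ := by
      rw [hf]; group
    rcases hbR _ (hgR' r hr) with h2 | h2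
    · left; rw [h1, h2]; group
    · right; rw [h1, h2, t.ga]
  have hfr : (g * r₀ * g⁻¹) * f * (g * r₀ * g⁻¹)⁻¹ * f⁻¹ = c := by
    have h1 : (g * r₀ * g⁻¹) * f * (g * r₀ * g⁻¹)⁻¹ * f⁻¹ = g * (r₀ * b * r₀⁻¹ * b⁻¹) * g⁻¹ := by
      rw [hf]; group
    rw [h1, hb₀, t.ga]
  have hfC : f ∈ centralizer (V : Set G) := by
    rw [mem_centralizer_iff] at hbC ⊢
    intro v hv
    have hv' : g⁻¹ * v * g ∈ V := by
      have := (mem_normalizer_iff.1 (inv_mem t.gV) v).1 hv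
      rwa [inv_inv] at this
    have h1 := hbC _ hv'
    calc v * f = g * ((g⁻¹ * v * g) * b) * g⁻¹ := by rw [hf]; group
      _ = g * (b * (g⁻¹ * v * g)) * g⁻¹ := by rw [h1]
      _ = f * v := by rw [hf]; group
  have hfQa : f ∈ Qa := by
    have h1 : cj g Q = Qa := by rw [hQ, hN, o2_conj g n, t.gn]
    rw [← h1]
    exact ⟨_, hUQ hbU, rfl⟩
  -- `c ∉ U`
  have hcU : c ∉ U := by
    intro h1
    have h2 := mem_centralizer_iff.1 (hUC h1) w t.wQ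
    exact t.wc (by rw [h2, mul_inv_cancel_right])
  -- `f` centralises `U`
  have hfU : ∀ u ∈ U, u * f = f * u := by
    intro u hu
    have h1 : u * f * u⁻¹ * f⁻¹ ∈ U := by
      have h2 : f * u⁻¹ * f⁻¹ ∈ U := W_norm (hCn f hfC) (inv_mem hu)
      have h3 : u * f * u⁻¹ * f⁻¹ = u * (f * u⁻¹ * f⁻¹) := by group
      rw [h3]; exact mul_mem hu h2
    rcases hfR u (hUR hu) with h2 | h2
    · exact eq_of_mul_inv_eq_one (by rw [← h2]; group)
    · rw [h2] at h1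
      exact absurd h1 hcU
  -- `f ∈ Q`
  have hfQ : f ∈ Q := by
    set CN := N ⊓ centralizer (U : Set G) with hCN
    have hCNa : CN ≤ centralizer ({a} : Set G) := fun y hy =>
      mem_C.2 (mem_centralizer_iff.1 (mem_inf.1 hy).2 a haU).symm
    have h1 : Qa ⊓ CN ≤ o2 CN := by
      refine le_o2 inf_le_right ((o2_isPGroup _).to_le inf_le_left) ?_
      intro y hy
      refine mem_normalizer_of_cj_le ?_
      rintro _ ⟨z, hz, rfl⟩
      exact mem_inf.2 ⟨(mem_normalizer_iff.1 (le_normalizer_o2 _ (hCNa hy)) z).1 (mem_inf.1 hz).1,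
        mul_mem (mul_mem hy (mem_inf.1 hz).2) (inv_mem hy)⟩
    have h2 : o2 CN ≤ Q := by
      refine le_o2 ((o2_le _).trans inf_le_left) (o2_isPGroup _) ?_
      intro y hy
      refine conj_o2 (mem_normalizer_of_cj_le ?_)
      rintro _ ⟨z, hz, rfl⟩
      refine mem_inf.2 ⟨mul_mem (mul_mem hy (mem_inf.1 hz).1) (inv_mem hy), ?_⟩
      rw [mem_centralizer_iff]
      intro u hu
      have h3 : y⁻¹ * u * y ∈ U := by
        have := W_norm (inv_comm (mem_C.1 hy)) hu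
        rwa [inv_inv] at this
      have h4 := mem_centralizer_iff.1 (mem_inf.1 hz).2 _ h3
      calc u * (y * z * y⁻¹) = y * ((y⁻¹ * u * y) * z) * y⁻¹ := by group
        _ = y * (z * (y⁻¹ * u * y)) * y⁻¹ := by rw [h4]
        _ = y * z * y⁻¹ * u := by group
    exact h2 (h1 (mem_inf.2 ⟨hfQa, mem_inf.2 ⟨mem_C.2 (hCn f hfC),
      mem_centralizer_iff.2 fun u hu => hfU u hu⟩⟩))
  -- the contradiction
  have hwf : w * f * w⁻¹ * f⁻¹ = 1 ∨ w * f * w⁻¹ * f⁻¹ = n := t.wn f hfQ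
  have hwR : ∀ r ∈ R, w * r * w⁻¹ ∈ R := fun r hr => conj_R t.wV hr
  set r' := w * (g * r₀ * g⁻¹) * w⁻¹ with hr'
  have hr'R : r' ∈ R := hwR _ (hgR _ hr₀)
  have h1 : r' * (w * f * w⁻¹) * r'⁻¹ * (w * f * w⁻¹)⁻¹ = w * c * w⁻¹ := by
    rw [← hfr, hr']; group
  have hr'n : r' * n = n * r' := hCn r' (o2_le _ hr'R)
  have h2 : r' * (w * f * w⁻¹) * r'⁻¹ * (w * f * w⁻¹)⁻¹ = r' * f * r'⁻¹ * f⁻¹ := by
    rcases hwf with h3 | h3
    · have h4 : w * f * w⁻¹ = f := mul_inv_eq_one.1 h3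
      rw [h4]
    · have h4 : w * f * w⁻¹ = n * f := by rw [← h3]; group
      have h5 : r' * (n * f) * r'⁻¹ * (n * f)⁻¹ = (r' * n) * f * r'⁻¹ * f⁻¹ * n⁻¹ := by group
      have h6 : f * n = n * f := hCn f hfC
      have h7 : n * (r' * f * r'⁻¹ * f⁻¹) * n⁻¹ = r' * f * r'⁻¹ * f⁻¹ := by
        have h8 : n * (r' * f * r'⁻¹ * f⁻¹) = (r' * f * r'⁻¹ * f⁻¹) * n := by
          have h9 : r'⁻¹ * n = n * r'⁻¹ := inv_comm hr'n
          have h10 : f⁻¹ * n = n * f⁻¹ := inv_comm h6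
          calc n * (r' * f * r'⁻¹ * f⁻¹) = (n * r') * f * r'⁻¹ * f⁻¹ := by group
            _ = r' * (n * f) * r'⁻¹ * f⁻¹ := by rw [← hr'n]; group
            _ = r' * f * (n * r'⁻¹) * f⁻¹ := by rw [← h6]; group
            _ = r' * f * r'⁻¹ * (n * f⁻¹) := by rw [← h9]; group
            _ = (r' * f * r'⁻¹ * f⁻¹) * n := by rw [← h10]; group
        rw [h8, mul_inv_cancel_right]
      calc r' * (w * f * w⁻¹) * r'⁻¹ * (w * f * w⁻¹)⁻¹ = (r' * n) * f * r'⁻¹ * f⁻¹ * n⁻¹ := by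
            rw [h4, h5]
        _ = n * (r' * f * r'⁻¹ * f⁻¹) * n⁻¹ := by rw [hr'n]; group
        _ = _ := h7
  have h3 := hfR r' hr'R
  rw [← h2, h1] at h3
  rcases h3 with h3 | h3
  · refine t.wc ?_
    have h4 : c = 1 := by
      have h5 : c = w⁻¹ * (w * c * w⁻¹) * w := by group
      rw [h5, h3]; group
    rw [h4, mul_one, mul_inv_cancel]
  · exact t.wc h3

/-- A non-commuting pair of conjugates of the ONE subgroup `V`, with the same `n`. -/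
theorem exists_one [Finite G] : ∃ k, k * n = n * k ∧ ∃ v ∈ V, ∃ u ∈ V, (k * v * k⁻¹) * u ≠ u * (k * v * k⁻¹) := by
  by_contra hcon
  push Not at hcon
  refine t.not_comm ?_
  have gen : ∀ y ∈ {y | ∃ g, g * n = n * g ∧ ∃ v ∈ V, y = g * v * g⁻¹},
      ∀ z ∈ {y | ∃ g, g * n = n * g ∧ ∃ v ∈ V, y = g * v * g⁻¹}, y * z = z * y := by
    rintro _ ⟨g, hg, v, hv, rfl⟩ _ ⟨k, hk, w, hw, rfl⟩
    have h0 : (k⁻¹ * g) * n = n * (k⁻¹ * g) := by
      rw [mul_assoc, hg, ← mul_assoc, inv_comm hk, mul_assoc]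
    have h1 := hcon _ h0 v hv w hw
    calc g * v * g⁻¹ * (k * w * k⁻¹) = k * ((k⁻¹ * g * v * (k⁻¹ * g)⁻¹) * w) * k⁻¹ := by group
      _ = k * (w * (k⁻¹ * g * v * (k⁻¹ * g)⁻¹)) * k⁻¹ := by rw [h1]
      _ = k * w * k⁻¹ * (g * v * g⁻¹) := by group
  intro y hy z hz
  have h1 : W V n ≤ centralizer ((W V n : Subgroup G) : Set G) := by
    conv_rhs => rw [W, centralizer_closure]
    rw [W, closure_le]
    intro a ha
    exact mem_centralizer_iff.2 fun b hb => gen b hb a ha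
  exact (mem_centralizer_iff.1 (h1 hy) z hz).symm

end Cf

end Cfsg.Agent.Omega.IId.SwB.Mixed

end

section


/-!
# The mixed partner over the duads of ONE module (project OMEGA, II.d, SwBig)

`Dd V d` : `V` is a subgroup with duads `d p q`, `p.1 = q.1` (`p, q : Fin k × Fin (2 ^ m + 1)`), `m ≥ 2`; all
permutations inside the blocks are induced by `N_G(V)`; (H1) `O₂(C_G(d p q)) ≤ N_G(V)` contains `V` and acts on `V`
inside `⟨(p q)⟩`, with `[V, O₂(C_G(d p q))] ≤ ⟨d p q⟩`. `Ds S V d` : moreover `S ≤ N_G(V)` fixes the letters `(i, 0)`.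

THEOREM (`Dd.exists_one`): let `n = {p, q}`, `a = {r, s}` be disjoint duads in one block of `V`, `V'` a subgroup with
`V' ≤ Q = O₂(C_G(n))`, `[Q, V'] ≤ ⟨n⟩`, `x ∈ N(V) ∩ N(V')` with `n ^ x = a`, `b = a ^ y ∈ V'`, `y ∈ C_G(n)`,
`[b, O₂(C_G(V))] ≤ ⟨a⟩`, and let `t v t⁻¹`, `v ∈ V`, `t ∈ C_G(n)`, not commute with `x⁻¹ b x`. Then `[V, V ^ k] ≠ 1` for
some `k ∈ C_G(n)`.

`Pd S' V' n a b` : the partner side in abstract form (`Ds.pd` : a module with duads); `Dd.exists_pd`, `Ds.exists_one` :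
the conclusion for a partner side `Pd`, resp. for two modules `V`, `V'` with the same duads `n`, `a`, when
`O₂(C_G(V)) ≤ S'`.
-/

set_option autoImplicit false

namespace Cfsg.Agent.Omega.IId.SwB.Mixed

open Subgroup Cfsg Cfsg.Agent.ZN Cfsg.Agent.ZN.ChoiceBase
open Cfsg.Agent.Omega.TTn.TwoTypes (inv_comm mem_C)
open Cfsg.Agent.Omega.S5.TT (o2_conj)
open Cfsg.Agent.MinSimple.VModule (o2_isPGroup le_o2 o2_le le_normalizer_o2)

universe u

variable {G : Type u} [Group G]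

/-- the letters -/
abbrev Pt (k m : ℕ) : Type := Fin k × Fin (2 ^ m + 1)

/-- Duads. -/
structure Dd (V : Subgroup G) {k m : ℕ} (d : Pt k m → Pt k m → G) : Prop where
  m2 : 2 ≤ m
  mem : ∀ p q, d p q ∈ V
  comm : ∀ p q, p.1 = q.1 → d p q = d q p
  mul : ∀ p q r, p.1 = q.1 → q.1 = r.1 → d p q * d q r = d p r
  sq : ∀ p q, d p q * d p q = 1
  inj : ∀ p q r s, p.1 = q.1 → r.1 = s.1 → p ≠ q → d p q = d r s → (p = r ∧ q = s) ∨ (p = s ∧ q = r)
  lift : ∀ π : Equiv.Perm (Pt k m), (∀ p, (π p).1 = p.1) →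
    ∃ g ∈ normalizer (V : Set G), ∀ p q, p.1 = q.1 → g * d p q * g⁻¹ = d (π p) (π q)
  VQ : ∀ p q, p.1 = q.1 → p ≠ q → V ≤ o2 (centralizer ({d p q} : Set G))
  act : ∀ p q, p.1 = q.1 → p ≠ q → ∀ g ∈ o2 (centralizer ({d p q} : Set G)), g ∈ normalizer (V : Set G) ∧
    ((∀ v ∈ V, g * v = v * g) ∨ ∀ r s, r.1 = s.1 → g * d r s * g⁻¹ = d (Equiv.swap p q r) (Equiv.swap p q s))
  cm : ∀ p q, p.1 = q.1 → p ≠ q → ∀ g ∈ o2 (centralizer ({d p q} : Set G)), ∀ v ∈ V,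
    g * v * g⁻¹ * v⁻¹ = 1 ∨ g * v * g⁻¹ * v⁻¹ = d p q

/-- Duads with the Sylow 2-subgroup. -/
structure Ds (S V : Subgroup G) {k m : ℕ} (d : Pt k m → Pt k m → G) : Prop extends Dd V d where
  fix : ∀ g ∈ S, ∀ p q, p.1 = q.1 → p ≠ q → g * d p q = d p q * g →
    g * d p (p.1, 0) * g⁻¹ = d p (p.1, 0) ∨ g * d p (p.1, 0) * g⁻¹ = d q (p.1, 0)

namespace Dd

theorem conjQ {n : G} {g e : G} (hg : g * n = n * g) (he : e ∈ o2 (centralizer ({n} : Set G))) :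
    g * e * g⁻¹ ∈ o2 (centralizer ({n} : Set G)) :=
  (mem_normalizer_iff.1 (le_normalizer_o2 _ (mem_C.2 hg)) e).1 he

variable {V : Subgroup G} {k m : ℕ} {d : Pt k m → Pt k m → G} (D : Dd V d)

include D

theorem exists_fifth (p q r s : Pt k m) :
    ∃ e : Pt k m, p.1 = e.1 ∧ e ≠ p ∧ e ≠ q ∧ e ≠ r ∧ e ≠ s := by
  obtain ⟨l, hl⟩ : ∃ l : Fin (2 ^ m + 1), l ∉ ({p.2, q.2, r.2, s.2} : Finset (Fin (2 ^ m + 1))) := by
    by_contra hc
    push Not at hc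
    have h1 : (Finset.univ : Finset (Fin (2 ^ m + 1))).card ≤ 4 :=
      (Finset.card_le_card (fun z _ => hc z)).trans Finset.card_le_four
    rw [Finset.card_univ, Fintype.card_fin] at h1
    have h2 : 2 ^ 2 ≤ 2 ^ m := Nat.pow_le_pow_right (by norm_num) D.m2
    omega
  simp only [Finset.mem_insert, Finset.mem_singleton, not_or] at hl
  exact ⟨(p.1, l), rfl, fun h => hl.1 (by rw [← h]), fun h => hl.2.1 (by rw [← h]),
    fun h => hl.2.2.1 (by rw [← h]), fun h => hl.2.2.2 (by rw [← h])⟩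

omit D in
theorem swap_fst {z z' : Pt k m} (hz : z.1 = z'.1) (t : Pt k m) : (Equiv.swap z z' t).1 = t.1 := by
  by_cases e1 : t = z
  · rw [e1, Equiv.swap_apply_left, hz]
  by_cases e2 : t = z'
  · rw [e2, Equiv.swap_apply_right, hz]
  · rw [Equiv.swap_apply_of_ne_of_ne e1 e2]

/-- the element `g`: `{p, q} → {r, s} → {p, e}` -/
theorem exists_g {p q r s e : Pt k m} (hpq : p.1 = q.1) (hpr : p.1 = r.1) (hps : p.1 = s.1) (he : p.1 = e.1)
    (pq : p ≠ q) (ps : p ≠ s) (qr : q ≠ r) (qs : q ≠ s) (rs : r ≠ s) (ep : e ≠ p) (eq : e ≠ q)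
    (er : e ≠ r) (es : e ≠ s) :
    ∃ g ∈ normalizer (V : Set G), g * d p q * g⁻¹ = d r s ∧ g * d r s * g⁻¹ = d p e := by
  obtain ⟨g, hg, hgs⟩ := D.lift (Equiv.swap p r * (Equiv.swap q s * Equiv.swap s e)) (fun t => by
      rw [Equiv.Perm.mul_apply, Equiv.Perm.mul_apply, swap_fst hpr, swap_fst (hpq.symm.trans hps),
        swap_fst (hps.symm.trans he)])
  refine ⟨g, hg, ?_, ?_⟩
  · rw [hgs p q hpq]
    simp only [Equiv.Perm.mul_apply]
    rw [Equiv.swap_apply_of_ne_of_ne ps ep.symm, Equiv.swap_apply_of_ne_of_ne pq ps, Equiv.swap_apply_left,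
      Equiv.swap_apply_of_ne_of_ne qs eq.symm, Equiv.swap_apply_left, Equiv.swap_apply_of_ne_of_ne ps.symm rs.symm]
  · rw [hgs r s (hpr.symm.trans hps)]
    simp only [Equiv.Perm.mul_apply]
    rw [Equiv.swap_apply_of_ne_of_ne rs er.symm, Equiv.swap_apply_of_ne_of_ne qr.symm rs, Equiv.swap_apply_right,
      Equiv.swap_apply_left, Equiv.swap_apply_of_ne_of_ne eq es, Equiv.swap_apply_of_ne_of_ne ep er]

variable [Finite G]

/-- **The mixed pair, one side with duads.** (first form) -/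
theorem exists_one {p q r s : Pt k m} (hpq : p.1 = q.1) (hpr : p.1 = r.1) (hps : p.1 = s.1) (pq : p ≠ q)
    (pr : p ≠ r) (ps : p ≠ s) (qr : q ≠ r) (qs : q ≠ s) (rs : r ≠ s) {V' : Subgroup G}
    (vQ : V' ≤ o2 (centralizer ({d p q} : Set G)))
    (vc : ∀ g ∈ o2 (centralizer ({d p q} : Set G)), ∀ v ∈ V', g * v * g⁻¹ * v⁻¹ = 1 ∨ g * v * g⁻¹ * v⁻¹ = d p q)
    {x y t v : G} (xV : x ∈ normalizer (V : Set G)) (xV' : x ∈ normalizer (V' : Set G))
    (xn : x * d p q * x⁻¹ = d r s) (yn : y * d p q = d p q * y) (bV : y * d r s * y⁻¹ ∈ V')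
    (bR : ∀ g ∈ o2 (centralizer (V : Set G)), g * (y * d r s * y⁻¹) * g⁻¹ * (y * d r s * y⁻¹)⁻¹ = 1 ∨
      g * (y * d r s * y⁻¹) * g⁻¹ * (y * d r s * y⁻¹)⁻¹ = d r s)
    (tn : t * d p q = d p q * t) (hv : v ∈ V)
    (hne : t * v * t⁻¹ * (x⁻¹ * (y * d r s * y⁻¹) * x) ≠ x⁻¹ * (y * d r s * y⁻¹) * x * (t * v * t⁻¹)) :
    ∃ k, k * d p q = d p q * k ∧ ∃ v ∈ V, ∃ u ∈ V, k * v * k⁻¹ * u ≠ u * (k * v * k⁻¹) := by
  set n := d p q with hn
  set a := d r s with ha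
  set b := y * a * y⁻¹ with hb
  set b' := x⁻¹ * b * x with hb'
  have hbV' : b' ∈ V' := by
    have := (mem_normalizer_iff.1 (inv_mem xV') b).1 bV
    rwa [inv_inv] at this
  have hVQ := D.VQ p q hpq pq
  have hq : t * v * t⁻¹ ∈ o2 (centralizer ({n} : Set G)) := conjQ tn (hVQ hv)
  have hcomm : t * v * t⁻¹ * b' * (t * v * t⁻¹)⁻¹ * b'⁻¹ = n := by
    refine (vc _ hq b' hbV').resolve_left fun h1 => hne ?_
    have h2 := mul_inv_eq_one.1 h1
    rwa [mul_inv_eq_iff_eq_mul] at h2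
  obtain ⟨e, he, ep, eq, er, es⟩ := D.exists_fifth p q r s
  obtain ⟨g, hg, g1, g2⟩ := D.exists_g hpq hpr hps he pq ps qr qs rs ep eq er es
  have hw : t⁻¹ * b' * t ∈ o2 (centralizer ({n} : Set G)) := by
    have := conjQ (inv_comm tn) (vQ hbV')
    rwa [inv_inv] at this
  have hwne : ¬ ∀ v ∈ V, t⁻¹ * b' * t * v = v * (t⁻¹ * b' * t) := fun h1 => hne (by
    calc t * v * t⁻¹ * b' = t * (v * (t⁻¹ * b' * t)) * t⁻¹ := by group
      _ = t * (t⁻¹ * b' * t * v) * t⁻¹ := by rw [h1 v hv]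
      _ = b' * (t * v * t⁻¹) := by group)
  obtain ⟨hwN, hw2⟩ := D.act p q hpq pq _ hw
  have hws := hw2.resolve_left hwne
  have cf : Cf V n a (d p e) x y g (t⁻¹ * b' * t) t v :=
    { nV := D.mem _ _
      aV := D.mem _ _
      vQ := hVQ
      aQ := fun c hc => by
        rcases (D.act p q hpq pq c hc).2 with h1 | h1
        · exact h1 _ (D.mem _ _)
        · have h2 := h1 r s (hpr.symm.trans hps)
          rw [Equiv.swap_apply_of_ne_of_ne pr.symm qr.symm, Equiv.swap_apply_of_ne_of_ne ps.symm qs.symm,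
            mul_inv_eq_iff_eq_mul] at h2
          exact h2
      xV := xV
      xn := xn
      yn := yn
      bR := bR
      hn := tn
      vV := hv
      br := by
        have h1 : x * (t * v * t⁻¹) * x⁻¹ * b * (x * (t * v * t⁻¹) * x⁻¹)⁻¹ * b⁻¹ =
            x * (t * v * t⁻¹ * b' * (t * v * t⁻¹)⁻¹ * b'⁻¹) * x⁻¹ := by
          rw [hb']; group
        rw [h1, hcomm, xn]
      gV := hg
      ga := g2
      gn := g1
      wV := hwN
      wQ := hw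
      wn := fun c hc => by
        have h1 := vc _ (conjQ tn hc) b' hbV'
        have h2 : t⁻¹ * b' * t * c * (t⁻¹ * b' * t)⁻¹ * c⁻¹ =
            t⁻¹ * (t * c * t⁻¹ * b' * (t * c * t⁻¹)⁻¹ * b'⁻¹)⁻¹ * t := by group
        rcases h1 with h1 | h1
        · left; rw [h2, h1]; group
        · right
          have h3 : n⁻¹ = n := inv_eq_of_mul_eq_one_left (D.sq _ _)
          rw [h2, h1, h3, mul_assoc, ← tn, ← mul_assoc, inv_mul_cancel, one_mul]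
      wc := fun h1 => by
        rw [hws p e he, Equiv.swap_apply_left, Equiv.swap_apply_of_ne_of_ne ep eq] at h1
        rcases D.inj q e p e (hpq.symm.trans he) he eq.symm h1 with h2 | h2
        · exact pq h2.1.symm
        · exact ep h2.2 }
  exact cf.exists_one

end Dd

/-- The partner side: `V'` with `n`, `a`, `b ∈ V'`. -/
structure Pd (S' V' : Subgroup G) (n a b : G) : Prop where
  vQ : V' ≤ o2 (centralizer ({n} : Set G))
  vc : ∀ g ∈ o2 (centralizer ({n} : Set G)), ∀ v ∈ V', g * v * g⁻¹ * v⁻¹ = 1 ∨ g * v * g⁻¹ * v⁻¹ = n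
  act : ∀ g ∈ o2 (centralizer ({a} : Set G)), (∀ v ∈ V', g * v = v * g) ∨ g * b ≠ b * g
  bV : b ∈ V'
  exists_y : ∃ y, y * n = n * y ∧ y * a * y⁻¹ = b
  fix : ∀ g ∈ S', g * a = a * g → g * b * g⁻¹ * b⁻¹ = 1 ∨ g * b * g⁻¹ * b⁻¹ = a

/-- **The mixed pair, one side with duads.** -/
theorem Dd.exists_pd [Finite G] {V : Subgroup G} {k m : ℕ} {d : Pt k m → Pt k m → G} (D : Dd V d) {p q r s : Pt k m}
    (hpq : p.1 = q.1) (hpr : p.1 = r.1) (hps : p.1 = s.1) (pq : p ≠ q) (pr : p ≠ r) (ps : p ≠ s) (qr : q ≠ r)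
    (qs : q ≠ s) (rs : r ≠ s) {S' V' : Subgroup G} {b : G} (h : Pd S' V' (d p q) (d r s) b)
    (hR : o2 (centralizer (V : Set G)) ≤ S') {x t v u : G}
    (xV : x ∈ normalizer (V : Set G)) (xV' : x ∈ normalizer (V' : Set G)) (xn : x * d p q * x⁻¹ = d r s)
    (tn : t * d p q = d p q * t) (hv : v ∈ V) (hu : u ∈ V') (hne : t * v * t⁻¹ * u ≠ u * (t * v * t⁻¹)) :
    ∃ k, k * d p q = d p q * k ∧ ∃ v ∈ V, ∃ u ∈ V, k * v * k⁻¹ * u ≠ u * (k * v * k⁻¹) := by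
  obtain ⟨y, yn, yb⟩ := h.exists_y
  -- the conjugate of `t v t⁻¹` by `x`
  have hq' : t * v * t⁻¹ ∈ o2 (centralizer ({d p q} : Set G)) := conjQ tn (D.VQ p q hpq pq hv)
  have hρ : x * (t * v * t⁻¹) * x⁻¹ ∈ o2 (centralizer ({d r s} : Set G)) := by
    have h1 : cj x (o2 (centralizer ({d p q} : Set G))) = o2 (centralizer ({d r s} : Set G)) := by
      rw [o2_conj x (d p q), xn]
    rw [← h1]
    exact ⟨_, hq', rfl⟩
  have hmove := (h.act _ hρ).resolve_left fun h1 => hne (by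
    have h2 := h1 _ ((mem_normalizer_iff.1 xV' u).1 hu)
    calc t * v * t⁻¹ * u = x⁻¹ * (x * (t * v * t⁻¹) * x⁻¹ * (x * u * x⁻¹)) * x := by group
      _ = x⁻¹ * (x * u * x⁻¹ * (x * (t * v * t⁻¹) * x⁻¹)) * x := by rw [h2]
      _ = u * (t * v * t⁻¹) := by group)
  refine D.exists_one hpq hpr hps pq pr ps qr qs rs (V' := V') h.vQ h.vc xV xV' xn yn ?_ ?_ tn hv ?_
  · rw [yb]; exact h.bV
  · rw [yb]
    exact fun g hg => h.fix g (hR hg) (mem_centralizer_iff.1 (o2_le _ hg) _ (D.mem _ _)).symm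
  · rw [yb]
    intro h1
    refine hmove ?_
    calc x * (t * v * t⁻¹) * x⁻¹ * b = x * (t * v * t⁻¹ * (x⁻¹ * b * x)) * x⁻¹ := by group
      _ = x * (x⁻¹ * b * x * (t * v * t⁻¹)) * x⁻¹ := by rw [h1]
      _ = b * (x * (t * v * t⁻¹) * x⁻¹) := by group

namespace Ds

variable [Finite G] {S' V' : Subgroup G} {k' m' : ℕ} {d' : Pt k' m' → Pt k' m' → G} (D' : Ds S' V' d')

include D'

/-- `V'` with duads as the partner side -/
theorem pd {p q r s : Pt k' m'} (hpq : p.1 = q.1) (hrs : r.1 = s.1) (pq : p ≠ q) (rs : r ≠ s) (pr : p ≠ r)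
    (ps : p ≠ s) (qr : q ≠ r) (qs : q ≠ s) (hp : p.2 ≠ 0) (hq : q.2 ≠ 0) (hr : r.2 ≠ 0) (hs : s.2 ≠ 0) :
    Pd S' V' (d' p q) (d' r s) (d' r (r.1, 0)) := by
  have E' := D'.toDd
  set o : Pt k' m' := (r.1, 0) with ho
  have or' : o ≠ r := fun e => hr (by rw [← e])
  have os : o ≠ s := fun e => hs (by rw [← e])
  have op : o ≠ p := fun e => hp (by rw [← e])
  have oq : o ≠ q := fun e => hq (by rw [← e])
  obtain ⟨y, hy, hys⟩ := E'.lift (Equiv.swap s o) (Dd.swap_fst hrs.symm)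
  refine
    { vQ := E'.VQ p q hpq pq
      vc := E'.cm p q hpq pq
      act := fun g hg => ?_
      bV := E'.mem _ _
      exists_y := ⟨y, ?_, ?_⟩
      fix := fun g hg h1 => ?_ }
  · refine (E'.act r s hrs rs g hg).2.imp_right fun h1 h3 => ?_
    have h2 := h1 r o rfl
    rw [h3, mul_inv_cancel_right, Equiv.swap_apply_left, Equiv.swap_apply_of_ne_of_ne or' os] at h2
    rcases E'.inj r o s o rfl hrs.symm or'.symm h2 with h3 | h3
    · exact rs h3.1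
    · exact or' h3.1.symm
  · have h1 := hys p q hpq
    rw [Equiv.swap_apply_of_ne_of_ne ps op.symm, Equiv.swap_apply_of_ne_of_ne qs oq.symm,
      mul_inv_eq_iff_eq_mul] at h1
    exact h1
  · rw [hys r s hrs, Equiv.swap_apply_of_ne_of_ne rs or'.symm, Equiv.swap_apply_left]
  · rcases D'.fix g hg r s hrs rs h1 with h2 | h2
    · left; rw [h2, mul_inv_cancel]
    · right
      have h3 : (d' r o)⁻¹ = d' o r := by
        rw [E'.comm o r rfl]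
        exact inv_eq_of_mul_eq_one_left (E'.sq _ _)
      rw [h2, h3, E'.mul s o r hrs.symm rfl, E'.comm s r hrs.symm]

/-- **The mixed pair of two modules with the same duads `n` and `a`.** -/
theorem exists_one {V : Subgroup G} {k m : ℕ} {d : Pt k m → Pt k m → G} (D : Dd V d) {p q r s : Pt k m}
    (hpq : p.1 = q.1) (hpr : p.1 = r.1) (hps : p.1 = s.1) (pq : p ≠ q)
    (pr : p ≠ r) (ps : p ≠ s) (qr : q ≠ r) (qs : q ≠ s) (rs : r ≠ s) {p' q' r' s' : Pt k' m'} (hpq' : p'.1 = q'.1)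
    (hrs' : r'.1 = s'.1) (pq' : p' ≠ q') (rs' : r' ≠ s') (pr' : p' ≠ r') (ps' : p' ≠ s') (qr' : q' ≠ r')
    (qs' : q' ≠ s') (hp : p'.2 ≠ 0) (hq : q'.2 ≠ 0) (hr : r'.2 ≠ 0) (hs : s'.2 ≠ 0) (en : d' p' q' = d p q)
    (ea : d' r' s' = d r s) (hR : o2 (centralizer (V : Set G)) ≤ S') {x t v u : G}
    (xV : x ∈ normalizer (V : Set G)) (xV' : x ∈ normalizer (V' : Set G)) (xn : x * d p q * x⁻¹ = d r s)
    (tn : t * d p q = d p q * t) (hv : v ∈ V) (hu : u ∈ V') (hne : t * v * t⁻¹ * u ≠ u * (t * v * t⁻¹)) :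
    ∃ k, k * d p q = d p q * k ∧ ∃ v ∈ V, ∃ u ∈ V, k * v * k⁻¹ * u ≠ u * (k * v * k⁻¹) := by
  have h := D'.pd hpq' hrs' pq' rs' pr' ps' qr' qs' hp hq hr hs
  rw [en, ea] at h
  exact D.exists_pd hpq hpr hps pq pr ps qr qs rs h hR xV xV' xn tn hv hu hne

end Ds

end Cfsg.Agent.Omega.IId.SwB.Mixed

end
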