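import Cfsg.Agent.Mrg.Omega.TTn.Dih
import Cfsg.Agent.Mrg.Omega.TTn.DiCoreAbs
import Cfsg.Agent.Omega.S5.ChiConst
import Cfsg.Agent.Mrg.Omega.TTn.Z.Conn
import Cfsg.Agent.Mrg.Omega.TTn.BZero
import Cfsg.Agent.Mrg.Omega.TTn.TwoTypes
import Cfsg.Agent.Mrg.Omega.TTn.Norm

section


/-!
# THEOREM B1 (helper429, bb OMEGA #13318, #13720): T-T, `n` not 2-central, `V ≤ O₂(C(s))`, `U_n ≤ O₂(C(a))`
is impossible
-/

set_option autoImplicit false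
set_option linter.unusedSectionVars false

namespace Cfsg.Agent.Omega.TTn.BOne

open Subgroup Cfsg Cfsg.Agent.ZN Cfsg.Agent.ZN.ChoiceBase
open Cfsg.Agent.Omega.S5.Mod Cfsg.Agent.Omega.S5.TT
open Cfsg.Agent.Omega.S5.TT.Pos (na ns as sn n_ne s_ne a_ne n_ne_a n_ne_s a_ne_s e_sq' mem_C)
open Cfsg.Agent.MinSimple.VModule (o2_isPGroup le_o2 o2_le le_normalizer_o2 o2_le_of_sylow
  normalizer_le_normalizer_zc)
open Cfsg.Agent.Omega.S5.ChiConst (cls)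
open Cfsg.Agent.Omega.TTn.Calc (conj_eq_iff comm_conj_iff)

universe u

variable {G : Type u} [Group G]

/-! ### The family `W ^ g` -/

/-- the family `W ^ g` over the class of `n`, for `W` normalised by `C(n)` -/
def Fam (n : G) (W : Subgroup G) (c : G) : Subgroup G where
  carrier := {y | ∀ g, g * n * g⁻¹ = c → g⁻¹ * y * g ∈ W}
  one_mem' := fun g _ => by
    have e : g⁻¹ * 1 * g = 1 := by group
    rw [e]; exact W.one_mem
  mul_mem' := by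
    intro x y hx hy g hg
    have := mul_mem (hx g hg) (hy g hg)
    have e : g⁻¹ * x * g * (g⁻¹ * y * g) = g⁻¹ * (x * y) * g := by group
    rwa [e] at this
  inv_mem' := by
    intro x hx g hg
    have := inv_mem (hx g hg)
    have e : (g⁻¹ * x * g)⁻¹ = g⁻¹ * x⁻¹ * g := by group
    rwa [e] at this

theorem mem_Fam {n : G} {W : Subgroup G} (hW : ∀ g, g * n = n * g → ∀ w ∈ W, g * w * g⁻¹ ∈ W) {g y : G} :
    y ∈ Fam n W (g * n * g⁻¹) ↔ g⁻¹ * y * g ∈ W := by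
  constructor
  · intro hy
    exact hy g rfl
  · intro hy k hk
    have h1 : (k⁻¹ * g) * n = n * (k⁻¹ * g) := by
      calc k⁻¹ * g * n = k⁻¹ * (g * n * g⁻¹) * g := by group
        _ = k⁻¹ * (k * n * k⁻¹) * g := by rw [hk]
        _ = n * (k⁻¹ * g) := by group
    have := hW _ h1 _ hy
    have e : k⁻¹ * g * (g⁻¹ * y * g) * (k⁻¹ * g)⁻¹ = k⁻¹ * y * k := by group
    rwa [e] at this

theorem Fam_conj {n c y : G} {W : Subgroup G} (k : G) (hy : y ∈ Fam n W c) :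
    k * y * k⁻¹ ∈ Fam n W (k * c * k⁻¹) := by
  intro g hg
  have h1 : (k⁻¹ * g) * n * (k⁻¹ * g)⁻¹ = c := by
    calc _ = k⁻¹ * (g * n * g⁻¹) * k := by group
      _ = k⁻¹ * (k * c * k⁻¹) * k := by rw [hg]
      _ = c := by group
  have := hy _ h1
  have e : (k⁻¹ * g)⁻¹ * y * (k⁻¹ * g) = g⁻¹ * (k * y * k⁻¹) * g := by group
  rwa [e] at this

theorem Fam_conj_iff {n c y k : G} {W : Subgroup G} :
    k⁻¹ * y * k ∈ Fam n W c ↔ y ∈ Fam n W (k * c * k⁻¹) := by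
  constructor
  · intro hy
    have := Fam_conj k hy
    have e : k * (k⁻¹ * y * k) * k⁻¹ = y := by group
    rwa [e] at this
  · intro hy
    have := Fam_conj k⁻¹ hy
    have e : k⁻¹ * (k * c * k⁻¹) * k⁻¹⁻¹ = c := by group
    rwa [e, inv_inv] at this

/-! ### `E = ⟨V ^ C(s)⟩` is elementary abelian -/

theorem v4_move : ∀ p : Equiv.Perm (Fin 5), V4p p → p ≠ 1 → ∃ y : Vec, y ∘ p.symm + y = ss + 1 := by
  intro p hp h1
  rcases hp with rfl | rfl | rfl | rfl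
  · exact absurd rfl h1
  · exact ⟨![1, 0, 1, 0, 0], by decide⟩
  · exact ⟨![1, 1, 0, 0, 0], by decide⟩
  · exact ⟨![1, 1, 0, 0, 0], by decide⟩

theorem v4_odd : ∀ p : Equiv.Perm (Fin 5), V4p p → ∀ x : Vec, x 0 + x 1 + x 2 + x 3 = 1 →
    x + x ∘ p.symm ≠ ss ∧ x + x ∘ p.symm ≠ ss + 1 := by
  intro p hp
  rcases hp with rfl | rfl | rfl | rfl <;> decide +kernel

/-- `{0}` -/
def oo : Vec := ![1, 0, 0, 0, 0]

theorem odd_add : ∀ x : Vec, x 0 + x 1 + x 2 + x 3 ≠ 1 →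
    (x + oo) 0 + (x + oo) 1 + (x + oo) 2 + (x + oo) 3 = 1 := by
  decide +kernel

section E

variable [Finite G] {S : Sylow 2 G} {V L : Subgroup G} {M : FiveMod V L} (t : Dih S M)
include t

theorem Qs_le_S : Q (M.e ss) ≤ (S : Subgroup G) :=
  o2_le_of_sylow S.isPGroup' (MinSimple.Basic.not_dvd_relIndex S fun _ hg => mem_C.2 (t.S_comm hg))

theorem Qs_ind {q : G} (hq : q ∈ Q (M.e ss)) : ∃ p, V4p p ∧ M.Ind q p :=
  Pos.Q_ind_aux t.S_le t.d8 (Qs_le_S t) hq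

theorem Qs_conj {m q : G} (hm : m * M.e ss = M.e ss * m) (hq : q ∈ Q (M.e ss)) :
    m * q * m⁻¹ ∈ Q (M.e ss) :=
  (mem_normalizer_iff.1 (le_normalizer_o2 _ (mem_C.2 hm)) _).1 hq

theorem Qs_conj' {m q : G} (hm : m * M.e ss = M.e ss * m) (hq : q ∈ Q (M.e ss)) :
    m⁻¹ * q * m ∈ Q (M.e ss) := by
  have h1 : m⁻¹ * M.e ss = M.e ss * m⁻¹ := by
    rw [inv_mul_eq_iff_eq_mul, ← mul_assoc, hm, mul_inv_cancel_right]
  have h2 := Qs_conj t h1 hq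
  rwa [inv_inv] at h2

theorem comm_odd (hV : V ≤ Q (M.e ss)) {m : G} (hm : m * M.e ss = M.e ss * m) {x : Vec}
    (hx : x 0 + x 1 + x 2 + x 3 = 1) {w : G} (hw : w ∈ cj m V) : M.e x * w = w * M.e x := by
  obtain ⟨p, hp, hi⟩ := Qs_ind t (Qs_conj' t hm (hV (M.e_mem x)))
  have hi' := M.cj_ind (g := m) hi
  have e : m * (m⁻¹ * M.e x * m) * m⁻¹ = M.e x := by group
  rw [e] at hi'
  by_cases h1 : p = 1
  · rw [h1] at hi'
    exact (mem_centralizer_iff.1 (FiveMod.ind_one_iff.1 hi') w hw).symm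
  · exfalso
    obtain ⟨y, hy⟩ := v4_move p hp h1
    have h2 := hi'.comm_eq y
    have h3 : (M.cj m).e (ss + 1) = M.e ss := by
      rw [M.cj_e, M.e_add, M.e_one, mul_one, hm, mul_inv_cancel_right]
    rw [hy, h3] at h2
    have h4 : (M.cj m).e y ∈ Q (M.e ss) := by
      rw [M.cj_e]
      exact Qs_conj t hm (hV (M.e_mem y))
    obtain ⟨q, hq, hj⟩ := Qs_ind t h4
    have h5 : M.e x * (M.cj m).e y * (M.e x)⁻¹ * ((M.cj m).e y)⁻¹ = M.e (x + x ∘ q.symm) := by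
      rw [M.e_add, ← hj x]
      have e2 : (M.e x)⁻¹ = M.e x := M.e_inv x
      rw [e2]
      group
    rw [h5] at h2
    rcases M.e_eq_iff.1 h2 with h6 | h6
    · exact (v4_odd q hq x hx).1 h6
    · exact (v4_odd q hq x hx).2 h6

theorem comm_conj (hV : V ≤ Q (M.e ss)) {m : G} (hm : m * M.e ss = M.e ss * m) {v w : G} (hv : v ∈ V)
    (hw : w ∈ cj m V) : v * w = w * v := by
  obtain ⟨x, rfl⟩ := (M.mem_iff v).1 hv
  by_cases hx : x 0 + x 1 + x 2 + x 3 = 1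
  · exact comm_odd t hV hm hx hw
  · have h1 := comm_odd t hV hm (odd_add x hx) hw
    have h2 := comm_odd t hV hm (x := oo) (by decide) hw
    have h3 : M.e x = M.e (x + oo) * M.e oo := by
      rw [← M.e_add, add_add_cancel']
    rw [h3, mul_assoc, h2, ← mul_assoc, h1, mul_assoc]

theorem E_comm (hV : V ≤ Q (M.e ss)) {u v : G} (hu : u ∈ WW V V (M.e ss)) (hv : v ∈ WW V V (M.e ss)) :
    u * v = v * u := by
  have key : ∀ g, g * M.e ss = M.e ss * g → ∀ k, k * M.e ss = M.e ss * k → ∀ v ∈ V, ∀ w ∈ V,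
      g * v * g⁻¹ * (k * w * k⁻¹) = k * w * k⁻¹ * (g * v * g⁻¹) := by
    intro g hg k hk v hv w hw
    have hg' : g⁻¹ * M.e ss = M.e ss * g⁻¹ := by
      rw [inv_mul_eq_iff_eq_mul, ← mul_assoc, hg, mul_inv_cancel_right]
    have h1 : g⁻¹ * k * M.e ss = M.e ss * (g⁻¹ * k) := by
      rw [mul_assoc, hk, ← mul_assoc, hg', mul_assoc]
    have h2 := comm_conj t hV h1 hv (w := (g⁻¹ * k) * w * (g⁻¹ * k)⁻¹) ⟨w, hw, rfl⟩
    calc g * v * g⁻¹ * (k * w * k⁻¹) = g * (v * ((g⁻¹ * k) * w * (g⁻¹ * k)⁻¹)) * g⁻¹ := by group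
      _ = g * (((g⁻¹ * k) * w * (g⁻¹ * k)⁻¹) * v) * g⁻¹ := by rw [h2]
      _ = k * w * k⁻¹ * (g * v * g⁻¹) := by group
  have h1 : WW V V (M.e ss) ≤ centralizer ({u} : Set G) := by
    have h2 : ∀ g, g * M.e ss = M.e ss * g → ∀ v ∈ V, g * v * g⁻¹ ∈ centralizer ({u} : Set G) := by
      intro g hg v hv
      have h3 : WW V V (M.e ss) ≤ centralizer ({g * v * g⁻¹} : Set G) := by
        have h4 : ∀ k, k * M.e ss = M.e ss * k → ∀ w ∈ V, k * w * k⁻¹ ∈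
            centralizer ({g * v * g⁻¹} : Set G) := fun k hk w hw => mem_C.2 (key k hk g hg w hw v hv)
        exact WW_le h4 h4
      exact mem_C.2 (mem_C.1 (h3 hu)).symm
    exact WW_le h2 h2
  exact (mem_C.1 (h1 hv)).symm

theorem E_sq (hV : V ≤ Q (M.e ss)) {u : G} (hu : u ∈ WW V V (M.e ss)) : u * u = 1 := by
  induction hu using closure_induction with
  | mem x hx =>
    obtain ⟨g, -, v, hv, rfl⟩ := hx
    have hv : v ∈ V := hv.elim id id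
    calc g * v * g⁻¹ * (g * v * g⁻¹) = g * (v * v) * g⁻¹ := by group
      _ = 1 := by rw [M.sq hv]; group
  | one => exact one_mul 1
  | mul x y hx hy h1 h2 =>
    have h3 : x * y = y * x := E_comm t hV hx hy
    calc x * y * (x * y) = x * (y * x) * y := by group
      _ = (x * x) * (y * y) := by rw [← h3]; group
      _ = 1 := by rw [h1, h2, one_mul]
  | inv x _ h1 => rw [← mul_inv_rev, h1, inv_one]

theorem E_isPGroup (hV : V ≤ Q (M.e ss)) : IsPGroup 2 (WW V V (M.e ss)) := by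
  rintro ⟨v, hv⟩
  refine ⟨1, Subtype.ext ?_⟩
  change v ^ (2 ^ 1) = 1
  rw [pow_one, pow_two]
  exact E_sq t hV hv

end E

/-! ### The main part -/

section main

variable [Finite G] {S : Sylow 2 G} {V₁ V₂ L₁ L₂ : Subgroup G} {M₁ : FiveMod V₁ L₁} {M₂ : FiveMod V₂ L₂}
  {h : G} (b : Base S M₁ M₂ h)
include b

theorem WWn_norm : ∀ g, g * M₁.e nn = M₁.e nn * g → ∀ w ∈ WW V₁ V₂ (M₁.e nn),
    g * w * g⁻¹ ∈ WW V₁ V₂ (M₁.e nn) := fun _ hg _ hw => WW_norm hg hw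

theorem mem_F_n {g y : G} : y ∈ Fam (M₁.e nn) (WW V₁ V₂ (M₁.e nn)) (g * M₁.e nn * g⁻¹) ↔
    g⁻¹ * y * g ∈ WW V₁ V₂ (M₁.e nn) := mem_Fam (WWn_norm b)

theorem mem_F_n' {y : G} : y ∈ Fam (M₁.e nn) (WW V₁ V₂ (M₁.e nn)) (M₁.e nn) ↔
    y ∈ WW V₁ V₂ (M₁.e nn) := by
  have h1 := mem_F_n b (g := 1) (y := y)
  simpa using h1

/-- the swap of `n` and `a` in `S` -/
theorem exists_x : ∃ x ∈ (S : Subgroup G), M₁.Ind x tt ∧ x * M₁.e nn * x⁻¹ = M₁.e aa ∧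
    x * M₁.e aa * x⁻¹ = M₁.e nn ∧ x * M₁.e ss = M₁.e ss * x ∧ x ∈ normalizer (V₁ : Set G) ∧
    x ∈ normalizer (V₂ : Set G) := by
  obtain ⟨x, hxS, hx⟩ := b.dih₁.exists_swap
  exact ⟨x, hxS, hx, Dih.tt_n hx, Dih.tt_a hx, b.dih₁.S_comm hxS, b.dih₁.S_norm hxS,
    b.dih₂.S_norm hxS⟩

/-- `x⁻¹ W_a x = W_n` -/
theorem conj_WWa {x y : G} (h1 : x * M₁.e nn * x⁻¹ = M₁.e aa) (h3 : x ∈ normalizer (V₁ : Set G))
    (h4 : x ∈ normalizer (V₂ : Set G)) : x⁻¹ * y * x ∈ WW V₁ V₂ (M₁.e nn) ↔ y ∈ WW V₁ V₂ (M₁.e aa) := by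
  constructor
  · intro hy
    have := WW_conj h3 h4 hy
    have e : x * (x⁻¹ * y * x) * x⁻¹ = y := by group
    rwa [e, h1] at this
  · intro hy
    have := WW_conj (inv_mem h3) (inv_mem h4) hy
    rw [inv_inv, ← h1] at this
    have e : x⁻¹ * (x * M₁.e nn * x⁻¹) * x = M₁.e nn := by group
    rwa [e] at this

theorem mem_F_a' {y : G} : y ∈ Fam (M₁.e nn) (WW V₁ V₂ (M₁.e nn)) (M₁.e aa) ↔
    y ∈ WW V₁ V₂ (M₁.e aa) := by
  obtain ⟨x, -, -, h1, -, -, h3, h4⟩ := exists_x b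
  rw [← conj_WWa b h1 h3 h4, ← mem_F_n b, h1]

theorem mem_F_a {g y : G} : y ∈ Fam (M₁.e nn) (WW V₁ V₂ (M₁.e nn)) (g * M₁.e aa * g⁻¹) ↔
    g⁻¹ * y * g ∈ WW V₁ V₂ (M₁.e aa) := by
  rw [← Fam_conj_iff, mem_F_a' b]

theorem WWn_le_S {w : G} (hw : w ∈ WW V₁ V₂ (M₁.e nn)) : w ∈ (S : Subgroup G) :=
  (b.Q_le_T (b.WW_le_Q hw)).1

theorem WWn_comm_n {w : G} (hw : w ∈ WW V₁ V₂ (M₁.e nn)) : w * M₁.e nn = M₁.e nn * w :=
  mem_C.1 (b.Q_le_T (b.WW_le_Q hw)).2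

theorem WWn_comm_s {w : G} (hw : w ∈ WW V₁ V₂ (M₁.e nn)) : w * M₁.e ss = M₁.e ss * w :=
  b.dih₁.S_comm (WWn_le_S b hw)

theorem WWa_comm_n {w : G} (hw : w ∈ WW V₁ V₂ (M₁.e aa)) : w * M₁.e nn = M₁.e nn * w :=
  mem_C.1 (b.Qa_le_T (b.WWa_le_Qa hw)).2

theorem WWa_comm_a {w : G} (hw : w ∈ WW V₁ V₂ (M₁.e aa)) : w * M₁.e aa = M₁.e aa * w :=
  mem_C.1 (o2_le _ (b.WWa_le_Qa hw))

omit b in
theorem comm_conj' {g w u : G} (h0 : g⁻¹ * w * g * u = u * (g⁻¹ * w * g)) :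
    w * (g * u * g⁻¹) = g * u * g⁻¹ * w := by
  calc w * (g * u * g⁻¹) = g * (g⁻¹ * w * g * u) * g⁻¹ := by group
    _ = g * u * g⁻¹ * w := by rw [h0]; group

omit b in
theorem act_conj {g w u c : G} (h0 : g⁻¹ * w * g * (g⁻¹ * u * g) * (g⁻¹ * w * g)⁻¹ * (g⁻¹ * u * g)⁻¹ = 1 ∨
    g⁻¹ * w * g * (g⁻¹ * u * g) * (g⁻¹ * w * g)⁻¹ * (g⁻¹ * u * g)⁻¹ = c)
    (hc : g * c * g⁻¹ * u = u * (g * c * g⁻¹)) :
    w * u * w⁻¹ = u ∨ w * u * w⁻¹ = u * (g * c * g⁻¹) := by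
  have e : w * u * w⁻¹ * u⁻¹ = g * (g⁻¹ * w * g * (g⁻¹ * u * g) * (g⁻¹ * w * g)⁻¹ * (g⁻¹ * u * g)⁻¹) * g⁻¹ := by
    group
  rcases h0 with h0 | h0
  · left
    rw [h0] at e
    have e2 : g * 1 * g⁻¹ = 1 := by group
    rw [e2] at e
    exact mul_inv_eq_one.1 e
  · right
    rw [h0] at e
    rw [← hc]
    exact mul_inv_eq_iff_eq_mul.1 e

/-- the calculus on `E = ⟨V₁ ^ C(s)⟩` -/
theorem calcM (hV : V₁ ≤ Q (M₁.e ss)) (hE : WW V₁ V₁ (M₁.e ss) ≤ Q (M₁.e nn)) :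
    Calc.Dat (centralizer ({M₁.e ss} : Set G)) (WW V₁ V₁ (M₁.e ss))
      (cls (centralizer ({M₁.e ss} : Set G)) (M₁.e nn)) (Fam (M₁.e nn) (WW V₁ V₂ (M₁.e nn))) where
  comm u hu v hv := E_comm b.dih₁ hV hu hv
  sq u hu := E_sq b.dih₁ hV hu
  norm g hg u hu := WW_norm (mem_C.1 hg) hu
  OmA := by
    rintro _ ⟨g, hg, rfl⟩
    exact mem_WW₁ (mem_C.1 hg) (M₁.e_mem _)
  OmX := by
    rintro k hk _ ⟨g, hg, rfl⟩
    exact ⟨k * g, mul_mem hk hg, by group⟩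
  trans := by
    rintro _ ⟨g, hg, rfl⟩ _ ⟨k, hk, rfl⟩
    exact ⟨k * g⁻¹, mul_mem hk (inv_mem hg), by group⟩
  WX := by
    rintro _ ⟨g, hg, rfl⟩ w hw
    rw [mem_F_n b] at hw
    have h1 := mem_C.2 (WWn_comm_s b hw)
    have h2 := mul_mem (mul_mem hg h1) (inv_mem hg)
    have e : g * (g⁻¹ * w * g) * g⁻¹ = w := by group
    rwa [e] at h2
  eqv g hg c hc w hw := Fam_conj g hw
  cen := by
    rintro _ ⟨g, hg, rfl⟩ w hw
    rw [mem_F_n b] at hw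
    exact comm_conj' (WWn_comm_n b hw)
  act := by
    rintro _ ⟨g, hg, rfl⟩ w hw u hu
    rw [mem_F_n b] at hw
    have hg' : g⁻¹ * M₁.e ss = M₁.e ss * g⁻¹ := mem_C.1 (inv_mem hg)
    have h1 : g⁻¹ * u * g ∈ WW V₁ V₁ (M₁.e ss) := by
      have := WW_norm hg' hu
      rwa [inv_inv] at this
    exact act_conj (b.WW_comm hw (hE h1))
      (E_comm b.dih₁ hV (mem_WW₁ (mem_C.1 hg) (M₁.e_mem _)) hu)

/-- `C(s)` moves `n` to `{0 2}` -/
theorem mm_mem : M₁.e mm ∈ cls (centralizer ({M₁.e ss} : Set G)) (M₁.e nn) := by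
  obtain ⟨g, -, hg⟩ := M₁.exists_lift (Equiv.swap 1 2)
  have hg : M₁.Ind g (Equiv.swap 1 2) := hg
  refine ⟨g, mem_C.2 ((hg.commute_iff _).2 (Or.inl (by decide))), ?_⟩
  rw [hg nn]
  congr 1
  decide

/-- for `w ∈ W_n`: `w ∈ C(V₁)` iff `w` commutes with `{0 2}` -/
theorem n_cent_iff {w : G} (hw : w ∈ WW V₁ V₂ (M₁.e nn)) : w ∈ centralizer (V₁ : Set G) ↔
    w * M₁.e mm = M₁.e mm * w := by
  obtain ⟨p, hp, hi⟩ := b.Q_ind₁ (b.WW_le_Q hw)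
  rw [hi.commute_iff, ← FiveMod.ind_one_iff (M := M₁)]
  rcases hp with rfl | rfl
  · exact ⟨fun _ => Or.inl rfl, fun _ => hi⟩
  · constructor
    · intro h1
      exact absurd (FiveMod.Ind.unique h1 hi) (by decide)
    · intro h1
      exact absurd h1 (by decide)

theorem a_cent_iff_mm {w : G} (hw : w ∈ WW V₁ V₂ (M₁.e aa)) : w ∈ centralizer (V₁ : Set G) ↔
    w * M₁.e mm = M₁.e mm * w := by
  obtain ⟨p, hp, hi⟩ := b.Qa_ind₁ (b.WWa_le_Qa hw)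
  rw [hi.commute_iff, ← FiveMod.ind_one_iff (M := M₁)]
  rcases hp with rfl | rfl
  · exact ⟨fun _ => Or.inl rfl, fun _ => hi⟩
  · constructor
    · intro h1
      exact absurd (FiveMod.Ind.unique h1 hi) (by decide)
    · intro h1
      exact absurd h1 (by decide)

theorem a_cent_iff {w : G} (hw : w ∈ WW V₁ V₂ (M₁.e aa)) : w ∈ centralizer (V₁ : Set G) ↔
    w * M₁.e bb = M₁.e bb * w := by
  obtain ⟨p, hp, hi⟩ := b.Qa_ind₁ (b.WWa_le_Qa hw)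
  rw [hi.commute_iff, ← FiveMod.ind_one_iff (M := M₁)]
  rcases hp with rfl | rfl
  · exact ⟨fun _ => Or.inl rfl, fun _ => hi⟩
  · constructor
    · intro h1
      exact absurd (FiveMod.Ind.unique h1 hi) (by decide)
    · intro h1
      exact absurd h1 (by decide)

/-- **(1)** `C_{W_n}(V₁) = C_{W_n}(n ^ C(s))` -/
theorem one_n (hV : V₁ ≤ Q (M₁.e ss)) (hE : WW V₁ V₁ (M₁.e ss) ≤ Q (M₁.e nn)) {w : G}
    (hw : w ∈ WW V₁ V₂ (M₁.e nn)) (h1 : w ∈ centralizer (V₁ : Set G)) :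
    ∀ d ∈ cls (centralizer ({M₁.e ss} : Set G)) (M₁.e nn), w * d = d * w := by
  have hcal := calcM b hV hE
  have hna : M₁.e nn ∈ cls (centralizer ({M₁.e ss} : Set G)) (M₁.e nn) := ⟨1, one_mem _, by group⟩
  obtain ⟨x, -, -, hx1, -, hx3, -, -⟩ := exists_x b
  obtain ⟨k, hk, hki⟩ := b.exists_move₁
  refine hcal.all (s := M₁.e ss) hna (le_WW₁ V₁ V₁ _ (M₁.e_mem _)) ?_ ?_ ?_ (mm_mem b) ?_ w ((mem_F_n' b).2 hw)
    ((n_cent_iff b hw).1 h1)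
  · rintro _ ⟨g, hg, rfl⟩
    refine ⟨g * x, mul_mem hg (mem_C.2 hx3), ?_⟩
    have e : g * x * M₁.e nn * (g * x)⁻¹ = g * (x * M₁.e nn * x⁻¹) * g⁻¹ := by group
    rw [e, hx1, ← ns M₁]
    have e2 : g * (M₁.e nn * M₁.e ss) * g⁻¹ = g * M₁.e nn * g⁻¹ * (g * M₁.e ss * g⁻¹) := by group
    rw [e2, mem_C.1 hg, mul_inv_cancel_right]
  · intro c hc v hv
    exact mem_C.1 (hcal.WX c hc v hv)
  · refine ⟨k, (mem_F_n' b).2 hk, fun k' hk' => ⟨M₁.e oo, le_WW₁ V₁ V₁ _ (M₁.e_mem _), ?_⟩⟩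
    rw [ns M₁, mem_F_a' b] at hk'
    obtain ⟨p, hp, hi⟩ := b.Qa_ind₁ (b.WWa_le_Qa hk')
    rw [hi.commute_iff, hki.commute_iff]
    rcases hp with rfl | rfl <;> decide
  · refine ⟨k, (mem_F_n' b).2 hk, ?_⟩
    rw [Ne, hki.commute_iff]
    decide

/-- **(1)** for `a`: `C_{W_a}(V₁) = C_{W_a}(n ^ C(s))` -/
theorem one_a (hV : V₁ ≤ Q (M₁.e ss)) (hE : WW V₁ V₁ (M₁.e ss) ≤ Q (M₁.e nn)) {w : G}
    (hw : w ∈ WW V₁ V₂ (M₁.e aa)) : w ∈ centralizer (V₁ : Set G) ↔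
    ∀ d ∈ cls (centralizer ({M₁.e ss} : Set G)) (M₁.e nn), w * d = d * w := by
  constructor
  · intro h1 d hd
    obtain ⟨x, -, -, hx1, -, hx3, hx4, hx5⟩ := exists_x b
    have h2 := (conj_WWa b hx1 hx4 hx5).2 hw
    have h3 : x⁻¹ * w * x ∈ centralizer (V₁ : Set G) := by
      rw [mem_centralizer_iff] at h1 ⊢
      intro v hv
      have h4 := h1 _ ((mem_normalizer_iff.1 hx4 v).1 hv)
      calc v * (x⁻¹ * w * x) = x⁻¹ * (x * v * x⁻¹ * w) * x := by group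
        _ = x⁻¹ * (w * (x * v * x⁻¹)) * x := by rw [h4]
        _ = x⁻¹ * w * x * v := by group
    obtain ⟨g, hg, rfl⟩ := hd
    have h4 := one_n b hV hE h2 h3 (x⁻¹ * g * M₁.e nn * (x⁻¹ * g)⁻¹)
      ⟨x⁻¹ * g, mul_mem (inv_mem (mem_C.2 hx3)) hg, rfl⟩
    have h5 := comm_conj' h4
    have e : x * (x⁻¹ * g * M₁.e nn * (x⁻¹ * g)⁻¹) * x⁻¹ = g * M₁.e nn * g⁻¹ := by group
    rwa [e] at h5
  · intro h1
    exact (a_cent_iff_mm b hw).2 (h1 _ (mm_mem b))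

/-! ### The calculus on `U_n` -/

omit b [Finite G] in
theorem mem_Q_conj {g y c : G} : g⁻¹ * y * g ∈ Q c ↔ y ∈ Q (g * c * g⁻¹) := by
  rw [Q, Q, ← o2_conj g c, mem_cj]

omit b [Finite G] in
theorem cent_conj_iff {V : Subgroup G} {g y : G} (hg : g ∈ normalizer (V : Set G)) :
    g⁻¹ * y * g ∈ centralizer (V : Set G) ↔ y ∈ centralizer (V : Set G) := by
  have key : ∀ g ∈ normalizer (V : Set G), ∀ y ∈ centralizer (V : Set G),
      g⁻¹ * y * g ∈ centralizer (V : Set G) := by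
    intro g hg y hy
    rw [mem_centralizer_iff] at hy ⊢
    intro v hv
    have h4 := hy _ ((mem_normalizer_iff.1 hg v).1 hv)
    calc v * (g⁻¹ * y * g) = g⁻¹ * (g * v * g⁻¹ * y) * g := by group
      _ = g⁻¹ * (y * (g * v * g⁻¹)) * g := by rw [h4]
      _ = g⁻¹ * y * g * v := by group
  constructor
  · intro h1
    have h2 := key g⁻¹ (inv_mem hg) _ h1
    have e : g⁻¹⁻¹ * (g⁻¹ * y * g) * g⁻¹ = y := by group
    rwa [e] at h2
  · exact key g hg y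

/-- the calculus on `U_n` -/
theorem calcN (hU : UU (M₁.e nn) (M₁.e aa) ≤ Q (M₁.e aa)) :
    Calc.Dat (centralizer ({M₁.e nn} : Set G)) (UU (M₁.e nn) (M₁.e aa))
      (cls (centralizer ({M₁.e nn} : Set G)) (M₁.e aa)) (Fam (M₁.e nn) (WW V₁ V₂ (M₁.e nn))) where
  comm u hu v hv := b.UU_comm hu hv
  sq u hu := b.UU_sq hu
  norm g hg u hu := UU_norm (mem_C.1 hg) hu
  OmA := by
    rintro _ ⟨g, hg, rfl⟩
    exact mem_UU (mem_C.1 hg)
  OmX := by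
    rintro k hk _ ⟨g, hg, rfl⟩
    exact ⟨k * g, mul_mem hk hg, by group⟩
  trans := by
    rintro _ ⟨g, hg, rfl⟩ _ ⟨k, hk, rfl⟩
    exact ⟨k * g⁻¹, mul_mem hk (inv_mem hg), by group⟩
  WX := by
    rintro _ ⟨g, hg, rfl⟩ w hw
    rw [mem_F_a b] at hw
    have h1 := mem_C.2 (WWa_comm_n b hw)
    have h2 := mul_mem (mul_mem hg h1) (inv_mem hg)
    have e : g * (g⁻¹ * w * g) * g⁻¹ = w := by group
    rwa [e] at h2
  eqv g hg c hc w hw := Fam_conj g hw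
  cen := by
    rintro _ ⟨g, hg, rfl⟩ w hw
    rw [mem_F_a b] at hw
    exact comm_conj' (WWa_comm_a b hw)
  act := by
    rintro _ ⟨g, hg, rfl⟩ w hw u hu
    rw [mem_F_a b] at hw
    have hg' : g⁻¹ * M₁.e nn = M₁.e nn * g⁻¹ := mem_C.1 (inv_mem hg)
    have h1 : g⁻¹ * u * g ∈ UU (M₁.e nn) (M₁.e aa) := by
      have := UU_norm hg' hu
      rwa [inv_inv] at this
    exact act_conj (b.WWa_comm hw (hU h1)) (b.UU_comm (mem_UU (mem_C.1 hg)) hu)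

theorem bb_mem : ∃ g, g ∈ centralizer ({M₁.e nn} : Set G) ∧ g ∈ normalizer (V₁ : Set G) ∧
    M₁.e bb = g * M₁.e aa * g⁻¹ := by
  obtain ⟨g, -, hg⟩ := M₁.exists_lift (Equiv.swap 3 4)
  have hg : M₁.Ind g (Equiv.swap 3 4) := hg
  refine ⟨g, mem_C.2 ((hg.commute_iff _).2 (Or.inl (by decide))), hg.mem_normalizer, ?_⟩
  rw [hg aa]
  congr 1
  decide

theorem cc_mem : ∃ g, g ∈ centralizer ({M₁.e nn} : Set G) ∧ g ∈ normalizer (V₁ : Set G) ∧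
    M₁.e cc = g * M₁.e aa * g⁻¹ := by
  obtain ⟨g, -, hg⟩ := M₁.exists_lift (Equiv.swap 2 4)
  have hg : M₁.Ind g (Equiv.swap 2 4) := hg
  refine ⟨g, mem_C.2 ((hg.commute_iff _).2 (Or.inl (by decide))), hg.mem_normalizer, ?_⟩
  rw [hg aa]
  congr 1
  decide

theorem ab : M₁.e aa * M₁.e bb = M₁.e cc := by
  rw [← M₁.e_add]
  congr 1
  decide

theorem comm_s_of {y : G} (h1 : y * M₁.e nn = M₁.e nn * y) (h2 : y * M₁.e aa = M₁.e aa * y) :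
    y * M₁.e ss = M₁.e ss * y := by
  rw [← na M₁, ← mul_assoc, h1, mul_assoc, h2, ← mul_assoc]

/-- (A8) from `Δ(a) = b ^ Y` and (1) -/
theorem eight (hV : V₁ ≤ Q (M₁.e ss)) (hE : WW V₁ V₁ (M₁.e ss) ≤ Q (M₁.e nn))
    (hi : ∀ d ∈ cls (centralizer ({M₁.e nn} : Set G)) (M₁.e aa),
      (∃ w ∈ Fam (M₁.e nn) (WW V₁ V₂ (M₁.e nn)) (M₁.e aa), w * d ≠ d * w) →
      ∃ y ∈ centralizer ({M₁.e nn} : Set G), y * M₁.e aa = M₁.e aa * y ∧ d = y * M₁.e bb * y⁻¹) :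
    ∀ d ∈ cls (centralizer ({M₁.e nn} : Set G)) (M₁.e aa),
      (∃ w ∈ Fam (M₁.e nn) (WW V₁ V₂ (M₁.e nn)) (M₁.e aa), w * d ≠ d * w) →
      ∀ w ∈ Fam (M₁.e nn) (WW V₁ V₂ (M₁.e nn)) (M₁.e aa),
        (w * d = d * w ↔ w * M₁.e bb = M₁.e bb * w) := by
  intro d hd hj w hw
  obtain ⟨y, hy, hya, rfl⟩ := hi d hd hj
  have hys := comm_s_of b (mem_C.1 hy) hya
  rw [mem_F_a' b] at hw
  have hya' : y⁻¹ * M₁.e aa = M₁.e aa * y⁻¹ := by
    rw [inv_mul_eq_iff_eq_mul, ← mul_assoc, hya, mul_inv_cancel_right]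
  have hw' : y⁻¹ * w * y ∈ WW V₁ V₂ (M₁.e aa) := by
    have := WW_norm hya' hw
    rwa [inv_inv] at this
  have h1 : w * (y * M₁.e bb * y⁻¹) = y * M₁.e bb * y⁻¹ * w ↔
      y⁻¹ * w * y * M₁.e bb = M₁.e bb * (y⁻¹ * w * y) := by
    have := comm_conj_iff (g := y⁻¹) (w := w) (u := M₁.e bb)
    rw [inv_inv] at this
    exact this.symm
  rw [h1, ← a_cent_iff b hw', ← a_cent_iff b hw, one_a b hV hE hw', one_a b hV hE hw]
  constructor
  · rintro h2 _ ⟨g, hg, rfl⟩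
    have h3 := comm_conj' (h2 (y⁻¹ * g * M₁.e nn * (y⁻¹ * g)⁻¹)
      ⟨y⁻¹ * g, mul_mem (inv_mem (mem_C.2 hys)) hg, rfl⟩)
    have e : y * (y⁻¹ * g * M₁.e nn * (y⁻¹ * g)⁻¹) * y⁻¹ = g * M₁.e nn * g⁻¹ := by group
    rwa [e] at h3
  · rintro h2 _ ⟨g, hg, rfl⟩
    have h3 := h2 (y * g * M₁.e nn * (y * g)⁻¹) ⟨y * g, mul_mem (mem_C.2 hys) hg, rfl⟩
    have h4 := (comm_conj_iff (g := y⁻¹) (w := w) (u := g * M₁.e nn * g⁻¹)).2 (by
      rw [inv_inv]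
      have e : y * (g * M₁.e nn * g⁻¹) * y⁻¹ = y * g * M₁.e nn * (y * g)⁻¹ := by group
      rw [e]
      exact h3)
    rwa [inv_inv] at h4

/-- `W_a ∩ Q_n = C_{W_a}(V₁)` -/
theorem a_mem_Q_iff (hV : V₁ ≤ Q (M₁.e ss)) (hE : WW V₁ V₁ (M₁.e ss) ≤ Q (M₁.e nn))
    (hi : ∀ d ∈ cls (centralizer ({M₁.e nn} : Set G)) (M₁.e aa),
      (∃ w ∈ Fam (M₁.e nn) (WW V₁ V₂ (M₁.e nn)) (M₁.e aa), w * d ≠ d * w) →
      ∃ y ∈ centralizer ({M₁.e nn} : Set G), y * M₁.e aa = M₁.e aa * y ∧ d = y * M₁.e bb * y⁻¹)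
    {w : G} (hw : w ∈ WW V₁ V₂ (M₁.e aa)) : w ∈ Q (M₁.e nn) ↔ w ∈ centralizer (V₁ : Set G) := by
  rw [a_cent_iff b hw]
  constructor
  · intro h1
    exact ((b.mem_Q_iff hw).1 h1 _ (b.perp_mem₁ (x := bb) (by decide))).symm
  · intro h1
    rw [b.mem_Q_iff hw]
    have h2 : UU (M₁.e nn) (M₁.e aa) ≤ centralizer ({w} : Set G) := by
      refine UU_le (mem_C.2 (WWa_comm_n b hw).symm) fun g hg => mem_C.2 ?_
      have hF := (mem_F_a' b).2 hw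
      by_cases h3 : w * (g * M₁.e aa * g⁻¹) = g * M₁.e aa * g⁻¹ * w
      · exact h3.symm
      · exact absurd ((eight b hV hE hi _ ⟨g, mem_C.2 hg, rfl⟩ ⟨w, hF, h3⟩ w hF).2 h1) h3
    exact fun u hu => mem_C.1 (h2 hu)

/-- `W_n ∩ Q_a = C_{W_n}(V₁)` -/
theorem n_mem_Q_iff (hV : V₁ ≤ Q (M₁.e ss)) (hE : WW V₁ V₁ (M₁.e ss) ≤ Q (M₁.e nn))
    (hi : ∀ d ∈ cls (centralizer ({M₁.e nn} : Set G)) (M₁.e aa),
      (∃ w ∈ Fam (M₁.e nn) (WW V₁ V₂ (M₁.e nn)) (M₁.e aa), w * d ≠ d * w) →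
      ∃ y ∈ centralizer ({M₁.e nn} : Set G), y * M₁.e aa = M₁.e aa * y ∧ d = y * M₁.e bb * y⁻¹)
    {w : G} (hw : w ∈ WW V₁ V₂ (M₁.e nn)) : w ∈ Q (M₁.e aa) ↔ w ∈ centralizer (V₁ : Set G) := by
  obtain ⟨x, -, -, h1, h2, -, h3, h4⟩ := exists_x b
  have e : x⁻¹ * (x * w * x⁻¹) * x = w := by group
  have h5 : x * w * x⁻¹ ∈ WW V₁ V₂ (M₁.e aa) := by
    rw [← conj_WWa b h1 h3 h4, e]
    exact hw
  have h6 := a_mem_Q_iff b hV hE hi h5
  rw [← cent_conj_iff h3, e, ← h2, ← mem_Q_conj, e] at h6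
  exact h6

theorem n_ind {w : G} (hw : w ∈ WW V₁ V₂ (M₁.e nn)) (h1 : w ∉ centralizer (V₁ : Set G)) :
    M₁.Ind w (Equiv.swap 0 1) := by
  obtain ⟨p, hp, hi⟩ := b.Q_ind₁ (b.WW_le_Q hw)
  rcases hp with rfl | rfl
  · exact absurd (FiveMod.ind_one_iff.1 hi) h1
  · exact hi

/-- the data of `ChiConst` -/
theorem chi (hV : V₁ ≤ Q (M₁.e ss)) (hE : WW V₁ V₁ (M₁.e ss) ≤ Q (M₁.e nn))
    (hU : UU (M₁.e nn) (M₁.e aa) ≤ Q (M₁.e aa))
    (hi : ∀ d ∈ cls (centralizer ({M₁.e nn} : Set G)) (M₁.e aa),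
      (∃ w ∈ Fam (M₁.e nn) (WW V₁ V₂ (M₁.e nn)) (M₁.e aa), w * d ≠ d * w) →
      ∃ y ∈ centralizer ({M₁.e nn} : Set G), y * M₁.e aa = M₁.e aa * y ∧ d = y * M₁.e bb * y⁻¹) :
    Cfsg.Agent.Omega.S5.ChiConst.Dat (M₁.e nn) (M₁.e aa) (M₁.e bb) (centralizer ({M₁.e nn} : Set G))
      (UU (M₁.e nn) (M₁.e aa)) (WW V₁ V₂ (M₁.e nn)) (Fam (M₁.e nn) (WW V₁ V₂ (M₁.e nn))) Q where
  nN g hg := mem_C.1 hg
  UN g hg u hu := UU_norm (mem_C.1 hg) hu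
  Ucomm u hu v hv := b.UU_comm hu hv
  Usq u hu := b.UU_sq hu
  nU := self_mem_UU _ _
  aU := mem_UU_self _ _
  WN g hg y hy := WW_norm (mem_C.1 hg) hy
  WfN w hw := mem_C.2 (WWa_comm_n b ((mem_F_a' b).1 hw))
  Wf_eqv g hg c hc w hw := Fam_conj g hw
  O_eqv g hg c hc y hy := by
    rw [← mem_Q_conj]
    have e : g⁻¹ * (g * y * g⁻¹) * g = y := by group
    rwa [e]
  act w hw u hu := (calcN b hU).act _ ⟨1, one_mem _, by group⟩ w hw u hu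
  sym := (calcN b hU).sym
  idx y hy y' hy' h1 h2 := by
    rw [n_mem_Q_iff b hV hE hi hy] at h1
    rw [n_mem_Q_iff b hV hE hi hy'] at h2
    rw [n_mem_Q_iff b hV hE hi (mul_mem hy hy')]
    have h3 := (n_ind b hy h1).mul (n_ind b hy' h2)
    rw [Equiv.swap_mul_self] at h3
    exact FiveMod.ind_one_iff.1 h3
  out := by
    obtain ⟨k, hk, hki⟩ := b.exists_move₁
    refine ⟨k, hk, ?_⟩
    rw [n_mem_Q_iff b hV hE hi hk]
    intro h0
    exact absurd (FiveMod.Ind.unique (FiveMod.ind_one_iff.2 h0) hki) (by decide)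
  hyp y hy hyO w hw := by
    rw [mem_F_a' b] at hw
    have h1 := b.WWa_comm hw hyO
    have h2 : y * M₁.e aa = M₁.e aa * y := mem_C.1 (o2_le _ hyO)
    rcases h1 with h1 | h1
    · exact Or.inl (mul_inv_eq_one.1 h1)
    · right
      rw [h2]
      exact mul_inv_eq_iff_eq_mul.1 h1
  aW := le_WW₁ V₁ V₂ _ (M₁.e_mem _)
  aO := by
    rintro _ ⟨g, hg, rfl⟩
    rw [← mem_Q_conj]
    refine hU ?_
    have hg' : g⁻¹ * M₁.e nn = M₁.e nn * g⁻¹ := mem_C.1 (inv_mem hg)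
    have := UU_norm hg' (mem_UU_self (M₁.e nn) (M₁.e aa))
    rwa [inv_inv] at this
  bA := by
    obtain ⟨g, hg, -, h1⟩ := bb_mem b
    exact ⟨g, hg, h1⟩
  bO y hy := by
    obtain ⟨g, hg, hgV, h1⟩ := bb_mem b
    have hg' : g⁻¹ * M₁.e nn = M₁.e nn * g⁻¹ := mem_C.1 (inv_mem hg)
    have h2 : g⁻¹ * y * g ∈ WW V₁ V₂ (M₁.e nn) := by
      have := WW_norm hg' hy
      rwa [inv_inv] at this
    rw [h1, ← mem_Q_conj, n_mem_Q_iff b hV hE hi h2, cent_conj_iff hgV, n_mem_Q_iff b hV hE hi hy]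
  abO y hy := by
    obtain ⟨g, hg, hgV, h1⟩ := cc_mem b
    have hg' : g⁻¹ * M₁.e nn = M₁.e nn * g⁻¹ := mem_C.1 (inv_mem hg)
    have h2 : g⁻¹ * y * g ∈ WW V₁ V₂ (M₁.e nn) := by
      have := WW_norm hg' hy
      rwa [inv_inv] at this
    rw [ab b, h1, ← mem_Q_conj, n_mem_Q_iff b hV hE hi h2, cent_conj_iff hgV, n_mem_Q_iff b hV hE hi hy]
  mov := by
    obtain ⟨k, hk, hki⟩ := b.exists_move_a₁
    refine ⟨k, (mem_F_a' b).2 hk, ?_⟩
    rw [Ne, hki.commute_iff]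
    decide
  eight := eight b hV hE hi

/-- the end of B1 -/
theorem false_of' (hV : V₁ ≤ Q (M₁.e ss)) (hE : WW V₁ V₁ (M₁.e ss) ≤ Q (M₁.e nn))
    (hU : UU (M₁.e nn) (M₁.e aa) ≤ Q (M₁.e aa))
    (hi : ∀ d ∈ cls (centralizer ({M₁.e nn} : Set G)) (M₁.e aa),
      (∃ w ∈ Fam (M₁.e nn) (WW V₁ V₂ (M₁.e nn)) (M₁.e aa), w * d ≠ d * w) →
      ∃ y ∈ centralizer ({M₁.e nn} : Set G), y * M₁.e aa = M₁.e aa * y ∧ d = y * M₁.e bb * y⁻¹) :
    False := by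
  have hc := (chi b hV hE hU hi).const (T := (S : Subgroup G) ⊓ centralizer ({M₁.e nn} : Set G))
    (by
      rintro ⟨g, -, h0⟩
      refine a_ne M₁ ?_
      have h1 : g⁻¹ * 1 * g = M₁.e aa := by rw [h0]; group
      rw [← h1]; group)
    (by
      rintro ⟨g, hg, h0⟩
      exact Base.conj_a_ne_n (mem_C.1 hg) h0.symm)
    (by
      rintro ⟨g, hg, h0⟩
      rw [na] at h0
      exact b.conj_a_ne_s g h0.symm)
    (S.isPGroup'.to_le inf_le_left) inf_le_right (fun t ht => b.dih₁.T_comm_a ht)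
    (fun u hu hT => by rw [na]; exact b.mem_E4 hu hT)
  obtain ⟨v, hv, hvi⟩ := b.ex
  have hhn : h ∈ centralizer ({M₁.e nn} : Set G) := mem_C.2 b.hn
  have hvW : v ∈ WW V₁ V₂ (M₁.e nn) := by
    rw [mem_cj] at hv
    have h1 := mem_WW₂ (V₁ := V₁) (V₂ := V₂) b.hn hv
    have h2 : h * (h⁻¹ * v * h) * h⁻¹ = v := by group
    rwa [h2] at h1
  have h1 := hc (h * M₁.e aa * h⁻¹) ⟨h, hhn, rfl⟩ v hvW
  rw [← mem_Q_conj, n_mem_Q_iff b hV hE hi hvW] at h1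
  rw [mem_cj] at hv
  have h2 := h1.1 (b.WWa_le_Qa (le_WW₂ V₁ V₂ _ hv))
  exact absurd (FiveMod.Ind.unique (FiveMod.ind_one_iff.2 h2) hvi) (by decide)

/-- (B0)(iv): `E ≤ Q_n` if `E` centralises `a ^ C(n)` -/
theorem E_le_Qn (hV : V₁ ≤ Q (M₁.e ss)) (hK : ∀ k ∈ WW V₁ V₁ (M₁.e ss),
    ∀ c ∈ cls (centralizer ({M₁.e nn} : Set G)) (M₁.e aa), k * c = c * k) :
    WW V₁ V₁ (M₁.e ss) ≤ Q (M₁.e nn) := by
  have h1 : WW V₁ V₁ (M₁.e ss) ≤ centralizer (UU (M₁.e nn) (M₁.e aa) : Set G) := by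
    intro k hk
    rw [mem_centralizer_iff]
    have h2 : UU (M₁.e nn) (M₁.e aa) ≤ centralizer ({k} : Set G) :=
      UU_le (mem_C.2 (E_comm b.dih₁ hV (le_WW₁ V₁ V₁ _ (M₁.e_mem _)) hk))
        fun g hg => mem_C.2 (hK k hk _ ⟨g, mem_C.2 hg, rfl⟩).symm
    exact fun u hu => mem_C.1 (h2 hu)
  have h2 : WW V₁ V₁ (M₁.e ss) ≤ o2 (centralizer (UU (M₁.e nn) (M₁.e aa) : Set G)) := by
    refine le_o2 h1 (E_isPGroup b.dih₁ hV) ?_
    intro x hx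
    have hx' := mem_inf.1 (b.centralizer_UU_le hx)
    have hxs := comm_s_of b (mem_C.1 hx'.1) (mem_C.1 hx'.2)
    refine mem_normalizer_of_cj_le ?_
    rintro _ ⟨w, hw, rfl⟩
    exact WW_norm hxs hw
  refine h2.trans (le_o2 ((o2_le _).trans (b.centralizer_UU_le.trans inf_le_left)) (o2_isPGroup _) ?_)
  exact b.normalizer_centralizer_UU.trans (normalizer_le_normalizer_o2' _)

end main

end Cfsg.Agent.Omega.TTn.BOne

end

section


/-!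
# T-T, `n` not 2-central, `A ≤ O₂(C(s))`, `U_n ≤ O₂(C(a))`, arbitrary `V₀` (#15257 (5))

THEOREM B1 (helper429) without `zc S ≤ V`: `V₀` is a subgroup centralised by `S` and by the elements of `L₁`,
the elements of `U_n` centralised by `T = C_S(n)` lie in `V₀ {1, n, a, s}`, and `a` is the only member of `a ^ C(n)`
centralised by `T`.
-/

set_option autoImplicit false
set_option linter.unusedSectionVars false

namespace Cfsg.Agent.Omega.TTn.Z.BOne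

open Subgroup Cfsg Cfsg.Agent.ZN Cfsg.Agent.ZN.ChoiceBase
open Cfsg.Agent.Omega.S5.Mod Cfsg.Agent.Omega.S5.TT
open Cfsg.Agent.Omega.S5.TT.Pos (na ns as sn n_ne s_ne a_ne n_ne_a n_ne_s a_ne_s e_sq' mem_C)
open Cfsg.Agent.MinSimple.VModule (o2_isPGroup le_o2 o2_le le_normalizer_o2 o2_le_of_sylow
  normalizer_le_normalizer_zc)
open Cfsg.Agent.Omega.S5.ChiConst (cls)
open Cfsg.Agent.Omega.TTn.Calc (conj_eq_iff comm_conj_iff)
open Cfsg.Agent.Omega.TTn.BOne (Fam mem_Fam Fam_conj Fam_conj_iff v4_move v4_odd oo odd_add)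

universe u

variable {G : Type u} [Group G]

section E

variable [Finite G] {S : Sylow 2 G} {V L : Subgroup G} {M : FiveMod V L} (t : Dih S M)
include t

theorem Qs_le_S : Q (M.e ss) ≤ (S : Subgroup G) :=
  o2_le_of_sylow S.isPGroup' (MinSimple.Basic.not_dvd_relIndex S fun _ hg => mem_C.2 (t.S_comm hg))

theorem Qs_ind {q : G} (hq : q ∈ Q (M.e ss)) : ∃ p, V4p p ∧ M.Ind q p :=
  Pos.Q_ind_aux t.S_le t.d8 (Qs_le_S t) hq

theorem Qs_conj {m q : G} (hm : m * M.e ss = M.e ss * m) (hq : q ∈ Q (M.e ss)) :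
    m * q * m⁻¹ ∈ Q (M.e ss) :=
  (mem_normalizer_iff.1 (le_normalizer_o2 _ (mem_C.2 hm)) _).1 hq

theorem Qs_conj' {m q : G} (hm : m * M.e ss = M.e ss * m) (hq : q ∈ Q (M.e ss)) :
    m⁻¹ * q * m ∈ Q (M.e ss) := by
  have h1 : m⁻¹ * M.e ss = M.e ss * m⁻¹ := by
    rw [inv_mul_eq_iff_eq_mul, ← mul_assoc, hm, mul_inv_cancel_right]
  have h2 := Qs_conj t h1 hq
  rwa [inv_inv] at h2

theorem comm_odd (hV : V ≤ Q (M.e ss)) {m : G} (hm : m * M.e ss = M.e ss * m) {x : Vec}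
    (hx : x 0 + x 1 + x 2 + x 3 = 1) {w : G} (hw : w ∈ cj m V) : M.e x * w = w * M.e x := by
  obtain ⟨p, hp, hi⟩ := Qs_ind t (Qs_conj' t hm (hV (M.e_mem x)))
  have hi' := M.cj_ind (g := m) hi
  have e : m * (m⁻¹ * M.e x * m) * m⁻¹ = M.e x := by group
  rw [e] at hi'
  by_cases h1 : p = 1
  · rw [h1] at hi'
    exact (mem_centralizer_iff.1 (FiveMod.ind_one_iff.1 hi') w hw).symm
  · exfalso
    obtain ⟨y, hy⟩ := v4_move p hp h1
    have h2 := hi'.comm_eq y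
    have h3 : (M.cj m).e (ss + 1) = M.e ss := by
      rw [M.cj_e, M.e_add, M.e_one, mul_one, hm, mul_inv_cancel_right]
    rw [hy, h3] at h2
    have h4 : (M.cj m).e y ∈ Q (M.e ss) := by
      rw [M.cj_e]
      exact Qs_conj t hm (hV (M.e_mem y))
    obtain ⟨q, hq, hj⟩ := Qs_ind t h4
    have h5 : M.e x * (M.cj m).e y * (M.e x)⁻¹ * ((M.cj m).e y)⁻¹ = M.e (x + x ∘ q.symm) := by
      rw [M.e_add, ← hj x]
      have e2 : (M.e x)⁻¹ = M.e x := M.e_inv x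
      rw [e2]
      group
    rw [h5] at h2
    rcases M.e_eq_iff.1 h2 with h6 | h6
    · exact (v4_odd q hq x hx).1 h6
    · exact (v4_odd q hq x hx).2 h6

theorem comm_conj (hV : V ≤ Q (M.e ss)) {m : G} (hm : m * M.e ss = M.e ss * m) {v w : G} (hv : v ∈ V)
    (hw : w ∈ cj m V) : v * w = w * v := by
  obtain ⟨x, rfl⟩ := (M.mem_iff v).1 hv
  by_cases hx : x 0 + x 1 + x 2 + x 3 = 1
  · exact comm_odd t hV hm hx hw
  · have h1 := comm_odd t hV hm (odd_add x hx) hw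
    have h2 := comm_odd t hV hm (x := oo) (by decide) hw
    have h3 : M.e x = M.e (x + oo) * M.e oo := by
      rw [← M.e_add, add_add_cancel']
    rw [h3, mul_assoc, h2, ← mul_assoc, h1, mul_assoc]

theorem E_comm (hV : V ≤ Q (M.e ss)) {u v : G} (hu : u ∈ WW V V (M.e ss)) (hv : v ∈ WW V V (M.e ss)) :
    u * v = v * u := by
  have key : ∀ g, g * M.e ss = M.e ss * g → ∀ k, k * M.e ss = M.e ss * k → ∀ v ∈ V, ∀ w ∈ V,
      g * v * g⁻¹ * (k * w * k⁻¹) = k * w * k⁻¹ * (g * v * g⁻¹) := by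
    intro g hg k hk v hv w hw
    have hg' : g⁻¹ * M.e ss = M.e ss * g⁻¹ := by
      rw [inv_mul_eq_iff_eq_mul, ← mul_assoc, hg, mul_inv_cancel_right]
    have h1 : g⁻¹ * k * M.e ss = M.e ss * (g⁻¹ * k) := by
      rw [mul_assoc, hk, ← mul_assoc, hg', mul_assoc]
    have h2 := comm_conj t hV h1 hv (w := (g⁻¹ * k) * w * (g⁻¹ * k)⁻¹) ⟨w, hw, rfl⟩
    calc g * v * g⁻¹ * (k * w * k⁻¹) = g * (v * ((g⁻¹ * k) * w * (g⁻¹ * k)⁻¹)) * g⁻¹ := by group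
      _ = g * (((g⁻¹ * k) * w * (g⁻¹ * k)⁻¹) * v) * g⁻¹ := by rw [h2]
      _ = k * w * k⁻¹ * (g * v * g⁻¹) := by group
  have h1 : WW V V (M.e ss) ≤ centralizer ({u} : Set G) := by
    have h2 : ∀ g, g * M.e ss = M.e ss * g → ∀ v ∈ V, g * v * g⁻¹ ∈ centralizer ({u} : Set G) := by
      intro g hg v hv
      have h3 : WW V V (M.e ss) ≤ centralizer ({g * v * g⁻¹} : Set G) := by
        have h4 : ∀ k, k * M.e ss = M.e ss * k → ∀ w ∈ V, k * w * k⁻¹ ∈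
            centralizer ({g * v * g⁻¹} : Set G) := fun k hk w hw => mem_C.2 (key k hk g hg w hw v hv)
        exact WW_le h4 h4
      exact mem_C.2 (mem_C.1 (h3 hu)).symm
    exact WW_le h2 h2
  exact (mem_C.1 (h1 hv)).symm

theorem E_sq (hV : V ≤ Q (M.e ss)) {u : G} (hu : u ∈ WW V V (M.e ss)) : u * u = 1 := by
  induction hu using closure_induction with
  | mem x hx =>
    obtain ⟨g, -, v, hv, rfl⟩ := hx
    have hv : v ∈ V := hv.elim id id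
    calc g * v * g⁻¹ * (g * v * g⁻¹) = g * (v * v) * g⁻¹ := by group
      _ = 1 := by rw [M.sq hv]; group
  | one => exact one_mul 1
  | mul x y hx hy h1 h2 =>
    have h3 : x * y = y * x := E_comm t hV hx hy
    calc x * y * (x * y) = x * (y * x) * y := by group
      _ = (x * x) * (y * y) := by rw [← h3]; group
      _ = 1 := by rw [h1, h2, one_mul]
  | inv x _ h1 => rw [← mul_inv_rev, h1, inv_one]

theorem E_isPGroup (hV : V ≤ Q (M.e ss)) : IsPGroup 2 (WW V V (M.e ss)) := by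
  rintro ⟨v, hv⟩
  refine ⟨1, Subtype.ext ?_⟩
  change v ^ (2 ^ 1) = 1
  rw [pow_one, pow_two]
  exact E_sq t hV hv

end E

/-! ### The main part -/

section main

variable [Finite G] {S : Sylow 2 G} {V₁ V₂ L₁ L₂ : Subgroup G} {M₁ : FiveMod V₁ L₁} {M₂ : FiveMod V₂ L₂}
  {h : G} (b : Base S M₁ M₂ h)
include b

theorem WWn_norm : ∀ g, g * M₁.e nn = M₁.e nn * g → ∀ w ∈ WW V₁ V₂ (M₁.e nn),
    g * w * g⁻¹ ∈ WW V₁ V₂ (M₁.e nn) := fun _ hg _ hw => WW_norm hg hw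

theorem mem_F_n {g y : G} : y ∈ Fam (M₁.e nn) (WW V₁ V₂ (M₁.e nn)) (g * M₁.e nn * g⁻¹) ↔
    g⁻¹ * y * g ∈ WW V₁ V₂ (M₁.e nn) := mem_Fam (WWn_norm b)

theorem mem_F_n' {y : G} : y ∈ Fam (M₁.e nn) (WW V₁ V₂ (M₁.e nn)) (M₁.e nn) ↔
    y ∈ WW V₁ V₂ (M₁.e nn) := by
  have h1 := mem_F_n b (g := 1) (y := y)
  simpa using h1

/-- the swap of `n` and `a` in `S` -/
theorem exists_x : ∃ x ∈ (S : Subgroup G), M₁.Ind x tt ∧ x * M₁.e nn * x⁻¹ = M₁.e aa ∧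
    x * M₁.e aa * x⁻¹ = M₁.e nn ∧ x * M₁.e ss = M₁.e ss * x ∧ x ∈ normalizer (V₁ : Set G) ∧
    x ∈ normalizer (V₂ : Set G) := by
  obtain ⟨x, hxS, hx⟩ := b.dih₁.exists_swap
  exact ⟨x, hxS, hx, Dih.tt_n hx, Dih.tt_a hx, b.dih₁.S_comm hxS, b.dih₁.S_norm hxS,
    b.dih₂.S_norm hxS⟩

/-- `x⁻¹ W_a x = W_n` -/
theorem conj_WWa {x y : G} (h1 : x * M₁.e nn * x⁻¹ = M₁.e aa) (h3 : x ∈ normalizer (V₁ : Set G))
    (h4 : x ∈ normalizer (V₂ : Set G)) : x⁻¹ * y * x ∈ WW V₁ V₂ (M₁.e nn) ↔ y ∈ WW V₁ V₂ (M₁.e aa) := by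
  constructor
  · intro hy
    have := WW_conj h3 h4 hy
    have e : x * (x⁻¹ * y * x) * x⁻¹ = y := by group
    rwa [e, h1] at this
  · intro hy
    have := WW_conj (inv_mem h3) (inv_mem h4) hy
    rw [inv_inv, ← h1] at this
    have e : x⁻¹ * (x * M₁.e nn * x⁻¹) * x = M₁.e nn := by group
    rwa [e] at this

theorem mem_F_a' {y : G} : y ∈ Fam (M₁.e nn) (WW V₁ V₂ (M₁.e nn)) (M₁.e aa) ↔
    y ∈ WW V₁ V₂ (M₁.e aa) := by
  obtain ⟨x, -, -, h1, -, -, h3, h4⟩ := exists_x b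
  rw [← conj_WWa b h1 h3 h4, ← mem_F_n b, h1]

theorem mem_F_a {g y : G} : y ∈ Fam (M₁.e nn) (WW V₁ V₂ (M₁.e nn)) (g * M₁.e aa * g⁻¹) ↔
    g⁻¹ * y * g ∈ WW V₁ V₂ (M₁.e aa) := by
  rw [← Fam_conj_iff, mem_F_a' b]

theorem WWn_le_S {w : G} (hw : w ∈ WW V₁ V₂ (M₁.e nn)) : w ∈ (S : Subgroup G) :=
  (b.Q_le_T (b.WW_le_Q hw)).1

theorem WWn_comm_n {w : G} (hw : w ∈ WW V₁ V₂ (M₁.e nn)) : w * M₁.e nn = M₁.e nn * w :=
  mem_C.1 (b.Q_le_T (b.WW_le_Q hw)).2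

theorem WWn_comm_s {w : G} (hw : w ∈ WW V₁ V₂ (M₁.e nn)) : w * M₁.e ss = M₁.e ss * w :=
  b.dih₁.S_comm (WWn_le_S b hw)

theorem WWa_comm_n {w : G} (hw : w ∈ WW V₁ V₂ (M₁.e aa)) : w * M₁.e nn = M₁.e nn * w :=
  mem_C.1 (b.Qa_le_T (b.WWa_le_Qa hw)).2

theorem WWa_comm_a {w : G} (hw : w ∈ WW V₁ V₂ (M₁.e aa)) : w * M₁.e aa = M₁.e aa * w :=
  mem_C.1 (o2_le _ (b.WWa_le_Qa hw))

omit b in
theorem comm_conj' {g w u : G} (h0 : g⁻¹ * w * g * u = u * (g⁻¹ * w * g)) :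
    w * (g * u * g⁻¹) = g * u * g⁻¹ * w := by
  calc w * (g * u * g⁻¹) = g * (g⁻¹ * w * g * u) * g⁻¹ := by group
    _ = g * u * g⁻¹ * w := by rw [h0]; group

omit b in
theorem act_conj {g w u c : G} (h0 : g⁻¹ * w * g * (g⁻¹ * u * g) * (g⁻¹ * w * g)⁻¹ * (g⁻¹ * u * g)⁻¹ = 1 ∨
    g⁻¹ * w * g * (g⁻¹ * u * g) * (g⁻¹ * w * g)⁻¹ * (g⁻¹ * u * g)⁻¹ = c)
    (hc : g * c * g⁻¹ * u = u * (g * c * g⁻¹)) :
    w * u * w⁻¹ = u ∨ w * u * w⁻¹ = u * (g * c * g⁻¹) := by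
  have e : w * u * w⁻¹ * u⁻¹ = g * (g⁻¹ * w * g * (g⁻¹ * u * g) * (g⁻¹ * w * g)⁻¹ * (g⁻¹ * u * g)⁻¹) * g⁻¹ := by
    group
  rcases h0 with h0 | h0
  · left
    rw [h0] at e
    have e2 : g * 1 * g⁻¹ = 1 := by group
    rw [e2] at e
    exact mul_inv_eq_one.1 e
  · right
    rw [h0] at e
    rw [← hc]
    exact mul_inv_eq_iff_eq_mul.1 e

/-- the calculus on `E = ⟨V₁ ^ C(s)⟩` -/
theorem calcM (hV : V₁ ≤ Q (M₁.e ss)) (hE : WW V₁ V₁ (M₁.e ss) ≤ Q (M₁.e nn)) :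
    Calc.Dat (centralizer ({M₁.e ss} : Set G)) (WW V₁ V₁ (M₁.e ss))
      (cls (centralizer ({M₁.e ss} : Set G)) (M₁.e nn)) (Fam (M₁.e nn) (WW V₁ V₂ (M₁.e nn))) where
  comm u hu v hv := E_comm b.dih₁ hV hu hv
  sq u hu := E_sq b.dih₁ hV hu
  norm g hg u hu := WW_norm (mem_C.1 hg) hu
  OmA := by
    rintro _ ⟨g, hg, rfl⟩
    exact mem_WW₁ (mem_C.1 hg) (M₁.e_mem _)
  OmX := by
    rintro k hk _ ⟨g, hg, rfl⟩
    exact ⟨k * g, mul_mem hk hg, by group⟩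
  trans := by
    rintro _ ⟨g, hg, rfl⟩ _ ⟨k, hk, rfl⟩
    exact ⟨k * g⁻¹, mul_mem hk (inv_mem hg), by group⟩
  WX := by
    rintro _ ⟨g, hg, rfl⟩ w hw
    rw [mem_F_n b] at hw
    have h1 := mem_C.2 (WWn_comm_s b hw)
    have h2 := mul_mem (mul_mem hg h1) (inv_mem hg)
    have e : g * (g⁻¹ * w * g) * g⁻¹ = w := by group
    rwa [e] at h2
  eqv g hg c hc w hw := Fam_conj g hw
  cen := by
    rintro _ ⟨g, hg, rfl⟩ w hw
    rw [mem_F_n b] at hw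
    exact comm_conj' (WWn_comm_n b hw)
  act := by
    rintro _ ⟨g, hg, rfl⟩ w hw u hu
    rw [mem_F_n b] at hw
    have hg' : g⁻¹ * M₁.e ss = M₁.e ss * g⁻¹ := mem_C.1 (inv_mem hg)
    have h1 : g⁻¹ * u * g ∈ WW V₁ V₁ (M₁.e ss) := by
      have := WW_norm hg' hu
      rwa [inv_inv] at this
    exact act_conj (b.WW_comm hw (hE h1))
      (E_comm b.dih₁ hV (mem_WW₁ (mem_C.1 hg) (M₁.e_mem _)) hu)

/-- `C(s)` moves `n` to `{0 2}` -/
theorem mm_mem : M₁.e mm ∈ cls (centralizer ({M₁.e ss} : Set G)) (M₁.e nn) := by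
  obtain ⟨g, -, hg⟩ := M₁.exists_lift (Equiv.swap 1 2)
  have hg : M₁.Ind g (Equiv.swap 1 2) := hg
  refine ⟨g, mem_C.2 ((hg.commute_iff _).2 (Or.inl (by decide))), ?_⟩
  rw [hg nn]
  congr 1
  decide

/-- for `w ∈ W_n`: `w ∈ C(V₁)` iff `w` commutes with `{0 2}` -/
theorem n_cent_iff {w : G} (hw : w ∈ WW V₁ V₂ (M₁.e nn)) : w ∈ centralizer (V₁ : Set G) ↔
    w * M₁.e mm = M₁.e mm * w := by
  obtain ⟨p, hp, hi⟩ := b.Q_ind₁ (b.WW_le_Q hw)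
  rw [hi.commute_iff, ← FiveMod.ind_one_iff (M := M₁)]
  rcases hp with rfl | rfl
  · exact ⟨fun _ => Or.inl rfl, fun _ => hi⟩
  · constructor
    · intro h1
      exact absurd (FiveMod.Ind.unique h1 hi) (by decide)
    · intro h1
      exact absurd h1 (by decide)

theorem a_cent_iff_mm {w : G} (hw : w ∈ WW V₁ V₂ (M₁.e aa)) : w ∈ centralizer (V₁ : Set G) ↔
    w * M₁.e mm = M₁.e mm * w := by
  obtain ⟨p, hp, hi⟩ := b.Qa_ind₁ (b.WWa_le_Qa hw)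
  rw [hi.commute_iff, ← FiveMod.ind_one_iff (M := M₁)]
  rcases hp with rfl | rfl
  · exact ⟨fun _ => Or.inl rfl, fun _ => hi⟩
  · constructor
    · intro h1
      exact absurd (FiveMod.Ind.unique h1 hi) (by decide)
    · intro h1
      exact absurd h1 (by decide)

theorem a_cent_iff {w : G} (hw : w ∈ WW V₁ V₂ (M₁.e aa)) : w ∈ centralizer (V₁ : Set G) ↔
    w * M₁.e bb = M₁.e bb * w := by
  obtain ⟨p, hp, hi⟩ := b.Qa_ind₁ (b.WWa_le_Qa hw)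
  rw [hi.commute_iff, ← FiveMod.ind_one_iff (M := M₁)]
  rcases hp with rfl | rfl
  · exact ⟨fun _ => Or.inl rfl, fun _ => hi⟩
  · constructor
    · intro h1
      exact absurd (FiveMod.Ind.unique h1 hi) (by decide)
    · intro h1
      exact absurd h1 (by decide)

/-- **(1)** `C_{W_n}(V₁) = C_{W_n}(n ^ C(s))` -/
theorem one_n (hV : V₁ ≤ Q (M₁.e ss)) (hE : WW V₁ V₁ (M₁.e ss) ≤ Q (M₁.e nn)) {w : G}
    (hw : w ∈ WW V₁ V₂ (M₁.e nn)) (h1 : w ∈ centralizer (V₁ : Set G)) :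
    ∀ d ∈ cls (centralizer ({M₁.e ss} : Set G)) (M₁.e nn), w * d = d * w := by
  have hcal := calcM b hV hE
  have hna : M₁.e nn ∈ cls (centralizer ({M₁.e ss} : Set G)) (M₁.e nn) := ⟨1, one_mem _, by group⟩
  obtain ⟨x, -, -, hx1, -, hx3, -, -⟩ := exists_x b
  obtain ⟨k, hk, hki⟩ := b.exists_move₁
  refine hcal.all (s := M₁.e ss) hna (le_WW₁ V₁ V₁ _ (M₁.e_mem _)) ?_ ?_ ?_ (mm_mem b) ?_ w ((mem_F_n' b).2 hw)
    ((n_cent_iff b hw).1 h1)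
  · rintro _ ⟨g, hg, rfl⟩
    refine ⟨g * x, mul_mem hg (mem_C.2 hx3), ?_⟩
    have e : g * x * M₁.e nn * (g * x)⁻¹ = g * (x * M₁.e nn * x⁻¹) * g⁻¹ := by group
    rw [e, hx1, ← ns M₁]
    have e2 : g * (M₁.e nn * M₁.e ss) * g⁻¹ = g * M₁.e nn * g⁻¹ * (g * M₁.e ss * g⁻¹) := by group
    rw [e2, mem_C.1 hg, mul_inv_cancel_right]
  · intro c hc v hv
    exact mem_C.1 (hcal.WX c hc v hv)
  · refine ⟨k, (mem_F_n' b).2 hk, fun k' hk' => ⟨M₁.e oo, le_WW₁ V₁ V₁ _ (M₁.e_mem _), ?_⟩⟩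
    rw [ns M₁, mem_F_a' b] at hk'
    obtain ⟨p, hp, hi⟩ := b.Qa_ind₁ (b.WWa_le_Qa hk')
    rw [hi.commute_iff, hki.commute_iff]
    rcases hp with rfl | rfl <;> decide
  · refine ⟨k, (mem_F_n' b).2 hk, ?_⟩
    rw [Ne, hki.commute_iff]
    decide

/-- **(1)** for `a`: `C_{W_a}(V₁) = C_{W_a}(n ^ C(s))` -/
theorem one_a (hV : V₁ ≤ Q (M₁.e ss)) (hE : WW V₁ V₁ (M₁.e ss) ≤ Q (M₁.e nn)) {w : G}
    (hw : w ∈ WW V₁ V₂ (M₁.e aa)) : w ∈ centralizer (V₁ : Set G) ↔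
    ∀ d ∈ cls (centralizer ({M₁.e ss} : Set G)) (M₁.e nn), w * d = d * w := by
  constructor
  · intro h1 d hd
    obtain ⟨x, -, -, hx1, -, hx3, hx4, hx5⟩ := exists_x b
    have h2 := (conj_WWa b hx1 hx4 hx5).2 hw
    have h3 : x⁻¹ * w * x ∈ centralizer (V₁ : Set G) := by
      rw [mem_centralizer_iff] at h1 ⊢
      intro v hv
      have h4 := h1 _ ((mem_normalizer_iff.1 hx4 v).1 hv)
      calc v * (x⁻¹ * w * x) = x⁻¹ * (x * v * x⁻¹ * w) * x := by group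
        _ = x⁻¹ * (w * (x * v * x⁻¹)) * x := by rw [h4]
        _ = x⁻¹ * w * x * v := by group
    obtain ⟨g, hg, rfl⟩ := hd
    have h4 := one_n b hV hE h2 h3 (x⁻¹ * g * M₁.e nn * (x⁻¹ * g)⁻¹)
      ⟨x⁻¹ * g, mul_mem (inv_mem (mem_C.2 hx3)) hg, rfl⟩
    have h5 := comm_conj' h4
    have e : x * (x⁻¹ * g * M₁.e nn * (x⁻¹ * g)⁻¹) * x⁻¹ = g * M₁.e nn * g⁻¹ := by group
    rwa [e] at h5
  · intro h1
    exact (a_cent_iff_mm b hw).2 (h1 _ (mm_mem b))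

/-! ### The calculus on `U_n` -/

omit b [Finite G] in
theorem mem_Q_conj {g y c : G} : g⁻¹ * y * g ∈ Q c ↔ y ∈ Q (g * c * g⁻¹) := by
  rw [Q, Q, ← o2_conj g c, mem_cj]

omit b [Finite G] in
theorem cent_conj_iff {V : Subgroup G} {g y : G} (hg : g ∈ normalizer (V : Set G)) :
    g⁻¹ * y * g ∈ centralizer (V : Set G) ↔ y ∈ centralizer (V : Set G) := by
  have key : ∀ g ∈ normalizer (V : Set G), ∀ y ∈ centralizer (V : Set G),
      g⁻¹ * y * g ∈ centralizer (V : Set G) := by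
    intro g hg y hy
    rw [mem_centralizer_iff] at hy ⊢
    intro v hv
    have h4 := hy _ ((mem_normalizer_iff.1 hg v).1 hv)
    calc v * (g⁻¹ * y * g) = g⁻¹ * (g * v * g⁻¹ * y) * g := by group
      _ = g⁻¹ * (y * (g * v * g⁻¹)) * g := by rw [h4]
      _ = g⁻¹ * y * g * v := by group
  constructor
  · intro h1
    have h2 := key g⁻¹ (inv_mem hg) _ h1
    have e : g⁻¹⁻¹ * (g⁻¹ * y * g) * g⁻¹ = y := by group
    rwa [e] at h2
  · exact key g hg y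

/-- the calculus on `U_n` -/
theorem calcN (hU : UU (M₁.e nn) (M₁.e aa) ≤ Q (M₁.e aa)) :
    Calc.Dat (centralizer ({M₁.e nn} : Set G)) (UU (M₁.e nn) (M₁.e aa))
      (cls (centralizer ({M₁.e nn} : Set G)) (M₁.e aa)) (Fam (M₁.e nn) (WW V₁ V₂ (M₁.e nn))) where
  comm u hu v hv := b.UU_comm hu hv
  sq u hu := b.UU_sq hu
  norm g hg u hu := UU_norm (mem_C.1 hg) hu
  OmA := by
    rintro _ ⟨g, hg, rfl⟩
    exact mem_UU (mem_C.1 hg)
  OmX := by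
    rintro k hk _ ⟨g, hg, rfl⟩
    exact ⟨k * g, mul_mem hk hg, by group⟩
  trans := by
    rintro _ ⟨g, hg, rfl⟩ _ ⟨k, hk, rfl⟩
    exact ⟨k * g⁻¹, mul_mem hk (inv_mem hg), by group⟩
  WX := by
    rintro _ ⟨g, hg, rfl⟩ w hw
    rw [mem_F_a b] at hw
    have h1 := mem_C.2 (WWa_comm_n b hw)
    have h2 := mul_mem (mul_mem hg h1) (inv_mem hg)
    have e : g * (g⁻¹ * w * g) * g⁻¹ = w := by group
    rwa [e] at h2
  eqv g hg c hc w hw := Fam_conj g hw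
  cen := by
    rintro _ ⟨g, hg, rfl⟩ w hw
    rw [mem_F_a b] at hw
    exact comm_conj' (WWa_comm_a b hw)
  act := by
    rintro _ ⟨g, hg, rfl⟩ w hw u hu
    rw [mem_F_a b] at hw
    have hg' : g⁻¹ * M₁.e nn = M₁.e nn * g⁻¹ := mem_C.1 (inv_mem hg)
    have h1 : g⁻¹ * u * g ∈ UU (M₁.e nn) (M₁.e aa) := by
      have := UU_norm hg' hu
      rwa [inv_inv] at this
    exact act_conj (b.WWa_comm hw (hU h1)) (b.UU_comm (mem_UU (mem_C.1 hg)) hu)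

theorem bb_mem : ∃ g, g ∈ centralizer ({M₁.e nn} : Set G) ∧ g ∈ normalizer (V₁ : Set G) ∧
    M₁.e bb = g * M₁.e aa * g⁻¹ := by
  obtain ⟨g, -, hg⟩ := M₁.exists_lift (Equiv.swap 3 4)
  have hg : M₁.Ind g (Equiv.swap 3 4) := hg
  refine ⟨g, mem_C.2 ((hg.commute_iff _).2 (Or.inl (by decide))), hg.mem_normalizer, ?_⟩
  rw [hg aa]
  congr 1
  decide

theorem cc_mem : ∃ g, g ∈ centralizer ({M₁.e nn} : Set G) ∧ g ∈ normalizer (V₁ : Set G) ∧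
    M₁.e cc = g * M₁.e aa * g⁻¹ := by
  obtain ⟨g, -, hg⟩ := M₁.exists_lift (Equiv.swap 2 4)
  have hg : M₁.Ind g (Equiv.swap 2 4) := hg
  refine ⟨g, mem_C.2 ((hg.commute_iff _).2 (Or.inl (by decide))), hg.mem_normalizer, ?_⟩
  rw [hg aa]
  congr 1
  decide

theorem ab : M₁.e aa * M₁.e bb = M₁.e cc := by
  rw [← M₁.e_add]
  congr 1
  decide

theorem comm_s_of {y : G} (h1 : y * M₁.e nn = M₁.e nn * y) (h2 : y * M₁.e aa = M₁.e aa * y) :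
    y * M₁.e ss = M₁.e ss * y := by
  rw [← na M₁, ← mul_assoc, h1, mul_assoc, h2, ← mul_assoc]

/-- (A8) from `Δ(a) = b ^ Y` and (1) -/
theorem eight (hV : V₁ ≤ Q (M₁.e ss)) (hE : WW V₁ V₁ (M₁.e ss) ≤ Q (M₁.e nn))
    (hi : ∀ d ∈ cls (centralizer ({M₁.e nn} : Set G)) (M₁.e aa),
      (∃ w ∈ Fam (M₁.e nn) (WW V₁ V₂ (M₁.e nn)) (M₁.e aa), w * d ≠ d * w) →
      ∃ y ∈ centralizer ({M₁.e nn} : Set G), y * M₁.e aa = M₁.e aa * y ∧ d = y * M₁.e bb * y⁻¹) :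
    ∀ d ∈ cls (centralizer ({M₁.e nn} : Set G)) (M₁.e aa),
      (∃ w ∈ Fam (M₁.e nn) (WW V₁ V₂ (M₁.e nn)) (M₁.e aa), w * d ≠ d * w) →
      ∀ w ∈ Fam (M₁.e nn) (WW V₁ V₂ (M₁.e nn)) (M₁.e aa),
        (w * d = d * w ↔ w * M₁.e bb = M₁.e bb * w) := by
  intro d hd hj w hw
  obtain ⟨y, hy, hya, rfl⟩ := hi d hd hj
  have hys := comm_s_of b (mem_C.1 hy) hya
  rw [mem_F_a' b] at hw
  have hya' : y⁻¹ * M₁.e aa = M₁.e aa * y⁻¹ := by
    rw [inv_mul_eq_iff_eq_mul, ← mul_assoc, hya, mul_inv_cancel_right]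
  have hw' : y⁻¹ * w * y ∈ WW V₁ V₂ (M₁.e aa) := by
    have := WW_norm hya' hw
    rwa [inv_inv] at this
  have h1 : w * (y * M₁.e bb * y⁻¹) = y * M₁.e bb * y⁻¹ * w ↔
      y⁻¹ * w * y * M₁.e bb = M₁.e bb * (y⁻¹ * w * y) := by
    have := comm_conj_iff (g := y⁻¹) (w := w) (u := M₁.e bb)
    rw [inv_inv] at this
    exact this.symm
  rw [h1, ← a_cent_iff b hw', ← a_cent_iff b hw, one_a b hV hE hw', one_a b hV hE hw]
  constructor
  · rintro h2 _ ⟨g, hg, rfl⟩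
    have h3 := comm_conj' (h2 (y⁻¹ * g * M₁.e nn * (y⁻¹ * g)⁻¹)
      ⟨y⁻¹ * g, mul_mem (inv_mem (mem_C.2 hys)) hg, rfl⟩)
    have e : y * (y⁻¹ * g * M₁.e nn * (y⁻¹ * g)⁻¹) * y⁻¹ = g * M₁.e nn * g⁻¹ := by group
    rwa [e] at h3
  · rintro h2 _ ⟨g, hg, rfl⟩
    have h3 := h2 (y * g * M₁.e nn * (y * g)⁻¹) ⟨y * g, mul_mem (mem_C.2 hys) hg, rfl⟩
    have h4 := (comm_conj_iff (g := y⁻¹) (w := w) (u := g * M₁.e nn * g⁻¹)).2 (by
      rw [inv_inv]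
      have e : y * (g * M₁.e nn * g⁻¹) * y⁻¹ = y * g * M₁.e nn * (y * g)⁻¹ := by group
      rw [e]
      exact h3)
    rwa [inv_inv] at h4

/-- `W_a ∩ Q_n = C_{W_a}(V₁)` -/
theorem a_mem_Q_iff (hV : V₁ ≤ Q (M₁.e ss)) (hE : WW V₁ V₁ (M₁.e ss) ≤ Q (M₁.e nn))
    (hi : ∀ d ∈ cls (centralizer ({M₁.e nn} : Set G)) (M₁.e aa),
      (∃ w ∈ Fam (M₁.e nn) (WW V₁ V₂ (M₁.e nn)) (M₁.e aa), w * d ≠ d * w) →
      ∃ y ∈ centralizer ({M₁.e nn} : Set G), y * M₁.e aa = M₁.e aa * y ∧ d = y * M₁.e bb * y⁻¹)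
    {w : G} (hw : w ∈ WW V₁ V₂ (M₁.e aa)) : w ∈ Q (M₁.e nn) ↔ w ∈ centralizer (V₁ : Set G) := by
  rw [a_cent_iff b hw]
  constructor
  · intro h1
    exact ((b.mem_Q_iff hw).1 h1 _ (b.perp_mem₁ (x := bb) (by decide))).symm
  · intro h1
    rw [b.mem_Q_iff hw]
    have h2 : UU (M₁.e nn) (M₁.e aa) ≤ centralizer ({w} : Set G) := by
      refine UU_le (mem_C.2 (WWa_comm_n b hw).symm) fun g hg => mem_C.2 ?_
      have hF := (mem_F_a' b).2 hw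
      by_cases h3 : w * (g * M₁.e aa * g⁻¹) = g * M₁.e aa * g⁻¹ * w
      · exact h3.symm
      · exact absurd ((eight b hV hE hi _ ⟨g, mem_C.2 hg, rfl⟩ ⟨w, hF, h3⟩ w hF).2 h1) h3
    exact fun u hu => mem_C.1 (h2 hu)

/-- `W_n ∩ Q_a = C_{W_n}(V₁)` -/
theorem n_mem_Q_iff (hV : V₁ ≤ Q (M₁.e ss)) (hE : WW V₁ V₁ (M₁.e ss) ≤ Q (M₁.e nn))
    (hi : ∀ d ∈ cls (centralizer ({M₁.e nn} : Set G)) (M₁.e aa),
      (∃ w ∈ Fam (M₁.e nn) (WW V₁ V₂ (M₁.e nn)) (M₁.e aa), w * d ≠ d * w) →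
      ∃ y ∈ centralizer ({M₁.e nn} : Set G), y * M₁.e aa = M₁.e aa * y ∧ d = y * M₁.e bb * y⁻¹)
    {w : G} (hw : w ∈ WW V₁ V₂ (M₁.e nn)) : w ∈ Q (M₁.e aa) ↔ w ∈ centralizer (V₁ : Set G) := by
  obtain ⟨x, -, -, h1, h2, -, h3, h4⟩ := exists_x b
  have e : x⁻¹ * (x * w * x⁻¹) * x = w := by group
  have h5 : x * w * x⁻¹ ∈ WW V₁ V₂ (M₁.e aa) := by
    rw [← conj_WWa b h1 h3 h4, e]
    exact hw
  have h6 := a_mem_Q_iff b hV hE hi h5
  rw [← cent_conj_iff h3, e, ← h2, ← mem_Q_conj, e] at h6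
  exact h6

theorem n_ind {w : G} (hw : w ∈ WW V₁ V₂ (M₁.e nn)) (h1 : w ∉ centralizer (V₁ : Set G)) :
    M₁.Ind w (Equiv.swap 0 1) := by
  obtain ⟨p, hp, hi⟩ := b.Q_ind₁ (b.WW_le_Q hw)
  rcases hp with rfl | rfl
  · exact absurd (FiveMod.ind_one_iff.1 hi) h1
  · exact hi

/-- the data of `ChiConst` -/
theorem chi (hV : V₁ ≤ Q (M₁.e ss)) (hE : WW V₁ V₁ (M₁.e ss) ≤ Q (M₁.e nn))
    (hU : UU (M₁.e nn) (M₁.e aa) ≤ Q (M₁.e aa))
    (hi : ∀ d ∈ cls (centralizer ({M₁.e nn} : Set G)) (M₁.e aa),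
      (∃ w ∈ Fam (M₁.e nn) (WW V₁ V₂ (M₁.e nn)) (M₁.e aa), w * d ≠ d * w) →
      ∃ y ∈ centralizer ({M₁.e nn} : Set G), y * M₁.e aa = M₁.e aa * y ∧ d = y * M₁.e bb * y⁻¹) :
    Cfsg.Agent.Omega.S5.ChiConst.Dat (M₁.e nn) (M₁.e aa) (M₁.e bb) (centralizer ({M₁.e nn} : Set G))
      (UU (M₁.e nn) (M₁.e aa)) (WW V₁ V₂ (M₁.e nn)) (Fam (M₁.e nn) (WW V₁ V₂ (M₁.e nn))) Q where
  nN g hg := mem_C.1 hg
  UN g hg u hu := UU_norm (mem_C.1 hg) hu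
  Ucomm u hu v hv := b.UU_comm hu hv
  Usq u hu := b.UU_sq hu
  nU := self_mem_UU _ _
  aU := mem_UU_self _ _
  WN g hg y hy := WW_norm (mem_C.1 hg) hy
  WfN w hw := mem_C.2 (WWa_comm_n b ((mem_F_a' b).1 hw))
  Wf_eqv g hg c hc w hw := Fam_conj g hw
  O_eqv g hg c hc y hy := by
    rw [← mem_Q_conj]
    have e : g⁻¹ * (g * y * g⁻¹) * g = y := by group
    rwa [e]
  act w hw u hu := (calcN b hU).act _ ⟨1, one_mem _, by group⟩ w hw u hu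
  sym := (calcN b hU).sym
  idx y hy y' hy' h1 h2 := by
    rw [n_mem_Q_iff b hV hE hi hy] at h1
    rw [n_mem_Q_iff b hV hE hi hy'] at h2
    rw [n_mem_Q_iff b hV hE hi (mul_mem hy hy')]
    have h3 := (n_ind b hy h1).mul (n_ind b hy' h2)
    rw [Equiv.swap_mul_self] at h3
    exact FiveMod.ind_one_iff.1 h3
  out := by
    obtain ⟨k, hk, hki⟩ := b.exists_move₁
    refine ⟨k, hk, ?_⟩
    rw [n_mem_Q_iff b hV hE hi hk]
    intro h0
    exact absurd (FiveMod.Ind.unique (FiveMod.ind_one_iff.2 h0) hki) (by decide)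
  hyp y hy hyO w hw := by
    rw [mem_F_a' b] at hw
    have h1 := b.WWa_comm hw hyO
    have h2 : y * M₁.e aa = M₁.e aa * y := mem_C.1 (o2_le _ hyO)
    rcases h1 with h1 | h1
    · exact Or.inl (mul_inv_eq_one.1 h1)
    · right
      rw [h2]
      exact mul_inv_eq_iff_eq_mul.1 h1
  aW := le_WW₁ V₁ V₂ _ (M₁.e_mem _)
  aO := by
    rintro _ ⟨g, hg, rfl⟩
    rw [← mem_Q_conj]
    refine hU ?_
    have hg' : g⁻¹ * M₁.e nn = M₁.e nn * g⁻¹ := mem_C.1 (inv_mem hg)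
    have := UU_norm hg' (mem_UU_self (M₁.e nn) (M₁.e aa))
    rwa [inv_inv] at this
  bA := by
    obtain ⟨g, hg, -, h1⟩ := bb_mem b
    exact ⟨g, hg, h1⟩
  bO y hy := by
    obtain ⟨g, hg, hgV, h1⟩ := bb_mem b
    have hg' : g⁻¹ * M₁.e nn = M₁.e nn * g⁻¹ := mem_C.1 (inv_mem hg)
    have h2 : g⁻¹ * y * g ∈ WW V₁ V₂ (M₁.e nn) := by
      have := WW_norm hg' hy
      rwa [inv_inv] at this
    rw [h1, ← mem_Q_conj, n_mem_Q_iff b hV hE hi h2, cent_conj_iff hgV, n_mem_Q_iff b hV hE hi hy]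
  abO y hy := by
    obtain ⟨g, hg, hgV, h1⟩ := cc_mem b
    have hg' : g⁻¹ * M₁.e nn = M₁.e nn * g⁻¹ := mem_C.1 (inv_mem hg)
    have h2 : g⁻¹ * y * g ∈ WW V₁ V₂ (M₁.e nn) := by
      have := WW_norm hg' hy
      rwa [inv_inv] at this
    rw [ab b, h1, ← mem_Q_conj, n_mem_Q_iff b hV hE hi h2, cent_conj_iff hgV, n_mem_Q_iff b hV hE hi hy]
  mov := by
    obtain ⟨k, hk, hki⟩ := b.exists_move_a₁
    refine ⟨k, (mem_F_a' b).2 hk, ?_⟩
    rw [Ne, hki.commute_iff]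
    decide
  eight := eight b hV hE hi

/-- (B0)(iv): `E ≤ Q_n` if `E` centralises `a ^ C(n)` -/
theorem E_le_Qn (hV : V₁ ≤ Q (M₁.e ss)) (hK : ∀ k ∈ WW V₁ V₁ (M₁.e ss),
    ∀ c ∈ cls (centralizer ({M₁.e nn} : Set G)) (M₁.e aa), k * c = c * k) :
    WW V₁ V₁ (M₁.e ss) ≤ Q (M₁.e nn) := by
  have h1 : WW V₁ V₁ (M₁.e ss) ≤ centralizer (UU (M₁.e nn) (M₁.e aa) : Set G) := by
    intro k hk
    rw [mem_centralizer_iff]
    have h2 : UU (M₁.e nn) (M₁.e aa) ≤ centralizer ({k} : Set G) :=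
      UU_le (mem_C.2 (E_comm b.dih₁ hV (le_WW₁ V₁ V₁ _ (M₁.e_mem _)) hk))
        fun g hg => mem_C.2 (hK k hk _ ⟨g, mem_C.2 hg, rfl⟩).symm
    exact fun u hu => mem_C.1 (h2 hu)
  have h2 : WW V₁ V₁ (M₁.e ss) ≤ o2 (centralizer (UU (M₁.e nn) (M₁.e aa) : Set G)) := by
    refine le_o2 h1 (E_isPGroup b.dih₁ hV) ?_
    intro x hx
    have hx' := mem_inf.1 (b.centralizer_UU_le hx)
    have hxs := comm_s_of b (mem_C.1 hx'.1) (mem_C.1 hx'.2)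
    refine mem_normalizer_of_cj_le ?_
    rintro _ ⟨w, hw, rfl⟩
    exact WW_norm hxs hw
  refine h2.trans (le_o2 ((o2_le _).trans (b.centralizer_UU_le.trans inf_le_left)) (o2_isPGroup _) ?_)
  exact b.normalizer_centralizer_UU.trans (normalizer_le_normalizer_o2' _)

/-! ### Connectivity -/

theorem bb_conj {x : G} (hx : M₁.Ind x tt) : x * M₁.e bb * x⁻¹ = M₁.e ![1, 0, 0, 0, 1] := by
  rw [hx bb]
  congr 1
  decide

/-- the data of `Z.Conn` -/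
theorem con {V0 : Subgroup G} (hV0S : ∀ v ∈ V0, ∀ g ∈ (S : Subgroup G), g * v = v * g)
    (hV0L : ∀ v ∈ V0, ∀ g ∈ L₁, g * v = v * g)
    (hfix : ∀ u ∈ UU (M₁.e nn) (M₁.e aa), (∀ t ∈ (S : Subgroup G) ⊓ centralizer ({M₁.e nn} : Set G),
      t * u = u * t) → ∃ v ∈ V0, u = v ∨ u = v * M₁.e nn ∨ u = v * M₁.e aa ∨ u = v * M₁.e ss)
    (heq : ∀ c ∈ cls (centralizer ({M₁.e nn} : Set G)) (M₁.e aa),
      (∀ t ∈ (S : Subgroup G) ⊓ centralizer ({M₁.e nn} : Set G), t * c = c * t) → c = M₁.e aa)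
    (hU : UU (M₁.e nn) (M₁.e aa) ≤ Q (M₁.e aa)) {x : G} (hxS : x ∈ (S : Subgroup G)) (hx : M₁.Ind x tt) :
    Conn.Con (M₁.e nn) (M₁.e aa) (M₁.e bb) x (UU (M₁.e nn) (M₁.e aa))
      ((S : Subgroup G) ⊓ centralizer ({M₁.e nn} : Set G)) V0 (Fam (M₁.e nn) (WW V₁ V₂ (M₁.e nn))) where
  cal := calcN b hU
  eqv g c w hw := Fam_conj g hw
  xn := Dih.tt_n hx
  xa := Dih.tt_a hx
  nU := self_mem_UU _ _
  hT := S.isPGroup'.to_le inf_le_left
  hTN t ht := mem_C.1 ht.2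
  hTa t ht := b.dih₁.T_comm_a ht
  heq := heq
  fix u hu hT := by
    obtain ⟨v, hv, h1⟩ := hfix u hu hT
    refine ⟨v, hv, ?_⟩
    rwa [na]
  V0x v hv := hV0S v hv x hxS
  V0b v hv w hw := by
    obtain ⟨g, hgL, hg⟩ := M₁.exists_lift (Equiv.swap 3 4)
    have hg : M₁.Ind g (Equiv.swap 3 4) := hg
    have h1 : M₁.e bb = g * M₁.e aa * g⁻¹ := by
      rw [hg aa]
      congr 1
      decide
    rw [h1, mem_F_a b] at hw
    have h2 := hV0S v hv _ (b.Qa_le_T (b.WWa_le_Qa hw)).1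
    have h3 := hV0L v hv g hgL
    have e : g⁻¹ * v * g = v := by
      calc g⁻¹ * v * g = g⁻¹ * (v * g) := by group
        _ = g⁻¹ * (g * v) := by rw [h3]
        _ = v := by group
    calc w * v = g * (g⁻¹ * w * g * (g⁻¹ * v * g)) * g⁻¹ := by group
      _ = g * (v * (g⁻¹ * w * g)) * g⁻¹ := by rw [e, h2]
      _ = (g * v) * (g⁻¹ * w) := by group
      _ = (v * g) * (g⁻¹ * w) := by rw [h3]
      _ = v * w := by group
  bA := by
    obtain ⟨g, hg, -, h1⟩ := bb_mem b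
    exact ⟨g, hg, h1⟩
  ab := by
    obtain ⟨k, hk, hki⟩ := b.exists_move_a₁
    refine ⟨k, (mem_F_a' b).2 hk, ?_⟩
    rw [Ne, hki.commute_iff]
    decide
  bb := by
    obtain ⟨g, -, hg⟩ := M₁.exists_lift (Equiv.swap 1 4)
    have hg : M₁.Ind g (Equiv.swap 1 4) := hg
    obtain ⟨k, hk, hki⟩ := b.exists_move₁
    have h1 : x * M₁.e bb * x⁻¹ = g * M₁.e nn * g⁻¹ := by
      rw [bb_conj b hx, hg nn]
      congr 1
      decide
    refine ⟨g * k * g⁻¹, ?_, ?_⟩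
    · rw [h1, mem_F_n b]
      have e : g⁻¹ * (g * k * g⁻¹) * g = k := by group
      rwa [e]
    · have h2 := (hg.mul hki).mul hg.inv
      rw [Ne, h2.commute_iff]
      decide
  kk := by
    obtain ⟨g, -, hg⟩ := M₁.exists_lift (Equiv.swap 3 4)
    have hg : M₁.Ind g (Equiv.swap 3 4) := hg
    have h1 : M₁.e bb = g * M₁.e aa * g⁻¹ := by
      rw [hg aa]
      congr 1
      decide
    obtain ⟨k, hk, hki⟩ := b.exists_move_a₁
    have h2 : g * k * g⁻¹ ∈ Fam (M₁.e nn) (WW V₁ V₂ (M₁.e nn)) (M₁.e bb) := by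
      rw [h1, mem_F_a b]
      have e : g⁻¹ * (g * k * g⁻¹) * g = k := by group
      rwa [e]
    refine ⟨k * (g * k * g⁻¹), mul_mem (mem_sup_left ((mem_F_a' b).2 hk)) (mem_sup_right h2), ?_⟩
    have h3 := hki.mul ((hg.mul hki).mul hg.inv)
    rw [h3 aa]
    congr 1
    decide

omit b [Finite G] in
theorem conn_of {n a b x : G} {U T V0 : Subgroup G} {Wf : G → Subgroup G} [Finite G]
    (h : Conn.Con n a b x U T V0 Wf) : BZero.Conn (centralizer ({n} : Set G)) a Wf := by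
  intro R hR hadj c hc
  have h1 := h.conn hc
  refine hR.symm _ BZero.a_cls _ hc ?_
  clear hc
  induction h1 with
  | refl => exact hR.refl _ BZero.a_cls
  | @tail d e h1 h2 ih =>
    obtain ⟨hd, he, hw⟩ := h2
    rw [Conn.AA_n] at hd he
    exact hR.trans _ BZero.a_cls _ hd _ he ih (hadj _ hd _ he hw)

/-- **THEOREM B1 for arbitrary `V₀`** from connectivity -/
theorem false_of_conn (hV : V₁ ≤ Q (M₁.e ss)) (hU : UU (M₁.e nn) (M₁.e aa) ≤ Q (M₁.e aa))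
    (hC : BZero.Conn (centralizer ({M₁.e nn} : Set G)) (M₁.e aa) (Fam (M₁.e nn) (WW V₁ V₂ (M₁.e nn)))) :
    False := by
  have hcal := calcN b hU
  have hbA : M₁.e bb ∈ cls (centralizer ({M₁.e nn} : Set G)) (M₁.e aa) := by
    obtain ⟨g, hg, -, h1⟩ := bb_mem b
    exact ⟨g, hg, h1⟩
  have hmov : BZero.Adj (Fam (M₁.e nn) (WW V₁ V₂ (M₁.e nn))) (M₁.e aa) (M₁.e bb) := by
    obtain ⟨k, hk, hki⟩ := b.exists_move_a₁
    refine ⟨k, (mem_F_a' b).2 hk, ?_⟩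
    rw [Ne, hki.commute_iff]
    decide
  have hi : ∀ d ∈ cls (centralizer ({M₁.e nn} : Set G)) (M₁.e aa),
      (∃ w ∈ Fam (M₁.e nn) (WW V₁ V₂ (M₁.e nn)) (M₁.e aa), w * d ≠ d * w) →
      ∃ y ∈ centralizer ({M₁.e nn} : Set G), y * M₁.e aa = M₁.e aa * y ∧ d = y * M₁.e bb * y⁻¹ :=
    fun d hd had => BZero.conj_b hcal hbA hmov hd had
  have hVE := le_WW₁ V₁ V₁ (M₁.e ss)
  have hE : WW V₁ V₁ (M₁.e ss) ≤ Q (M₁.e nn) := by
    refine E_le_Qn b hV (BZero.comm_all hcal hC hbA hmov ?_ ?_ ?_)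
    · intro y hy hya k hk
      exact WW_norm (comm_s_of b (mem_C.1 hy) hya) hk
    · exact fun k hk => E_comm b.dih₁ hV hk (hVE (M₁.e_mem _))
    · exact fun k hk => E_comm b.dih₁ hV hk (hVE (M₁.e_mem _))
  have hchi := chi b hV hE hU hi
  have hc : ∀ c ∈ cls (centralizer ({M₁.e nn} : Set G)) (M₁.e aa),
      Cfsg.Agent.Omega.S5.ChiConst.Dat.Same (WW V₁ V₂ (M₁.e nn)) Q c (M₁.e aa) := by
    refine hC _ ⟨fun _ _ _ _ => Iff.rfl, fun _ _ _ _ h1 y hy => (h1 y hy).symm,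
      fun _ _ _ _ _ _ h1 h2 y hy => (h1 y hy).trans (h2 y hy),
      fun g hg c hc d hd h1 => hchi.same_conj hc hd hg h1⟩ ?_
    intro c hc d hd hw
    obtain ⟨w, hw, hwd⟩ := hw
    exact fun y hy => (hchi.same_of_move' hc hd hw hwd y hy).symm
  obtain ⟨v, hv, hvi⟩ := b.ex
  have hhn : h ∈ centralizer ({M₁.e nn} : Set G) := mem_C.2 b.hn
  have hvW : v ∈ WW V₁ V₂ (M₁.e nn) := by
    rw [mem_cj] at hv
    have h1 := mem_WW₂ (V₁ := V₁) (V₂ := V₂) b.hn hv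
    have h2 : h * (h⁻¹ * v * h) * h⁻¹ = v := by group
    rwa [h2] at h1
  have h1 := hc (h * M₁.e aa * h⁻¹) ⟨h, hhn, rfl⟩ v hvW
  rw [← mem_Q_conj, n_mem_Q_iff b hV hE hi hvW] at h1
  rw [mem_cj] at hv
  have h2 := h1.1 (b.WWa_le_Qa (le_WW₂ V₁ V₂ _ hv))
  exact absurd (FiveMod.Ind.unique (FiveMod.ind_one_iff.2 h2) hvi) (by decide)

/-- **THEOREM B1 for arbitrary `V₀`** (#15257 (5)) -/
theorem false_of {V0 : Subgroup G} (hV0S : ∀ v ∈ V0, ∀ g ∈ (S : Subgroup G), g * v = v * g)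
    (hV0L : ∀ v ∈ V0, ∀ g ∈ L₁, g * v = v * g)
    (hfix : ∀ u ∈ UU (M₁.e nn) (M₁.e aa), (∀ t ∈ (S : Subgroup G) ⊓ centralizer ({M₁.e nn} : Set G),
      t * u = u * t) → ∃ v ∈ V0, u = v ∨ u = v * M₁.e nn ∨ u = v * M₁.e aa ∨ u = v * M₁.e ss)
    (heq : ∀ c ∈ cls (centralizer ({M₁.e nn} : Set G)) (M₁.e aa),
      (∀ t ∈ (S : Subgroup G) ⊓ centralizer ({M₁.e nn} : Set G), t * c = c * t) → c = M₁.e aa)
    (hV : V₁ ≤ Q (M₁.e ss)) (hU : UU (M₁.e nn) (M₁.e aa) ≤ Q (M₁.e aa)) : False := by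
  obtain ⟨x, hxS, hx, -⟩ := exists_x b
  exact false_of_conn b hV hU (conn_of (con b hV0S hV0L hfix heq hU hxS hx))

end main

end Cfsg.Agent.Omega.TTn.Z.BOne

end

section


/-!
# T-T, `n` not 2-central: from two modules to one

`Base.to_one₂ : Base S M₁ M₂ h → ∃ k, Base S M₂ M₂ k` and `Base.to_one₁ : Base S M₁ M₂ h → ∃ k, Base S M₁ M₁ k`
(LEMMA TWO, `TwoTypes.Duo.not_comm`, `Duo.exists_one`).
-/

set_option autoImplicit false

namespace Cfsg.Agent.Omega.TTn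

open Subgroup Cfsg Cfsg.Agent.ZN Cfsg.Agent.ZN.ChoiceBase
open Cfsg.Agent.Omega.S5.Mod Cfsg.Agent.Omega.S5.TT
open Cfsg.Agent.Omega.S5.TT.Pos (mem_C)
open Cfsg.Agent.MinSimple.VModule (o2_isPGroup o2_le)

universe u

variable {G : Type u} [Group G]

namespace Base

variable {S : Sylow 2 G} {V₁ V₂ L₁ L₂ : Subgroup G} {M₁ : FiveMod V₁ L₁} {M₂ : FiveMod V₂ L₂} {h : G}

/-- `O₂(C_G(V₂)) ≤ C_S(n)`. -/
theorem R_le (b : Base S M₁ M₂ h) {r : G} (hr : r ∈ o2 (centralizer (V₂ : Set G))) :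
    r ∈ (S : Subgroup G) ⊓ centralizer ({M₁.e nn} : Set G) := by
  refine mem_inf.2 ⟨?_, ?_⟩
  · have hn : (S : Subgroup G) ≤ normalizer (o2 (centralizer (V₂ : Set G)) : Set G) := by
      intro g hg
      rw [mem_normalizer_iff]
      intro y
      constructor
      · exact fun hy => TwoTypes.conj_R (b.dih₂.S_norm hg) hy
      · intro hy
        have h1 := TwoTypes.conj_R (inv_mem (b.dih₂.S_norm hg)) hy
        have h2 : g⁻¹ * (g * y * g⁻¹) * g⁻¹⁻¹ = y := by group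
        rwa [h2] at h1
    have h1 : IsPGroup 2 ((S : Subgroup G) ⊔ o2 (centralizer (V₂ : Set G)) : Subgroup G) :=
      IsPGroup.to_sup_of_normal_right' S.isPGroup' (o2_isPGroup _) hn
    have h2 := S.is_maximal' h1 le_sup_left
    rw [← h2]
    exact (le_sup_right : o2 (centralizer (V₂ : Set G)) ≤ _) hr
  · rw [mem_C, b.en]
    exact (mem_centralizer_iff.1 (o2_le _ hr) _ (M₂.e_mem _)).symm

theorem duo [Finite G] (b : Base S M₁ M₂ h) : ∃ x, TwoTypes.Duo M₁ M₂ x h := by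
  obtain ⟨x, hxS, hx⟩ := b.dih₁.exists_swap
  refine ⟨x, b.en.symm, b.ea.symm, ?_, ?_, b.V₁_le_Q, b.V₂_le_Q, ?_, Dih.tt_n hx, b.dih₁.S_norm hxS,
    b.dih₂.S_norm hxS, b.hn, ?_, ?_⟩
  · intro q hq
    obtain ⟨p, hp | hp, hi⟩ := b.Q_ind₁ hq
    · left; rwa [hp] at hi
    · right; rwa [hp] at hi
  · intro q hq
    obtain ⟨p, hp | hp, hi⟩ := b.Q_ind₂ hq
    · left; rwa [hp] at hi
    · right; rwa [hp] at hi
  · intro r hr
    exact b.dih₁.T_ind (b.R_le hr)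
  · obtain ⟨w, ⟨v, hv, rfl⟩, hi⟩ := b.ex
    exact ⟨v, hv, hi⟩
  · obtain ⟨w, ⟨v, hv, rfl⟩, hi⟩ := b.symm.ex
    refine ⟨v, hv, ?_⟩
    change M₂.Ind (h⁻¹ * v * h⁻¹⁻¹) _ at hi
    rwa [inv_inv] at hi

/-- LEMMA TWO: the configuration `Base` for the second module alone. -/
theorem to_one₂ [Finite G] (b : Base S M₁ M₂ h) : ∃ k, Base S M₂ M₂ k := by
  obtain ⟨x, t⟩ := b.duo
  obtain ⟨k, hk, h1, h2, h3, -⟩ := t.exists_one
  refine ⟨k, b.two, b.dih₂, b.dih₂, rfl, rfl, hk, ?_, ?_, h2, ?_⟩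
  · intro v hv
    rcases h1 v hv with h4 | h4
    · exact ⟨_, Or.inl rfl, h4⟩
    · exact ⟨_, Or.inr rfl, h4⟩
  · intro v hv
    rcases h3 v hv with h4 | h4
    · exact ⟨_, Or.inl rfl, h4⟩
    · exact ⟨_, Or.inr rfl, h4⟩
  · rw [← b.en]; exact b.nc

/-- LEMMA TWO: the configuration `Base` for the first module alone. -/
theorem to_one₁ [Finite G] (b : Base S M₁ M₂ h) : ∃ k, Base S M₁ M₁ k := b.symm.to_one₂

end Base

end Cfsg.Agent.Omega.TTn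

end

section


/-!
# T-T, `n` not 2-central: the assembly of `S5.Main.TTNon`

Inputs (for ONE module, `Base S M M h`):

* `DiProp` : `U_n ≤ O₂(C_G(a))` (helper439, #14261);
* `BetaProp` : `V ≤ O₂(C_G(s))` and `U_n ≤ O₂(C_G(a))` is impossible (helper429, #13318, #13720).
-/

set_option autoImplicit false

namespace Cfsg.Agent.Omega.TTn

open Subgroup Cfsg Cfsg.Agent.ZN Cfsg.Agent.ZN.ChoiceBase
open Cfsg.Agent.Omega.S5.Mod Cfsg.Agent.Omega.S5.TT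

universe u

/-- **D(i) is impossible**: `U_n ≤ O₂(C_G(a))`. -/
def DiProp : Prop :=
  ∀ (G : Type u) [Group G] [Finite G] (S : Sylow 2 G) (V L : Subgroup G) (M : FiveMod V L) (h : G),
    Base S M M h → UU (M.e nn) (M.e aa) ≤ Q (M.e aa)

/-- **Case beta is impossible**, given `U_n ≤ O₂(C_G(a))`. -/
def BetaProp : Prop :=
  ∀ (G : Type u) [Group G] [Finite G] (S : Sylow 2 G) (V L : Subgroup G) (M : FiveMod V L) (h : G),
    Base S M M h → V ≤ Q (M.e ss) → UU (M.e nn) (M.e aa) ≤ Q (M.e aa) → False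

theorem ttNon (h1 : DiProp.{u}) (h2 : BetaProp.{u}) : Cfsg.Agent.Omega.S5.Main.TTNon.{u} := by
  intro G _ _ hG S _ hI P₁ P₂ y ε ε₂ hl t1 t2 hC
  obtain ⟨g, k, M₁, M₂, -, b⟩ := exists_base hG.char2 hl t1 t2 hC
  obtain ⟨k', b'⟩ := b.to_one₁
  exact h2 G S _ _ M₁ k' b' (b.dih₁.le_Qs (hI P₁ hl.pair.star₁)) (h1 G S _ _ M₁ k' b')

end Cfsg.Agent.Omega.TTn

end

section


/-!
# #14261: `[U_n, U_a] = 1` and `U_n ≤ O₂(C_G(a))` (`DiProp`)
-/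

set_option autoImplicit false

namespace Cfsg.Agent.Omega.TTn.Di

open Subgroup Cfsg Cfsg.Agent.ZN
open Cfsg.Agent.Omega.S5.Mod Cfsg.Agent.Omega.S5.TT
open Cfsg.Agent.Omega.S5.TT.Pos (sn ns mem_C)

universe u

variable {G : Type u} [Group G] {S : Sylow 2 G} {V L : Subgroup G} {M : FiveMod V L} {h : G}

/-- `U i j` is generated by `s i s j` and the `C_G(s i s j)`-conjugates of `s m`. -/
theorem UP_gen [Finite G] (b : Base S M M h) {i j k l m : Fin 5} (h5 : D5 i j k l m) :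
    UP M i j ≤ closure {x | x = sv M i * sv M j ∨
      ∃ g, g * (sv M i * sv M j) = sv M i * sv M j * g ∧ x = cj g (sv M m)} := by
  obtain ⟨p, rfl, rfl, rfl, rfl, rfl⟩ := exists_perm5 h5
  obtain ⟨l, -, hl⟩ := M.exists_lift p
  have hl : M.Ind l p := hl
  set H := closure {x | x = sv M (p 0) * sv M (p 1) ∨
    ∃ g, g * (sv M (p 0) * sv M (p 1)) = sv M (p 0) * sv M (p 1) * g ∧ x = cj g (sv M (p 4))} with hH
  have key : UU (M.e nn) (M.e aa) ≤ ZN.ChoiceBase.cj l⁻¹ H := by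
    have hnH : sv M (p 0) * sv M (p 1) ∈ H := subset_closure (Or.inl rfl)
    refine UU_le ?_ fun g hg => ?_
    · rw [ZN.ChoiceBase.mem_cj, inv_inv, ← sv01, svsv_conj hl]
      exact hnH
    · rw [ZN.ChoiceBase.mem_cj, inv_inv]
      have hg' : g * (sv M 0 * sv M 1) = sv M 0 * sv M 1 * g := by rw [sv01]; exact hg
      have h1 : l * (g * M.e aa * g⁻¹) * l⁻¹ =
          sv M (p 0) * sv M (p 1) * cj (l * g * l⁻¹) (sv M (p 4)) := by
        rw [← ns M, ← sv4, ← svsv_conj hl, ← sv_conj hl, ← sv01]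
        unfold cj
        calc l * (g * (sv M 0 * sv M 1 * sv M 4) * g⁻¹) * l⁻¹ =
            l * ((g * (sv M 0 * sv M 1)) * sv M 4 * g⁻¹) * l⁻¹ := by group
          _ = l * ((sv M 0 * sv M 1 * g) * sv M 4 * g⁻¹) * l⁻¹ := by rw [hg']
          _ = _ := by group
      rw [h1]
      refine H.mul_mem hnH (subset_closure (Or.inr ⟨_, ?_, rfl⟩))
      rw [← svsv_conj hl]
      calc l * g * l⁻¹ * (l * (sv M 0 * sv M 1) * l⁻¹) = l * (g * (sv M 0 * sv M 1)) * l⁻¹ := by group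
        _ = l * (sv M 0 * sv M 1 * g) * l⁻¹ := by rw [hg']
        _ = _ := by group
  intro u hu
  have h1 := key (UP_zero b hl hu)
  rw [ZN.ChoiceBase.mem_cj, inv_inv] at h1
  have h2 : l * (l⁻¹ * u * l) * l⁻¹ = u := by group
  rwa [h2] at h1

theorem cj_ne (b : Base S M M h) {i j k l m : Fin 5} (h5 : D5 i j k l m) (g : G) :
    cj g (sv M m) ≠ sv M k * sv M l := by
  obtain ⟨p, rfl, rfl, rfl, rfl, rfl⟩ := exists_perm5 h5
  obtain ⟨l, -, hl⟩ := M.exists_lift p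
  have hl : M.Ind l p := hl
  rw [← svsv_conj hl, ← sv_conj hl, sv4, sv23]
  intro h0
  refine b.conj_a_ne_s (l⁻¹ * g⁻¹ * l) ?_
  unfold cj at h0
  calc l⁻¹ * g⁻¹ * l * M.e aa * (l⁻¹ * g⁻¹ * l)⁻¹ = l⁻¹ * g⁻¹ * (l * M.e aa * l⁻¹) * g * l := by group
    _ = l⁻¹ * g⁻¹ * (g * (l * M.e ss * l⁻¹) * g⁻¹) * g * l := by rw [h0]
    _ = M.e ss := by group

/-- The frame `FrN` from `Base`. -/
theorem frN_of [Finite G] (b : Base S M M h) :
    ∃ w, FrN (sv M) (UP M) (WP M) (QP M) w (centralizer (V : Set G)) := by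
  obtain ⟨w, hw, F⟩ := fr_of_ind b (cwStd b) (coreStd b) (faithStd b)
  refine ⟨w, { F with
    NU := fun _ g hg u hu => UP_norm hg hu
    gen := fun h5 => UP_gen b h5
    nc := fun h5 g => cj_ne b h5 g
    wcj := ?_
    wcj' := ?_ }⟩
  · intro i j hij
    have h1 := sv_conj (hw i j hij) i
    rwa [Equiv.swap_apply_left] at h1
  · intro i j k hij hki hkj
    have h1 := sv_conj (hw i j hij) k
    rwa [Equiv.swap_apply_of_ne_of_ne hki hkj] at h1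

/-- `[U_n, U_a] = 1` -/
theorem UU_comm_UUa [Finite G] (b : Base S M M h) {y z : G} (hy : y ∈ UU (M.e nn) (M.e aa))
    (hz : z ∈ UU (M.e aa) (M.e nn)) : y * z = z * y := by
  obtain ⟨w, F⟩ := frN_of b
  have h5 : D5 (0 : Fin 5) 1 2 3 4 := by constructor <;> decide
  refine F.comm_of (fun H => H.kill) h5 y ?_ z ?_
  · rw [UP_zero_one b]; exact hy
  · exact UP_two_three_le b hz

end Cfsg.Agent.Omega.TTn.Di

namespace Cfsg.Agent.Omega.TTn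

open Subgroup Cfsg Cfsg.Agent.ZN
open Cfsg.Agent.Omega.S5.Mod Cfsg.Agent.Omega.S5.TT

universe u

/-- **#14261 (helper439)**: `U_n ≤ O₂(C_G(a))`. -/
theorem diProp : DiProp.{u} := by
  intro G _ _ S V L M h b
  obtain ⟨h', b'⟩ := b.exists_flip
  have h1 := b'.WWa_inf_centralizer_le
  rw [Base.rel_nn, Base.rel_aa] at h1
  refine le_trans ?_ h1
  refine le_inf b.UU_le_WW fun y hy => mem_centralizer_iff.2 fun z hz => ?_
  exact (Di.UU_comm_UUa b hy hz).symm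

end Cfsg.Agent.Omega.TTn

end

section


/-!
# #14261 (helper439) and LEMMA TWO (helper107) over `Z.Base` (#15257 (6))

The files `Omega/TTn/{DiCore,DiCw,DiInst,DiCoreStd,DiStd,DiLast,ToOne}.lean` of helper439, 375, 107 without the hypothesis
`zc S ≤ V`; instead: the intersection of the ten groups `U_π` is trivial.
-/

set_option autoImplicit false
set_option linter.unusedSectionVars false

namespace Cfsg.Agent.Omega.TTn.Z

open Subgroup Cfsg Cfsg.Agent.ZN Cfsg.Agent.ZN.ChoiceBase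
open Cfsg.Agent.Omega.S5.Mod Cfsg.Agent.Omega.S5.TT
open Cfsg.Agent.Omega.S5.TT.Pos (na ns as sn n_ne s_ne a_ne n_ne_a n_ne_s a_ne_s e_sq' mem_C)
open Cfsg.Agent.MinSimple.VModule (o2_isPGroup le_o2 o2_le le_normalizer_o2)

universe u

variable {G : Type u} [Group G]

namespace Base

variable {S : Sylow 2 G} {V₁ V₂ L₁ L₂ : Subgroup G} {M₁ : FiveMod V₁ L₁} {M₂ : FiveMod V₂ L₂} {h : G}

/-- `O₂(C_G(V₂)) ≤ C_S(n)`. -/
theorem R_le (b : Base S M₁ M₂ h) {r : G} (hr : r ∈ o2 (centralizer (V₂ : Set G))) :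
    r ∈ (S : Subgroup G) ⊓ centralizer ({M₁.e nn} : Set G) := by
  refine mem_inf.2 ⟨?_, ?_⟩
  · have hn : (S : Subgroup G) ≤ normalizer (o2 (centralizer (V₂ : Set G)) : Set G) := by
      intro g hg
      rw [mem_normalizer_iff]
      intro y
      constructor
      · exact fun hy => TwoTypes.conj_R (b.dih₂.S_norm hg) hy
      · intro hy
        have h1 := TwoTypes.conj_R (inv_mem (b.dih₂.S_norm hg)) hy
        have h2 : g⁻¹ * (g * y * g⁻¹) * g⁻¹⁻¹ = y := by group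
        rwa [h2] at h1
    have h1 : IsPGroup 2 ((S : Subgroup G) ⊔ o2 (centralizer (V₂ : Set G)) : Subgroup G) :=
      IsPGroup.to_sup_of_normal_right' S.isPGroup' (o2_isPGroup _) hn
    have h2 := S.is_maximal' h1 le_sup_left
    rw [← h2]
    exact (le_sup_right : o2 (centralizer (V₂ : Set G)) ≤ _) hr
  · rw [mem_C, b.en]
    exact (mem_centralizer_iff.1 (o2_le _ hr) _ (M₂.e_mem _)).symm

theorem duo [Finite G] (b : Base S M₁ M₂ h) : ∃ x, TwoTypes.Duo M₁ M₂ x h := by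
  obtain ⟨x, hxS, hx⟩ := b.dih₁.exists_swap
  refine ⟨x, b.en.symm, b.ea.symm, ?_, ?_, b.V₁_le_Q, b.V₂_le_Q, ?_, Dih.tt_n hx, b.dih₁.S_norm hxS,
    b.dih₂.S_norm hxS, b.hn, ?_, ?_⟩
  · intro q hq
    obtain ⟨p, hp | hp, hi⟩ := b.Q_ind₁ hq
    · left; rwa [hp] at hi
    · right; rwa [hp] at hi
  · intro q hq
    obtain ⟨p, hp | hp, hi⟩ := b.Q_ind₂ hq
    · left; rwa [hp] at hi
    · right; rwa [hp] at hi
  · intro r hr
    exact b.dih₁.T_ind (b.R_le hr)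
  · obtain ⟨w, ⟨v, hv, rfl⟩, hi⟩ := b.ex
    exact ⟨v, hv, hi⟩
  · obtain ⟨w, ⟨v, hv, rfl⟩, hi⟩ := b.symm.ex
    refine ⟨v, hv, ?_⟩
    change M₂.Ind (h⁻¹ * v * h⁻¹⁻¹) _ at hi
    rwa [inv_inv] at hi

/-- LEMMA TWO: the configuration `Base` for the second module alone. -/
theorem to_one₂ [Finite G] (b : Base S M₁ M₂ h) : ∃ k, Base S M₂ M₂ k := by
  obtain ⟨x, t⟩ := b.duo
  obtain ⟨k, hk, h1, h2, h3, -⟩ := t.exists_one
  refine ⟨k, b.two, b.dih₂, b.dih₂, rfl, rfl, hk, ?_, ?_, h2, ?_⟩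
  · intro v hv
    rcases h1 v hv with h4 | h4
    · exact ⟨_, Or.inl rfl, h4⟩
    · exact ⟨_, Or.inr rfl, h4⟩
  · intro v hv
    rcases h3 v hv with h4 | h4
    · exact ⟨_, Or.inl rfl, h4⟩
    · exact ⟨_, Or.inr rfl, h4⟩
  · rw [← b.en]; exact b.nc

/-- LEMMA TWO: the configuration `Base` for the first module alone. -/
theorem to_one₁ [Finite G] (b : Base S M₁ M₂ h) : ∃ k, Base S M₁ M₁ k := b.symm.to_one₂

end Base

namespace Base

variable {S : Sylow 2 G} {V₁ V₂ L₁ L₂ : Subgroup G} {M₁ : FiveMod V₁ L₁} {M₂ : FiveMod V₂ L₂} {h : G}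
  (b : Base S M₁ M₂ h)
include b

/-- `C_G(U_n U_a)` -/
abbrev OO (M₁ : FiveMod V₁ L₁) : Subgroup G :=
  centralizer (UU (M₁.e nn) (M₁.e aa) : Set G) ⊓ centralizer (UU (M₁.e aa) (M₁.e nn) : Set G)

omit b in
theorem OO_norm [Finite G] {g : G} (hn : g * M₁.e nn = M₁.e nn * g) (ha : g * M₁.e aa = M₁.e aa * g) :
    g ∈ normalizer (OO M₁ : Set G) :=
  DiCoreAbs.mem_norm_of fun _ hx => mem_inf.2 ⟨cent_UU_norm hn hx.1, cent_UU_norm ha hx.2⟩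

omit b in
theorem OO_tt [Finite G] {g : G} (hg : M₁.Ind g tt) : g ∈ normalizer (OO M₁ : Set G) := by
  have h1 : g⁻¹ * M₁.e aa * g = M₁.e nn := by rw [← Dih.tt_n hg]; group
  have h2 : g⁻¹ * M₁.e nn * g = M₁.e aa := by rw [← Dih.tt_a hg]; group
  exact DiCoreAbs.mem_norm_of fun _ hx => mem_inf.2 ⟨cent_UU_conj h2 h1 hx.2, cent_UU_conj h1 h2 hx.1⟩

/-- `W_a ^ C_G(n)` and `Q_n` -/
def FF (V₁ V₂ : Subgroup G) (M₁ : FiveMod V₁ L₁) : Set G :=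
  {x | ∃ g, g * M₁.e nn = M₁.e nn * g ∧ ∃ w ∈ WW V₁ V₂ (M₁.e aa), x = g * w * g⁻¹} ∪
    {x | x ∈ Q (M₁.e nn)}

variable [Finite G]

theorem gen_le : L₁ ≤ closure (FF V₁ V₂ M₁ ∪ (normalizer (OO M₁ : Set G) : Set G)) := by
  set K₀ := closure (FF V₁ V₂ M₁ ∪ (normalizer (OO M₁ : Set G) : Set G)) with hK₀
  let H : Subgroup (Equiv.Perm (Fin 5)) :=
    { carrier := {p | ∃ g ∈ K₀, M₁.Ind g p}
      one_mem' := ⟨1, one_mem _, M₁.ind_one⟩
      mul_mem' := by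
        rintro p q ⟨g, hg, hi⟩ ⟨g', hg', hi'⟩
        exact ⟨g * g', mul_mem hg hg', hi.mul hi'⟩
      inv_mem' := by
        rintro p ⟨g, hg, hi⟩
        exact ⟨g⁻¹, inv_mem hg, hi.inv⟩ }
  obtain ⟨w, hw, hwi⟩ := b.exists_move_a₁
  have e1 : Equiv.swap 3 2 ∈ H := by
    refine ⟨w, subset_closure (Or.inl (Or.inl ⟨1, by rw [one_mul, mul_one], w, hw, by group⟩)), ?_⟩
    rw [Equiv.swap_comm]; exact hwi
  have e2 : Equiv.swap 4 3 ∈ H := by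
    obtain ⟨g, -, hg⟩ := M₁.exists_lift (Equiv.swap 2 4)
    refine ⟨g * w * g⁻¹, subset_closure (Or.inl (Or.inl ⟨g, (hg.commute_iff _).2 (Or.inl (by decide)), w, hw,
      rfl⟩)), ?_⟩
    have h1 := (hg.mul hwi).mul hg.inv
    rwa [show Equiv.swap (2 : Fin 5) 4 * Equiv.swap 2 3 * (Equiv.swap 2 4)⁻¹ = Equiv.swap 4 3 by decide] at h1
  obtain ⟨k, hkS, hk⟩ := b.dih₁.exists_swap
  have e0 : tt ∈ H := ⟨k, subset_closure (Or.inr (OO_tt hk)), hk⟩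
  have e3 : Equiv.swap 1 4 ∈ H := by
    have h1 := H.mul_mem (H.mul_mem e0 e2) (H.inv_mem e0)
    rwa [show tt * Equiv.swap 4 3 * tt⁻¹ = Equiv.swap 1 4 by decide] at h1
  have e4 : Equiv.swap 0 1 ∈ H := by
    have h1 := H.mul_mem (H.mul_mem e0 e1) (H.inv_mem e0)
    rwa [show tt * Equiv.swap 3 2 * tt⁻¹ = Equiv.swap 0 1 by decide] at h1
  have hH := perm_top e4 e3 e2 e1
  intro l hl
  obtain ⟨p, hp⟩ := M₁.exists_ind hl
  obtain ⟨g, hg, hi⟩ : p ∈ H := by rw [hH]; exact mem_top _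
  have h1 := hp.mul hi.inv
  rw [mul_inv_cancel] at h1
  have h2 := FiveMod.ind_one_iff.1 h1
  have h3 : l * g⁻¹ ∈ K₀ := by
    refine subset_closure (Or.inr (OO_norm ?_ ?_))
    · exact (mem_centralizer_iff.1 h2 _ (M₁.e_mem _)).symm
    · exact (mem_centralizer_iff.1 h2 _ (M₁.e_mem _)).symm
  have h4 := mul_mem h3 hg
  rwa [inv_mul_cancel_right] at h4

/-- **(2.4)** -/
theorem core_std {l f : G} (hl : l ∈ L₁) (hf : f ∈ WW V₁ V₂ (M₁.e nn))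
    (h1 : ∀ y ∈ UU (M₁.e nn) (M₁.e aa), l * f * l⁻¹ * y = y * (l * f * l⁻¹))
    (h2 : ∀ y ∈ UU (M₁.e aa) (M₁.e nn), l * f * l⁻¹ * y = y * (l * f * l⁻¹)) :
    l * f * l⁻¹ ∈ Q (M₁.e nn) := by
  have hWT : ∀ {w : G}, w ∈ WW V₁ V₂ (M₁.e aa) → w * M₁.e nn = M₁.e nn * w := fun hw =>
    mem_C.1 (b.Qa_le_T (b.WWa_le_Qa hw)).2
  have hCN : centralizer (UU (M₁.e nn) (M₁.e aa) : Set G) ≤ centralizer ({M₁.e nn} : Set G) :=
    b.centralizer_UU_le.trans inf_le_left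
  have hCa : ∀ {x : G}, x ∈ centralizer (UU (M₁.e nn) (M₁.e aa) : Set G) → x * M₁.e aa = M₁.e aa * x :=
    fun hx => mem_C.1 (b.centralizer_UU_le hx).2
  have hQf : f ∈ Q (M₁.e nn) := b.WW_le_Q hf
  obtain ⟨k, hk⟩ := o2_isPGroup _ ⟨f, hQf⟩
  have hk' : f ^ 2 ^ k = 1 := congrArg Subtype.val hk
  refine DiCoreAbs.core_abs (N := centralizer ({M₁.e nn} : Set G))
    (C := centralizer (UU (M₁.e nn) (M₁.e aa) : Set G)) (O := OO M₁) (L := L₁) (F := FF V₁ V₂ M₁) hCN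
    b.normalizer_centralizer_UU inf_le_left ?_ ?_ ?_ ?_ (b.gen_le) hl (Or.inr hQf) rfl ?_ (k := k) ?_
  · intro g hg
    exact OO_norm (mem_C.1 (hCN hg)) (hCa hg)
  · intro g hg
    exact OO_norm (mem_C.1 (b.Q_le_T hg).2) (b.a_comm_Q hg)
  · rintro _ (⟨g, hg, w, hw, rfl⟩ | hx)
    · exact mul_mem (mul_mem (mem_C.2 hg) (mem_C.2 (hWT hw))) (inv_mem (mem_C.2 hg))
    · exact o2_le _ hx
  · rintro _ (⟨g, hg, w, hw, rfl⟩ | hx) c hc
    · have hc' : g⁻¹ * c * g ∈ centralizer (UU (M₁.e nn) (M₁.e aa) : Set G) := by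
        have hg' : g⁻¹ * M₁.e nn = M₁.e nn * g⁻¹ := by
          rw [inv_mul_eq_iff_eq_mul, ← mul_assoc, hg, mul_inv_cancel_right]
        have := cent_UU_norm hg' hc.1
        rwa [inv_inv] at this
      set c' := g⁻¹ * c * g with hc'd
      have h3 : w * c' * w⁻¹ * c'⁻¹ ∈ Q (M₁.e nn) := by
        refine b.WWa_inf_centralizer_le (mem_inf.2 ⟨?_, ?_⟩)
        · have h4 := WW_norm (hCa hc') (inv_mem hw)
          have h5 : w * c' * w⁻¹ * c'⁻¹ = w * (c' * w⁻¹ * c'⁻¹) := by group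
          rw [h5]
          exact mul_mem hw h4
        · exact mul_mem (cent_UU_norm (hWT hw) hc') (inv_mem hc')
      have h4 := b.Q_conj hg h3
      have h5 : g * (w * c' * w⁻¹ * c'⁻¹) * g⁻¹ = g * w * g⁻¹ * c * (g * w * g⁻¹)⁻¹ * c⁻¹ := by
        rw [hc'd]; group
      rwa [h5] at h4
    · rename_i x
      have h3 := b.Q_conj (mem_C.1 (hCN hc.1)) (inv_mem hx)
      have h4 : x * c * x⁻¹ * c⁻¹ = x * (c * x⁻¹ * c⁻¹) := by group
      rw [h4]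
      exact mul_mem hx h3
  · exact mem_inf.2 ⟨mem_centralizer_iff.2 fun y hy => (h1 y hy).symm,
      mem_centralizer_iff.2 fun y hy => (h2 y hy).symm⟩
  · have h3 : (l * f * l⁻¹) ^ 2 ^ k = l * f ^ 2 ^ k * l⁻¹ := conj_pow
    rw [h3, hk', mul_one, mul_inv_cancel]

end Base

namespace Base

variable [Finite G] {S : Sylow 2 G} {V₁ V₂ L₁ L₂ : Subgroup G} {M₁ : FiveMod V₁ L₁}
  {M₂ : FiveMod V₂ L₂} {h : G} (b : Base S M₁ M₂ h)
include b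

/-- **(1.5)** `[C_G(U_n), W_a] ≤ Q_n` -/
theorem cw {c x : G} (hc : ∀ u ∈ UU (M₁.e nn) (M₁.e aa), c * u = u * c)
    (hx : x ∈ WW V₁ V₂ (M₁.e aa)) : c * x * c⁻¹ * x⁻¹ ∈ Q (M₁.e nn) := by
  have hcC : c ∈ centralizer (UU (M₁.e nn) (M₁.e aa) : Set G) :=
    mem_centralizer_iff.2 fun u hu => (hc u hu).symm
  refine b.WWa_inf_centralizer_le (mem_inf.2 ⟨?_, ?_⟩)
  · exact mul_mem (WW_norm (hc _ (mem_UU_self _ _)) hx) (inv_mem hx)
  · have h1 : x ∈ normalizer (centralizer (UU (M₁.e nn) (M₁.e aa) : Set G) : Set G) :=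
      b.normalizer_centralizer_UU (b.Qa_le_T (b.WWa_le_Qa hx)).2
    have h2 := (mem_normalizer_iff.1 h1 _).1 (inv_mem hcC)
    have e : c * x * c⁻¹ * x⁻¹ = c * (x * c⁻¹ * x⁻¹) := by group
    rw [e]
    exact mul_mem hcC h2

/-- **(3.4)** `g ∈ C_G(n)`, `[g, U_n] ≤ ⟨n⟩` ⟹ `[g, U_n] = 1`. -/
theorem faith {g : G} (hgn : g * M₁.e nn = M₁.e nn * g)
    (hg : ∀ u ∈ UU (M₁.e nn) (M₁.e aa), g * u * g⁻¹ * u⁻¹ = 1 ∨ g * u * g⁻¹ * u⁻¹ = M₁.e nn)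
    {u : G} (hu : u ∈ UU (M₁.e nn) (M₁.e aa)) : g * u = u * g :=
  dn_centralizes (n := M₁.e nn) (M₁.e_sq nn) (S.isPGroup'.to_le inf_le_left) inf_le_right b.not_dvd
    (fun _ ht => b.dih₁.T_comm_a ht) ⟨hgn, hg⟩ hu

end Base

end Cfsg.Agent.Omega.TTn.Z

namespace Cfsg.Agent.Omega.TTn.Z.Di

open Subgroup Cfsg Cfsg.Agent.ZN
open Cfsg.Agent.Omega.S5.Mod Cfsg.Agent.Omega.S5.TT
open Cfsg.Agent.Omega.S5.TT.Pos (n_ne a_ne n_ne_a e_sq' mem_C sn ns)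
open Cfsg.Agent.MinSimple.VModule (o2_isPGroup le_o2 o2_le le_normalizer_o2 o2_le_of_sylow)
open Cfsg.Agent.Omega.TTn.Di

universe u

variable {G : Type u} [Group G]

variable {S : Sylow 2 G} {V L : Subgroup G} {M : FiveMod V L} {h : G}

section base

variable (b : Base S M M h)
include b

variable [Finite G]

theorem UP_zero_one : UP M 0 1 = UU (M.e nn) (M.e aa) := by
  refine le_antisymm (UP_le fun g hg x hx => ?_) (UU_le ?_ fun g hg => ?_)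
  · rw [sv01] at hg
    exact UU_norm hg (b.perp_mem₁ hx)
  · exact e_mem_UP (by decide)
  · rw [← sv01] at hg
    exact mem_UP hg (by decide)

/-- reduction to the labels `0`, `1` -/
theorem UP_zero {p : Equiv.Perm (Fin 5)} {l u : G} (hl : M.Ind l p) (hu : u ∈ UP M (p 0) (p 1)) :
    l⁻¹ * u * l ∈ UU (M.e nn) (M.e aa) := by
  rw [← UP_zero_one b, ← UP_conj_iff hl]
  have : l * (l⁻¹ * u * l) * l⁻¹ = u := by group
  rwa [this]

theorem U_comm_Q {i j : Fin 5} (hij : i ≠ j) {q u : G} (hq : q ∈ QP M i j) (hu : u ∈ UP M i j) :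
    q * u = u * q := by
  obtain ⟨p, rfl, rfl⟩ := exists_perm2 hij
  obtain ⟨l, -, hl⟩ := M.exists_lift p
  have hl : M.Ind l p := hl
  have eq' : q = l * (l⁻¹ * q * l) * l⁻¹ := by group
  have eu : u = l * (l⁻¹ * u * l) * l⁻¹ := by group
  rw [eq', eu, comm_conj_iff]
  refine (b.UU_comm_Q ?_ ?_).symm
  · rw [← UP_zero_one b, ← UP_conj_iff hl, ← eu]; exact hu
  · rw [← QP01, ← QP_conj_iff hl, ← eq']; exact hq

theorem U_le_Q {i j : Fin 5} (hij : i ≠ j) : UP M i j ≤ QP M i j := by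
  obtain ⟨p, rfl, rfl⟩ := exists_perm2 hij
  obtain ⟨l, -, hl⟩ := M.exists_lift p
  have hl : M.Ind l p := hl
  intro u hu
  have eu : u = l * (l⁻¹ * u * l) * l⁻¹ := by group
  rw [eu, QP_conj_iff hl, QP01]
  refine b.UU_le_Q ?_
  rw [← UP_zero_one b, ← UP_conj_iff hl, ← eu]; exact hu

theorem W_le_Q {i j : Fin 5} (hij : i ≠ j) : WP M i j ≤ QP M i j := by
  obtain ⟨p, rfl, rfl⟩ := exists_perm2 hij
  obtain ⟨l, -, hl⟩ := M.exists_lift p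
  have hl : M.Ind l p := hl
  intro u hu
  have eu : u = l * (l⁻¹ * u * l) * l⁻¹ := by group
  rw [eu, QP_conj_iff hl, QP01]
  refine b.WW_le_Q ?_
  rw [← WP01, ← WP_conj_iff hl, ← eu]; exact hu

theorem V_le_QP {i j : Fin 5} (hij : i ≠ j) : V ≤ QP M i j :=
  (le_WW₁ V V _).trans (W_le_Q b hij)

theorem U_le_C {i j : Fin 5} (hij : i ≠ j) : UP M i j ≤ centralizer (V : Set G) := by
  intro u hu
  rw [mem_centralizer_iff]
  intro v hv
  exact U_comm_Q b hij (V_le_QP b hij hv) hu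

theorem U_sq {i j : Fin 5} (hij : i ≠ j) {u : G} (hu : u ∈ UP M i j) : u * u = 1 := by
  obtain ⟨p, rfl, rfl⟩ := exists_perm2 hij
  obtain ⟨l, -, hl⟩ := M.exists_lift p
  have hl : M.Ind l p := hl
  have h1 := b.UU_sq (u := l⁻¹ * u * l) (by
    rw [← UP_zero_one b, ← UP_conj_iff hl]
    have : l * (l⁻¹ * u * l) * l⁻¹ = u := by group
    rwa [this])
  have h2 : l⁻¹ * u * l * (l⁻¹ * u * l) = l⁻¹ * (u * u) * l := by group
  rw [h2] at h1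
  have h3 := congrArg (fun t => l * t * l⁻¹) h1
  simpa [mul_assoc] using h3

theorem QW_comm {i j : Fin 5} (hij : i ≠ j) {q x : G} (hq : q ∈ QP M i j) (hx : x ∈ WP M i j) :
    cm q x = 1 ∨ cm q x = sv M i * sv M j := by
  obtain ⟨p, rfl, rfl⟩ := exists_perm2 hij
  obtain ⟨l, -, hl⟩ := M.exists_lift p
  have hl : M.Ind l p := hl
  have eq' : q = l * (l⁻¹ * q * l) * l⁻¹ := by group
  have ex : x = l * (l⁻¹ * x * l) * l⁻¹ := by group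
  have h1 : l⁻¹ * x * l ∈ WW V V (M.e nn) := by
    rw [← WP01, ← WP_conj_iff hl, ← ex]; exact hx
  have h2 : l⁻¹ * q * l ∈ Q (M.e nn) := by
    rw [← QP01, ← QP_conj_iff hl, ← eq']; exact hq
  have h3 := b.WW_comm h1 h2
  rw [eq', ex, ← cm_conj, ← svsv_conj hl, sv01]
  have h4 : cm (l⁻¹ * q * l) (l⁻¹ * x * l) =
      (l⁻¹ * x * l * (l⁻¹ * q * l) * (l⁻¹ * x * l)⁻¹ * (l⁻¹ * q * l)⁻¹)⁻¹ := by
    unfold cm; group
  rcases h3 with h3 | h3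
  · left; rw [h4, h3]; group
  · right; rw [h4, h3, M.e_inv]

/-- squares in `W n` -/
theorem WW_sq {x : G} (hx : x ∈ WW V V (M.e nn)) : x * x = 1 ∨ x * x = M.e nn := by
  have hn : ∀ {y : G}, y ∈ Q (M.e nn) → y * M.e nn = M.e nn * y := fun hy => mem_C.1 (o2_le _ hy)
  induction hx using closure_induction with
  | mem y hy =>
    obtain ⟨g, hg, v, hv, rfl⟩ := hy
    left
    have hv' : v ∈ V := hv.elim id id
    have h1 : g * v * g⁻¹ * (g * v * g⁻¹) = g * (v * v) * g⁻¹ := by group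
    rw [h1, M.sq hv']; group
  | one => left; group
  | mul x y hx hy h1 h2 =>
    have hxQ : x ∈ Q (M.e nn) := b.WW_le_Q hx
    have hyQ : y ∈ Q (M.e nn) := b.WW_le_Q hy
    have h3 := b.WW_comm hy hxQ
    have e : x * y * (x * y) = x * (y * x * y⁻¹ * x⁻¹) * x⁻¹ * (x * x) * (y * y) := by group
    have h4 : x * (y * x * y⁻¹ * x⁻¹) * x⁻¹ = y * x * y⁻¹ * x⁻¹ := by
      rcases h3 with h3 | h3
      · rw [h3]; group
      · rw [h3, hn hxQ, mul_inv_cancel_right]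
    rw [e, h4]
    rcases h1 with h1 | h1 <;> rcases h2 with h2 | h2 <;> rcases h3 with h3 | h3 <;> rw [h1, h2, h3] <;>
      simp [M.e_sq]
  | inv x hx h1 =>
    have e : x⁻¹ * x⁻¹ = (x * x)⁻¹ := by group
    rw [e]
    rcases h1 with h1 | h1
    · left; rw [h1]; group
    · right; rw [h1, M.e_inv]

theorem W_sq {i j : Fin 5} (hij : i ≠ j) {x : G} (hx : x ∈ WP M i j) : x * x = 1 ∨ x * x = sv M i * sv M j := by
  obtain ⟨p, rfl, rfl⟩ := exists_perm2 hij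
  obtain ⟨l, -, hl⟩ := M.exists_lift p
  have hl : M.Ind l p := hl
  have ex : x = l * (l⁻¹ * x * l) * l⁻¹ := by group
  have h1 : l⁻¹ * x * l ∈ WW V V (M.e nn) := by
    rw [← WP01, ← WP_conj_iff hl, ← ex]; exact hx
  have h2 := WW_sq b h1
  have e : x * x = l * (l⁻¹ * x * l * (l⁻¹ * x * l)) * l⁻¹ := by group
  rw [e, ← svsv_conj hl, sv01]
  rcases h2 with h2 | h2
  · left; rw [h2]; group
  · right; rw [h2]

theorem sv_notMem {i j : Fin 5} (hij : i ≠ j) : sv M i ∉ UP M i j := by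
  obtain ⟨p, rfl, rfl⟩ := exists_perm2 hij
  obtain ⟨l, -, hl⟩ := M.exists_lift p
  have hl : M.Ind l p := hl
  rw [← sv_conj hl, UP_conj_iff hl, UP_zero_one b]
  intro h1
  have h2 := b.perp_of_mem₁ h1
  revert h2
  decide

theorem exists_w {i j : Fin 5} (hij : i ≠ j) : ∃ w ∈ WP M i j, M.Ind w (Equiv.swap i j) := by
  obtain ⟨p, rfl, rfl⟩ := exists_perm2 hij
  obtain ⟨l, -, hl⟩ := M.exists_lift p
  have hl : M.Ind l p := hl
  obtain ⟨w, hw, hi⟩ := b.exists_move₁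
  refine ⟨l * w * l⁻¹, WP_conj hl (by rwa [WP01]), ?_⟩
  have h1 := (hl.mul hi).mul hl.inv
  have h2 : p * Equiv.swap 0 1 * p⁻¹ = Equiv.swap (p 0) (p 1) := (Equiv.swap_apply_apply p 0 1).symm
  rwa [h2] at h1

/-- The frame of #14261 from `Base` (one module) and the three facts (1.5), (2.4), (3.4), with the
action of `w i j` on `V`. -/
theorem fr_of_ind (hI : ∀ x, (∀ i j, i ≠ j → x ∈ UP M i j) → x = 1) (hcw : CwStd M) (hcore : CoreStd M)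
    (hfaith : FaithStd M) :
    ∃ w : Fin 5 → Fin 5 → G, (∀ i j, i ≠ j → M.Ind (w i j) (Equiv.swap i j)) ∧
      Fr (sv M) (UP M) (WP M) (QP M) w (centralizer (V : Set G)) := by
  have hex : ∀ i j : Fin 5, ∃ w, i ≠ j → w ∈ WP M i j ∧ M.Ind w (Equiv.swap i j) := by
    intro i j
    by_cases hij : i = j
    · exact ⟨1, fun h0 => absurd hij h0⟩
    · obtain ⟨w, hw, hi⟩ := exists_w b hij
      exact ⟨w, fun _ => ⟨hw, hi⟩⟩
  choose w hw using hex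
  refine ⟨w, fun i j hij => (hw i j hij).2, ?_⟩
  refine
    { s_sq := fun i => M.e_sq _
      s_comm := fun i j => M.e_comm _ _
      s_rel := ?_
      sK := ?_
      Ks := ?_
      Usym := UP_symm M
      Wsym := WP_symm M
      Qsym := QP_symm M
      UK := fun hij => U_le_C b hij
      KU := ?_
      KW := ?_
      Uab := ?_
      Usq := fun hij u hu => U_sq b hij hu
      UQ := fun hij => U_le_Q b hij
      UQc := fun hij q hq u hu => U_comm_Q b hij hq hu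
      WQ := fun hij => W_le_Q b hij
      QW := fun hij q hq x hx => QW_comm b hij hq hx
      Wsq := fun hij x hx => W_sq b hij hx
      sU := ?_
      sU' := fun hij => sv_notMem b hij
      wW := fun hij => (hw _ _ hij).1
      w1 := ?_
      w2 := ?_
      w3 := ?_
      cw := fun h5 => hcw.gen h5
      core := fun h5 => hcore.gen h5
      inter := fun x hx => hI x hx
      faith := fun hij => hfaith.gen hij }
  · intro i j k l m h5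
    obtain ⟨p, rfl, rfl, rfl, rfl, rfl⟩ := exists_perm5 h5
    unfold sv
    rw [← M.e_add, ← M.e_add, ← M.e_add, ← M.e_add]
    have h1 : ((Pi.single (p 0) 1 + Pi.single (p 1) 1 + Pi.single (p 2) 1 + Pi.single (p 3) 1 +
        Pi.single (p 4) 1 : Vec)) = 1 := by
      funext x
      obtain ⟨y, rfl⟩ := p.surjective x
      simp only [Pi.add_apply, Pi.single_apply, p.injective.eq_iff, Pi.one_apply]
      fin_cases y <;> simp
    rw [h1, M.e_one]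
  · intro i
    rw [mem_centralizer_iff]
    exact fun v hv => M.comm hv (M.e_mem _)
  · intro i g hg
    exact (mem_centralizer_iff.1 hg _ (M.e_mem _)).symm
  · intro i j hij g hg u hu
    refine UP_norm ?_ hu
    have h1 := (mem_centralizer_iff.1 hg _ (M.e_mem (Pi.single i 1))).symm
    have h2 := (mem_centralizer_iff.1 hg _ (M.e_mem (Pi.single j 1))).symm
    unfold sv
    rw [← mul_assoc, h1, mul_assoc, h2, ← mul_assoc]
  · intro i j hij g hg u hu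
    refine WW_norm ?_ hu
    have h1 := (mem_centralizer_iff.1 hg _ (M.e_mem (Pi.single i 1))).symm
    have h2 := (mem_centralizer_iff.1 hg _ (M.e_mem (Pi.single j 1))).symm
    unfold sv
    rw [← mul_assoc, h1, mul_assoc, h2, ← mul_assoc]
  · intro i j hij u hu v hv
    exact U_comm_Q b hij (U_le_Q b hij hu) hv
  · intro i j k hij hki hkj
    refine e_mem_UP ?_
    rw [Pi.single_eq_of_ne hki.symm, Pi.single_eq_of_ne hkj.symm]
  · intro i j k hij hki hkj u hu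
    have h1 := UP_conj (hw _ _ hij).2 hu
    rw [Equiv.swap_apply_left, Equiv.swap_apply_of_ne_of_ne hki hkj] at h1
    exact h1
  · intro i j k hij hki hkj u hu
    have h1 := UP_conj (hw _ _ hij).2 hu
    rw [Equiv.swap_apply_right, Equiv.swap_apply_of_ne_of_ne hki hkj] at h1
    exact h1
  · intro i j k l hij hki hkj hli hlj hkl u hu
    have h1 := UP_conj (hw _ _ hij).2 hu
    rw [Equiv.swap_apply_of_ne_of_ne hki hkj, Equiv.swap_apply_of_ne_of_ne hli hlj] at h1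
    exact h1

end base

theorem UP_two_three_le [Finite G] (b : Base S M M h) : UU (M.e aa) (M.e nn) ≤ UP M 2 3 := by
  intro y hy
  obtain ⟨k, -, hk⟩ := b.dih₁.exists_swap
  have h1 : k⁻¹ * M.e aa * k⁻¹⁻¹ = M.e nn := by rw [← Dih.tt_n hk]; group
  have h2 : k⁻¹ * M.e nn * k⁻¹⁻¹ = M.e aa := by rw [← Dih.tt_a hk]; group
  have h3 := UU_conj k⁻¹ hy
  rw [h1, h2, ← UP_zero_one b] at h3
  have h4 := UP_conj hk h3
  have h5 : k * (k⁻¹ * y * k⁻¹⁻¹) * k⁻¹ = y := by group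
  rw [h5] at h4
  exact h4

/-- (2.4) -/
theorem coreStd [Finite G] (b : Base S M M h) : CoreStd M := by
  intro c hc h1 h2
  obtain ⟨p, p0, p1⟩ := exists_perm2 (i := (1 : Fin 5)) (j := 2) (by decide)
  obtain ⟨l, hlL, hl⟩ := M.exists_lift p
  have ec : c = l * (l⁻¹ * c * l) * l⁻¹ := by group
  have hf : l⁻¹ * c * l ∈ WW V V (M.e nn) := by
    rw [← WP01, ← WP_conj_iff hl, ← ec, p0, p1]
    exact hc
  rw [QP01, ec]
  refine b.core_std hlL hf (fun y hy => ?_) fun y hy => ?_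
  · rw [← ec]
    exact h1 y (by rw [UP_zero_one b]; exact hy)
  · rw [← ec]
    exact h2 y (UP_two_three_le b hy)

theorem cwStd [Finite G] (b : Base S M M h) : CwStd M := by
  intro c hc x hx
  rw [QP01]
  rw [WP23] at hx
  exact b.cw (fun u hu => hc u (by rwa [UP_zero_one b])) hx

theorem faithStd [Finite G] (b : Base S M M h) : FaithStd M := by
  intro g hg h1 u hu
  rw [UP_zero_one b] at hu
  refine b.faith ?_ (fun v hv => ?_) hu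
  · exact (mem_centralizer_iff.1 hg _ (M.e_mem _)).symm
  · have h2 := h1 v (by rwa [UP_zero_one b])
    rw [sv01] at h2
    exact h2

/-- `U i j` is generated by `s i s j` and the `C_G(s i s j)`-conjugates of `s m`. -/
theorem UP_gen [Finite G] (b : Base S M M h) {i j k l m : Fin 5} (h5 : D5 i j k l m) :
    UP M i j ≤ closure {x | x = sv M i * sv M j ∨
      ∃ g, g * (sv M i * sv M j) = sv M i * sv M j * g ∧ x = cj g (sv M m)} := by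
  obtain ⟨p, rfl, rfl, rfl, rfl, rfl⟩ := exists_perm5 h5
  obtain ⟨l, -, hl⟩ := M.exists_lift p
  have hl : M.Ind l p := hl
  set H := closure {x | x = sv M (p 0) * sv M (p 1) ∨
    ∃ g, g * (sv M (p 0) * sv M (p 1)) = sv M (p 0) * sv M (p 1) * g ∧ x = cj g (sv M (p 4))} with hH
  have key : UU (M.e nn) (M.e aa) ≤ ZN.ChoiceBase.cj l⁻¹ H := by
    have hnH : sv M (p 0) * sv M (p 1) ∈ H := subset_closure (Or.inl rfl)
    refine UU_le ?_ fun g hg => ?_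
    · rw [ZN.ChoiceBase.mem_cj, inv_inv, ← sv01, svsv_conj hl]
      exact hnH
    · rw [ZN.ChoiceBase.mem_cj, inv_inv]
      have hg' : g * (sv M 0 * sv M 1) = sv M 0 * sv M 1 * g := by rw [sv01]; exact hg
      have h1 : l * (g * M.e aa * g⁻¹) * l⁻¹ =
          sv M (p 0) * sv M (p 1) * cj (l * g * l⁻¹) (sv M (p 4)) := by
        rw [← ns M, ← sv4, ← svsv_conj hl, ← sv_conj hl, ← sv01]
        unfold cj
        calc l * (g * (sv M 0 * sv M 1 * sv M 4) * g⁻¹) * l⁻¹ =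
            l * ((g * (sv M 0 * sv M 1)) * sv M 4 * g⁻¹) * l⁻¹ := by group
          _ = l * ((sv M 0 * sv M 1 * g) * sv M 4 * g⁻¹) * l⁻¹ := by rw [hg']
          _ = _ := by group
      rw [h1]
      refine H.mul_mem hnH (subset_closure (Or.inr ⟨_, ?_, rfl⟩))
      rw [← svsv_conj hl]
      calc l * g * l⁻¹ * (l * (sv M 0 * sv M 1) * l⁻¹) = l * (g * (sv M 0 * sv M 1)) * l⁻¹ := by group
        _ = l * (sv M 0 * sv M 1 * g) * l⁻¹ := by rw [hg']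
        _ = _ := by group
  intro u hu
  have h1 := key (UP_zero b hl hu)
  rw [ZN.ChoiceBase.mem_cj, inv_inv] at h1
  have h2 : l * (l⁻¹ * u * l) * l⁻¹ = u := by group
  rwa [h2] at h1

theorem cj_ne (b : Base S M M h) {i j k l m : Fin 5} (h5 : D5 i j k l m) (g : G) :
    cj g (sv M m) ≠ sv M k * sv M l := by
  obtain ⟨p, rfl, rfl, rfl, rfl, rfl⟩ := exists_perm5 h5
  obtain ⟨l, -, hl⟩ := M.exists_lift p
  have hl : M.Ind l p := hl
  rw [← svsv_conj hl, ← sv_conj hl, sv4, sv23]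
  intro h0
  refine b.conj_a_ne_s (l⁻¹ * g⁻¹ * l) ?_
  unfold cj at h0
  calc l⁻¹ * g⁻¹ * l * M.e aa * (l⁻¹ * g⁻¹ * l)⁻¹ = l⁻¹ * g⁻¹ * (l * M.e aa * l⁻¹) * g * l := by group
    _ = l⁻¹ * g⁻¹ * (g * (l * M.e ss * l⁻¹) * g⁻¹) * g * l := by rw [h0]
    _ = M.e ss := by group

/-- The frame `FrN` from `Base`. -/
theorem frN_of [Finite G] (b : Base S M M h) (hI : ∀ x, (∀ i j, i ≠ j → x ∈ UP M i j) → x = 1) :
    ∃ w, FrN (sv M) (UP M) (WP M) (QP M) w (centralizer (V : Set G)) := by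
  obtain ⟨w, hw, F⟩ := fr_of_ind b hI (cwStd b) (coreStd b) (faithStd b)
  refine ⟨w, { F with
    NU := fun _ g hg u hu => UP_norm hg hu
    gen := fun h5 => UP_gen b h5
    nc := fun h5 g => cj_ne b h5 g
    wcj := ?_
    wcj' := ?_ }⟩
  · intro i j hij
    have h1 := sv_conj (hw i j hij) i
    rwa [Equiv.swap_apply_left] at h1
  · intro i j k hij hki hkj
    have h1 := sv_conj (hw i j hij) k
    rwa [Equiv.swap_apply_of_ne_of_ne hki hkj] at h1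

/-- `[U_n, U_a] = 1` -/
theorem UU_comm_UUa [Finite G] (b : Base S M M h) (hI : ∀ x, (∀ i j, i ≠ j → x ∈ UP M i j) → x = 1)
    {y z : G} (hy : y ∈ UU (M.e nn) (M.e aa))
    (hz : z ∈ UU (M.e aa) (M.e nn)) : y * z = z * y := by
  obtain ⟨w, F⟩ := frN_of b hI
  have h5 : D5 (0 : Fin 5) 1 2 3 4 := by constructor <;> decide
  refine F.comm_of (fun H => H.kill) h5 y ?_ z ?_
  · rw [UP_zero_one b]; exact hy
  · exact UP_two_three_le b hz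

/-- **#14261 (helper439)** over `Z.Base`: `U_n ≤ O₂(C_G(a))` if `⋂ U_π = 1`. -/
theorem di [Finite G] (b : Base S M M h) (hI : ∀ x, (∀ i j, i ≠ j → x ∈ UP M i j) → x = 1) :
    UU (M.e nn) (M.e aa) ≤ Q (M.e aa) := by
  obtain ⟨h', b'⟩ := b.exists_flip
  have h1 := b'.WWa_inf_centralizer_le
  rw [Base.rel_nn, Base.rel_aa] at h1
  refine le_trans ?_ h1
  refine le_inf b.UU_le_WW fun y hy => mem_centralizer_iff.2 fun z hz => ?_
  exact (UU_comm_UUa b hI hy hz).symm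

end Cfsg.Agent.Omega.TTn.Z.Di

end

section


/-!
# `BetaProp` and `S5.Main.TTNon`
-/

set_option autoImplicit false
set_option linter.unusedSectionVars false

namespace Cfsg.Agent.Omega.TTn.Beta

open Subgroup Cfsg Cfsg.Agent.ZN Cfsg.Agent.ZN.ChoiceBase
open Cfsg.Agent.Omega.S5.Mod Cfsg.Agent.Omega.S5.TT
open Cfsg.Agent.Omega.S5.TT.Pos (na ns as sn n_ne s_ne a_ne n_ne_a mem_C)
open Cfsg.Agent.Omega.S5.ChiConst (cls)
open Cfsg.Agent.Omega.TTn.BOne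

universe u

variable {G : Type u} [Group G] [Finite G] {S : Sylow 2 G} {V₁ V₂ L₁ L₂ : Subgroup G} {M₁ : FiveMod V₁ L₁}
  {M₂ : FiveMod V₂ L₂} {h : G} (b : Base S M₁ M₂ h)
include b

theorem bb_cls : M₁.e bb ∈ cls (centralizer ({M₁.e nn} : Set G)) (M₁.e aa) := by
  obtain ⟨g, hg, -, h1⟩ := bb_mem b
  exact ⟨g, hg, h1⟩

theorem adj_bb : BZero.Adj (Fam (M₁.e nn) (WW V₁ V₂ (M₁.e nn))) (M₁.e aa) (M₁.e bb) := by
  obtain ⟨w, hw, hi⟩ := b.exists_move_a₁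
  refine ⟨w, (mem_F_a' b).2 hw, ?_⟩
  rw [Ne, hi.commute_iff]
  decide

/-- **Case beta is impossible.** -/
theorem false_of (hV : V₁ ≤ Q (M₁.e ss)) (hU : UU (M₁.e nn) (M₁.e aa) ≤ Q (M₁.e aa)) : False := by
  have hC := calcN b hU
  have h1 : (1 : G) ∉ cls (centralizer ({M₁.e nn} : Set G)) (M₁.e aa) := by
    rintro ⟨g, -, h0⟩
    refine a_ne M₁ ?_
    have h1 : g⁻¹ * 1 * g = M₁.e aa := by rw [h0]; group
    rw [← h1]; group
  have h2 : M₁.e nn ∉ cls (centralizer ({M₁.e nn} : Set G)) (M₁.e aa) := by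
    rintro ⟨g, hg, h0⟩
    exact Base.conj_a_ne_n (mem_C.1 hg) h0.symm
  have h3 : M₁.e nn * M₁.e aa ∉ cls (centralizer ({M₁.e nn} : Set G)) (M₁.e aa) := by
    rintro ⟨g, hg, h0⟩
    rw [na] at h0
    exact b.conj_a_ne_s g h0.symm
  have hCon := BZero.conn hC (n := M₁.e nn) (fun g hg => mem_C.1 hg) (bb_cls b) (adj_bb b) h1 h2 h3
    (T := (S : Subgroup G) ⊓ centralizer ({M₁.e nn} : Set G)) (S.isPGroup'.to_le inf_le_left) inf_le_right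
    (fun t ht => b.dih₁.T_comm_a ht) (fun u hu hT => by rw [na]; exact b.mem_E4 hu hT)
  have hK := BZero.comm_all hC hCon (bb_cls b) (adj_bb b)
    (K := WW V₁ V₁ (M₁.e ss)) (fun y hy hya k hk => WW_norm (comm_s_of b (mem_C.1 hy) hya) hk)
    (fun k hk => E_comm b.dih₁ hV hk (le_WW₁ V₁ V₁ _ (M₁.e_mem _)))
    (fun k hk => E_comm b.dih₁ hV hk (le_WW₁ V₁ V₁ _ (M₁.e_mem _)))
  have hE := E_le_Qn b hV hK
  exact false_of' b hV hE hU fun d hd had => BZero.conj_b hC (bb_cls b) (adj_bb b) hd had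

end Cfsg.Agent.Omega.TTn.Beta

namespace Cfsg.Agent.Omega.TTn

universe u

theorem betaProp : BetaProp.{u} := by
  intro G _ _ S V L M h b hV hU
  exact Beta.false_of b hV hU

/-- **T-T, `n` not 2-central.** -/
theorem ttNon_main : Cfsg.Agent.Omega.S5.Main.TTNon.{u} := ttNon diProp betaProp

end Cfsg.Agent.Omega.TTn

end
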